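import Mathlib

/-!
# Linear maps of a vector space of dimension twenty over the field with two elements as lists of codes

An elementary abelian group with a list of twenty elements is read through codes `v < 2 ^ 20`; a matrix is the
list of the codes of the images of the basis.
-/

set_option autoImplicit false
set_option linter.unusedSectionVars false

namespace Cfsg.Lib.UnitarySixModule

/-- The `i`-th binary digit. -/
def bit (v i : ℕ) : Bool := Nat.beq (Nat.land (Nat.shiftRight v i) 1) 1

theorem bit_eq (v i : ℕ) : bit v i = v.testBit i := by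
  rw [bit, Nat.testBit]
  change (v >>> i &&& 1).beq 1 = (1 &&& v >>> i != 0)
  rw [Nat.and_comm, Nat.one_and_eq_mod_two]
  rcases Nat.mod_two_eq_zero_or_one (v >>> i) with h | h <;> rw [h] <;> rfl

theorem bit_xor (v w i : ℕ) : bit (Nat.xor v w) i = (bit v i ^^ bit w i) := by
  rw [bit_eq, bit_eq, bit_eq]
  exact Nat.testBit_xor v w i

theorem bit_zero (i : ℕ) : bit 0 i = false := by
  rw [bit_eq, Nat.zero_testBit]

theorem bit_two_pow (j i : ℕ) : bit (2 ^ j) i = decide (j = i) := by
  rw [bit_eq, Nat.testBit_two_pow]

/-- The entry of a list, zero beyond its end. -/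
def col : List ℕ → ℕ → ℕ
  | [], _ => 0
  | a :: _, 0 => a
  | _ :: l, n + 1 => col l n

theorem col_eq : ∀ (l : List ℕ) (n : ℕ), col l n = l.getD n 0
  | [], n => by simp [col]
  | a :: l, 0 => by simp [col]
  | a :: l, n + 1 => by simp [col, col_eq l n]

/-- The image of a vector under the matrix with the given columns, the first column being number `o`. -/
def appAux : List ℕ → ℕ → ℕ → ℕ → ℕ
  | [], _, _, acc => acc
  | m :: M, o, v, acc => appAux M (o + 1) v (if bit v o then Nat.xor acc m else acc)

/-- The image of a vector. -/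
def app (M : List ℕ) (v : ℕ) : ℕ := appAux M 0 v 0

theorem appAux_acc : ∀ (M : List ℕ) (o v acc : ℕ), appAux M o v acc = Nat.xor acc (appAux M o v 0)
  | [], o, v, acc => (Nat.xor_zero acc).symm
  | m :: M, o, v, acc => by
    simp only [appAux]
    rw [appAux_acc M (o + 1) v, appAux_acc M (o + 1) v (if bit v o then Nat.xor 0 m else 0)]
    change Nat.xor _ _ = acc ^^^ _
    split_ifs
    · show (acc ^^^ m) ^^^ _ = acc ^^^ ((0 ^^^ m) ^^^ _)
      rw [Nat.zero_xor, Nat.xor_assoc]
    · show acc ^^^ _ = acc ^^^ (0 ^^^ _)
      rw [Nat.zero_xor]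

/-- The product of two matrices. -/
def mulM (M N : List ℕ) : List ℕ := N.map (app M)

/-- The identity matrix. -/
def oneM : List ℕ := (List.range 20).map (2 ^ ·)

section Group

variable {X : Type*} [Group X]

/-- A list of twenty commuting involutions. -/
structure Sys (A : Subgroup X) (b : ℕ → X) : Prop where
  comm : ∀ x ∈ A, ∀ y ∈ A, x * y = y * x
  invol : ∀ x ∈ A, x * x = 1
  mem : ∀ i, i < 20 → b i ∈ A

/-- The element with a given code. -/
def evalTo (b : ℕ → X) : ℕ → ℕ → X
  | 0, _ => 1
  | n + 1, v => evalTo b n v * (if bit v n then b n else 1)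

/-- The element with a given code, twenty digits. -/
def eval (b : ℕ → X) (v : ℕ) : X := evalTo b 20 v

variable {A : Subgroup X} {b : ℕ → X} (s : Sys A b)
include s

theorem evalTo_mem (n : ℕ) (hn : n ≤ 20) (v : ℕ) : evalTo b n v ∈ A := by
  induction n with
  | zero => exact one_mem _
  | succ n ih =>
    refine mul_mem (ih (by omega)) ?_
    split_ifs
    · exact s.mem n (by omega)
    · exact one_mem _

theorem eval_mem (v : ℕ) : eval b v ∈ A := evalTo_mem s 20 le_rfl v

theorem evalTo_xor (n : ℕ) (hn : n ≤ 20) (v w : ℕ) :
    evalTo b n (Nat.xor v w) = evalTo b n v * evalTo b n w := by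
  induction n with
  | zero => simp [evalTo]
  | succ n ih =>
    simp only [evalTo, ih (by omega), bit_xor]
    set P := evalTo b n v
    set Q := evalTo b n w
    have hQ : Q ∈ A := evalTo_mem s n (by omega) w
    have hb := s.mem n (by omega)
    have hc := s.comm Q hQ (b n) hb
    have h2 := s.invol (b n) hb
    cases bit v n <;> cases bit w n <;> simp [mul_assoc, hc]
    all_goals simp [← mul_assoc, h2]

theorem eval_xor (v w : ℕ) : eval b (Nat.xor v w) = eval b v * eval b w := evalTo_xor s 20 le_rfl v w

theorem eval_zero : eval b 0 = 1 := by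
  have : ∀ n, evalTo b n 0 = (1 : X) := fun n => by
    induction n with
    | zero => rfl
    | succ n ih => simp [evalTo, ih, bit_zero]
  exact this 20

theorem eval_two_pow {i : ℕ} (hi : i < 20) : eval b (2 ^ i) = b i := by
  have : ∀ n, evalTo b n (2 ^ i) = if i < n then b i else (1 : X) := fun n => by
    induction n with
    | zero => simp [evalTo]
    | succ n ih =>
      simp only [evalTo, ih, bit_two_pow]
      rcases lt_trichotomy i n with h | h | h
      · simp [h, h.ne, Nat.lt_succ_of_lt h]
      · simp [h]
      · simp [h.ne', not_lt.2 h.le, Nat.not_lt.2 h]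
  rw [eval, this 20, if_pos hi]

omit s in
/-- An element acts by a matrix. -/
def Acts (b : ℕ → X) (k : X) (M : List ℕ) : Prop :=
  M.length = 20 ∧ ∀ i, i < 20 → k * b i * k⁻¹ = eval b (col M i)

theorem eval_appAux {c : ℕ → X} {k : X} : ∀ (M : List ℕ) (o v : ℕ), o + M.length ≤ 20 →
    (∀ i, i < M.length → k * c (o + i) * k⁻¹ = eval b (col M i)) →
    eval b (appAux M o v 0) = k * ((List.range M.length).map fun i => if bit v (o + i) then c (o + i) else 1).prod * k⁻¹
  | [], o, v, _, _ => by simp [appAux, eval_zero s]
  | m :: M, o, v, hlen, h => by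
    simp only [List.length_cons] at hlen h
    rw [appAux, appAux_acc, eval_xor s,
      eval_appAux M (o + 1) v (by omega) (fun i hi => by
        have := h (i + 1) (by omega)
        rwa [show o + (i + 1) = o + 1 + i by omega] at this),
      List.length_cons, List.range_succ_eq_map, List.map_cons, List.prod_cons, List.map_map]
    have h0 := h 0 (by omega)
    rw [Nat.add_zero] at h0 ⊢
    have hz : eval b (if bit v o then Nat.xor 0 m else 0) = k * (if bit v o then c o else 1) * k⁻¹ := by
      split_ifs
      · rw [show Nat.xor 0 m = m from Nat.zero_xor m, h0]; rfl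
      · rw [eval_zero s]; group
    rw [hz]
    have e : ((fun i => if bit v (o + i) then c (o + i) else 1) ∘ Nat.succ) =
        fun i => if bit v (o + 1 + i) then c (o + 1 + i) else 1 := by
      funext i
      simp [show o + Nat.succ i = o + 1 + i by omega]
    rw [e]
    group

omit s in
theorem evalTo_prod (n v : ℕ) :
    evalTo b n v = ((List.range n).map fun i => if bit v i then b i else 1).prod := by
  induction n with
  | zero => simp [evalTo]
  | succ n ih => simp [evalTo, ih, List.range_succ]

theorem Acts.apply {k : X} {M : List ℕ} (h : Acts b k M) (v : ℕ) :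
    k * eval b v * k⁻¹ = eval b (app M v) := by
  rw [app, eval_appAux s (c := b) (k := k) M 0 v (by rw [h.1]) (fun i hi => by
    rw [Nat.zero_add]; exact h.2 i (h.1 ▸ hi)), h.1, eval, evalTo_prod]
  simp

theorem Acts.mul {k l : X} {M N : List ℕ} (hk : Acts b k M) (hl : Acts b l N) :
    Acts b (k * l) (mulM M N) := by
  refine ⟨by rw [mulM, List.length_map, hl.1], fun i hi => ?_⟩
  rw [show col (mulM M N) i = app M (col N i) by
    rw [col_eq, col_eq, mulM, List.getD_eq_getElem _ _ (by rw [List.length_map, hl.1]; exact hi),
      List.getD_eq_getElem _ _ (by rw [hl.1]; exact hi), List.getElem_map]]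
  rw [← hk.apply s, ← hl.2 i hi]
  group

theorem acts_one : Acts b (1 : X) oneM := by
  refine ⟨by simp [oneM], fun i hi => ?_⟩
  rw [col_eq, oneM, List.getD_eq_getElem _ _ (by simpa using hi), List.getElem_map, List.getElem_range,
    eval_two_pow s hi]
  group

end Group

end Cfsg.Lib.UnitarySixModule
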