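import Cfsg.Agent.Lib.UnitarySixModule.Frame

/-!
# Strong closure modulo a central part

For `B ≤ A` such that the centralisers of all larger parts of `A` lie in the normalizer, a conjugate in `C(B)`
of an element of `A ∖ B` that lies in the normalizer lies in `A`: otherwise an elementary abelian subgroup of
`K` would centralise too much of `A`.
-/

set_option autoImplicit false
set_option linter.unusedSectionVars false

namespace Cfsg.Lib.UnitarySixModule

variable {X : Type*} [Group X]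

/-- The hypothesis of the descending induction at `B`. -/
structure Step (A K K0 H B : Subgroup X) : Prop extends Situation A K K0 H where
  B_le : B ≤ A
  above : ∀ B' : Subgroup X, B < B' → B' ≤ A → Subgroup.centralizer (B' : Set X) ≤ H

namespace Step

variable [Finite X] {A K K0 H B : Subgroup X} (t : Step A K K0 H B)
include t

theorem A_le_cent : A ≤ Subgroup.centralizer (B : Set X) := fun a ha =>
  Subgroup.mem_centralizer_iff.2 fun b hb => t.comm b (t.B_le hb) a ha

theorem B_le_cent : B ≤ Subgroup.centralizer (B : Set X) := t.B_le.trans t.A_le_cent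

/-- Elements that centralise `B` and an element of `A ∖ B` lie in the normalizer. -/
theorem mem_of_commute_one {g a : X} (hg : g ∈ Subgroup.centralizer (B : Set X)) (ha : a ∈ A)
    (haB : a ∉ B) (hga : g * a = a * g) : g ∈ H := by
  refine t.above (B ⊔ Subgroup.zpowers a) (left_lt_sup.2 fun h => haB (h (Subgroup.mem_zpowers a)))
    (sup_le t.B_le (Subgroup.zpowers_le.2 ha)) ?_
  rw [Subgroup.mem_centralizer_iff]
  intro b hb
  have hle : B ⊔ Subgroup.zpowers a ≤ Subgroup.centralizer ({g} : Set X) :=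
    sup_le (fun b hb => Subgroup.mem_centralizer_singleton_iff.2 (Subgroup.mem_centralizer_iff.1 hg b hb))
      (Subgroup.zpowers_le.2 (Subgroup.mem_centralizer_singleton_iff.2 hga.symm))
  exact Subgroup.mem_centralizer_singleton_iff.1 (hle hb)

/-- An element moving an element of `A ∖ B` to one modulo `B` lies in the normalizer. -/
theorem mem_of_conj {x a b : X} (hx : x ∈ Subgroup.centralizer (B : Set X)) (ha : a ∈ A) (hb : b ∈ A)
    (hbB : b ∉ B) (h : (x * a * x⁻¹) * b⁻¹ ∈ B) : x ∈ H := by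
  refine t.mem_of_map_le ?_
  rintro _ ⟨z, hz, rfl⟩
  show x * z * x⁻¹ ∈ H
  have hc : x * z * x⁻¹ ∈ Subgroup.centralizer (B : Set X) :=
    mul_mem (mul_mem hx (t.A_le_cent hz)) (inv_mem hx)
  refine t.mem_of_commute_one hc hb hbB ?_
  have e : b = ((x * a * x⁻¹) * b⁻¹)⁻¹ * (x * a * x⁻¹) := by group
  have h1 : Commute (x * z * x⁻¹) (x * a * x⁻¹) :=
    Commute.map (show Commute z a from t.comm z hz a ha) (MulAut.conj x).toMonoidHom
  have h2 : Commute (x * z * x⁻¹) ((x * a * x⁻¹) * b⁻¹) :=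
    (Subgroup.mem_centralizer_iff.1 hc _ h).symm
  show Commute (x * z * x⁻¹) b
  rw [e]
  exact h2.inv_right.mul_right h1

/-- The part of `A` centralising `h` modulo `B` is large and lies in every conjugate `g H g⁻¹` that has `h`
in the conjugate of `A`. -/
theorem exists_fix_mod {g a : X} (hg : g ∈ Subgroup.centralizer (B : Set X)) (ha : a ∈ A) (haB : a ∉ B)
    (hh : g * a * g⁻¹ ∈ H) :
    ∃ P : Subgroup X, P ≤ A ⊓ H.map (MulAut.conj g).toMonoidHom ∧
      A ⊓ Subgroup.centralizer ({g * a * g⁻¹} : Set X) ≤ P ∧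
      Nat.card A * Nat.card B ≤ Nat.card P * Nat.card P := by
  set y := g * a * g⁻¹ with hy
  have hyy : y * y = 1 := by
    rw [hy, show g * a * g⁻¹ * (g * a * g⁻¹) = g * (a * a) * g⁻¹ by group, t.invol a ha, mul_one,
      mul_inv_cancel]
  have hyA : ∀ z ∈ A, y * z * y⁻¹ ∈ A := fun z hz => t.normal_H hh hz
  have hyC : y ∈ Subgroup.centralizer (B : Set X) := mul_mem (mul_mem hg (t.A_le_cent ha)) (inv_mem hg)
  let ψ : ↥A →* ↥A :=
    { toFun := fun z => ⟨(z : X) * (y * z * y⁻¹), mul_mem z.2 (hyA _ z.2)⟩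
      map_one' := Subtype.ext (by simp)
      map_mul' := by
        rintro ⟨u, hu⟩ ⟨v, hv⟩
        refine Subtype.ext ?_
        show u * v * (y * (u * v) * y⁻¹) = u * (y * u * y⁻¹) * (v * (y * v * y⁻¹))
        rw [show y * (u * v) * y⁻¹ = (y * u * y⁻¹) * (y * v * y⁻¹) by group]
        calc u * v * ((y * u * y⁻¹) * (y * v * y⁻¹)) = u * (v * (y * u * y⁻¹)) * (y * v * y⁻¹) := by group
          _ = u * ((y * u * y⁻¹) * v) * (y * v * y⁻¹) := by rw [t.comm v hv _ (hyA u hu)]
          _ = _ := by group }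
  let B' := B.subgroupOf A
  let P' : Subgroup ↥A := B'.comap ψ
  have hnormal : B'.Normal := ⟨fun n hn z => by
    rwa [show z * n * z⁻¹ = n from Subtype.ext (by
      show (z : X) * n * (z : X)⁻¹ = n
      rw [t.comm _ z.2 _ n.2, mul_inv_cancel_right])]⟩
  have hsq : ∀ z : ↥A, ψ z ∈ P' := fun z => by
    show ψ (ψ z) ∈ B'
    have : ψ (ψ z) = 1 := Subtype.ext (by
      show (z : X) * (y * z * y⁻¹) * (y * ((z : X) * (y * z * y⁻¹)) * y⁻¹) = 1
      have hinv : y⁻¹ = y := inv_eq_of_mul_eq_one_right hyy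
      rw [show y * ((z : X) * (y * z * y⁻¹)) * y⁻¹ = (y * z * y⁻¹) * (y * y) * z * (y⁻¹ * y⁻¹) by group,
        hinv, hyy, mul_one, mul_one]
      calc (z : X) * (y * z * y) * (y * z * y * z) = (z : X) * ((y * z * y) * (y * z * y)) * z := by group
        _ = 1 := by
          rw [show y * (z : X) * y * (y * z * y) = y * z * (y * y) * z * y by group, hyy, mul_one,
            mul_assoc y (z : X) z, t.invol _ z.2, mul_one, hyy, mul_one, t.invol _ z.2])
    rw [this]
    exact one_mem _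
  let q : ↥A →* ↥A ⧸ B' := (QuotientGroup.mk' B').comp ψ
  have hker : q.ker = P' := by
    ext z
    exact QuotientGroup.eq_one_iff (N := B') (ψ z)
  have hBP : B' ≤ P' := fun z hz => by
    show ψ z ∈ B'
    rw [Subgroup.mem_subgroupOf]
    show (z : X) * (y * z * y⁻¹) ∈ B
    rw [← Subgroup.mem_centralizer_iff.1 hyC (z : X) (Subgroup.mem_subgroupOf.1 hz), mul_inv_cancel_right,
      t.invol _ z.2]
    exact one_mem _
  have hrange : q.range ≤ P'.map (QuotientGroup.mk' B') := by
    rintro _ ⟨z, rfl⟩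
    exact ⟨ψ z, hsq z, rfl⟩
  have h1 : Nat.card P' * Nat.card q.range = Nat.card A := by
    rw [← hker, ← Subgroup.index_ker, Subgroup.card_mul_index]
  have h2 : Nat.card (P'.map (QuotientGroup.mk' B')) * Nat.card B' = Nat.card P' := by
    rw [← Subgroup.relIndex_ker, QuotientGroup.ker_mk']
    have := Subgroup.card_mul_index (B'.subgroupOf P')
    rw [Nat.card_congr (Subgroup.subgroupOfEquivOfLe hBP).toEquiv, mul_comm] at this
    exact this
  have hB'card : Nat.card B' = Nat.card B := Nat.card_congr (Subgroup.subgroupOfEquivOfLe t.B_le).toEquiv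
  have hP'card : Nat.card (P'.map A.subtype) = Nat.card P' :=
    (Nat.card_congr (P'.equivMapOfInjective A.subtype A.subtype_injective).toEquiv).symm
  refine ⟨P'.map A.subtype, ?_, ?_, ?_⟩
  · rintro _ ⟨z, hz, rfl⟩
    refine ⟨z.2, g⁻¹ * z * g, ?_, by show g * (g⁻¹ * (z : X) * g) * g⁻¹ = z; group⟩
    have hzB : (z : X) * (y * z * y⁻¹) ∈ B := Subgroup.mem_subgroupOf.1 hz
    have hx : g⁻¹ * z * g ∈ Subgroup.centralizer (B : Set X) :=
      mul_mem (mul_mem (inv_mem hg) (t.A_le_cent z.2)) hg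
    refine t.mem_of_conj hx ha ha haB ?_
    have e : g⁻¹ * (z : X) * g * a * (g⁻¹ * (z : X) * g)⁻¹ * a⁻¹ =
        g⁻¹ * ((z : X) * (y * (z : X)⁻¹ * y⁻¹)) * g := by
      rw [hy]; group
    rw [e, t.toCtx.inv_eq z.2]
    have h3 := Subgroup.mem_centralizer_iff.1 hg _ hzB
    rw [mul_assoc, h3, inv_mul_cancel_left]
    exact hzB
  · rintro z ⟨hzA, hzc⟩
    refine ⟨⟨z, hzA⟩, ?_, rfl⟩
    show ψ ⟨z, hzA⟩ ∈ B'
    rw [Subgroup.mem_subgroupOf]
    show z * (y * z * y⁻¹) ∈ B
    rw [← Subgroup.mem_centralizer_singleton_iff.1 hzc, mul_inv_cancel_right, t.invol z hzA]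
    exact one_mem _
  · have h3 : Nat.card q.range * Nat.card B ≤ Nat.card P' := by
      rw [← hB'card, ← h2]
      exact Nat.mul_le_mul (Subgroup.card_le_of_le hrange) le_rfl
    rw [hP'card, ← h1, mul_assoc]
    exact Nat.mul_le_mul le_rfl h3

theorem map_mem_cent {g : X} (hg : g ∈ Subgroup.centralizer (B : Set X)) :
    A.map (MulAut.conj g).toMonoidHom ≤ Subgroup.centralizer (B : Set X) := by
  rintro _ ⟨z, hz, rfl⟩
  exact mul_mem (mul_mem hg (t.A_le_cent hz)) (inv_mem hg)

theorem inf_map_eq {g : X} (hg : g ∈ Subgroup.centralizer (B : Set X)) (hgH : g ∉ H) :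
    A ⊓ A.map (MulAut.conj g).toMonoidHom = B := by
  refine le_antisymm ?_ (le_inf t.B_le fun b hb => ⟨b, t.B_le hb, ?_⟩)
  · rintro z ⟨hzA, c, hc, hcz⟩
    by_contra hzB
    apply hgH
    refine t.mem_of_conj hg hc hzA hzB ?_
    rw [show g * c * g⁻¹ = z from hcz, mul_inv_cancel]
    exact one_mem _
  · show g * b * g⁻¹ = b
    rw [← Subgroup.mem_centralizer_iff.1 hg b hb, mul_inv_cancel_right]

/-- The image in `K` of a conjugate of `A` meeting the normalizer. -/
theorem img_facts {g : X} (hg : g ∈ Subgroup.centralizer (B : Set X)) (hgH : g ∉ H) :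
    ∀ L : Subgroup X, L = A.map (MulAut.conj g).toMonoidHom ⊓ H →
      (∀ p ∈ t.toCtx.img L, ∀ q ∈ t.toCtx.img L, p * q = q * p) ∧ (∀ p ∈ t.toCtx.img L, p * p = 1) ∧
      Nat.card L = Nat.card B * Nat.card (t.toCtx.img L) ∧
      B ≤ A ⊓ Subgroup.centralizer ((t.toCtx.img L : Subgroup X) : Set X) := by
  intro L hL
  have hLH : L ≤ A ⊔ K := by rw [t.hsup, hL]; exact inf_le_right
  have hcomm : ∀ p ∈ L, ∀ q ∈ L, p * q = q * p := by
    rw [hL]
    rintro _ ⟨⟨p, hp, rfl⟩, -⟩ _ ⟨⟨q, hq, rfl⟩, -⟩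
    rw [← map_mul, ← map_mul, t.comm p hp q hq]
  have hinv : ∀ p ∈ L, p * p = 1 := by
    rw [hL]
    rintro _ ⟨⟨p, hp, rfl⟩, -⟩
    rw [← map_mul, t.invol p hp, map_one]
  refine ⟨?_, ?_, ?_, ?_⟩
  · rintro _ ⟨_, ⟨u, hu, rfl⟩, rfl⟩ _ ⟨_, ⟨v, hv, rfl⟩, rfl⟩
    rw [← map_mul, ← map_mul, ← map_mul, ← map_mul,
      show u * v = v * u from Subtype.ext (hcomm _ hu _ hv)]
  · rintro _ ⟨_, ⟨u, hu, rfl⟩, rfl⟩
    rw [← map_mul, ← map_mul, show u * u = 1 from Subtype.ext (hinv _ hu), map_one, map_one]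
  · rw [t.toCtx.card_img hLH]
    congr 2
    rw [hL, ← inf_assoc, t.inf_map_eq hg hgH, inf_eq_left.2 (t.B_le.trans t.A_le)]
  · intro b hb
    refine ⟨t.B_le hb, Subgroup.mem_centralizer_iff.2 fun k hk => ?_⟩
    obtain ⟨-, a, ha, hak⟩ := (t.toCtx.mem_img hLH).1 hk
    refine (t.toCtx.commute_comp ha (t.B_le hb)).1 ?_
    have hmem : a * k ∈ Subgroup.centralizer (B : Set X) := by
      rw [hL] at hak
      exact t.map_mem_cent hg hak.1
    exact (Subgroup.mem_centralizer_iff.1 hmem b hb).symm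

/-- Intersecting subgroups of index at most two along an elementary abelian group. -/
theorem le_card_inter {P : Subgroup X} :
    ∀ r : ℕ, ∀ R : Subgroup X, Nat.card R = 2 ^ r → (∀ a ∈ R, a * a = 1) →
      (∀ k ∈ R, k ≠ 1 → Nat.card P ≤ 2 * Nat.card ↥(P ⊓ Subgroup.centralizer ({k} : Set X))) →
      Nat.card P ≤ 2 ^ r * Nat.card ↥(P ⊓ Subgroup.centralizer (R : Set X)) := by
  intro r
  induction r with
  | zero =>
    intro R hR _ _
    have : R = ⊥ := Subgroup.card_eq_one.1 (by simpa using hR)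
    subst this
    rw [pow_zero, one_mul]
    exact Subgroup.card_le_of_le (le_inf le_rfl fun z _ => by simp [Subgroup.mem_centralizer_iff])
  | succ r ih =>
    intro R hR hi hk
    have : Fact (Nat.Prime 2) := ⟨Nat.prime_two⟩
    have hdvd : 2 ^ r ∣ Nat.card R := by rw [hR]; exact pow_dvd_pow 2 r.le_succ
    obtain ⟨R1, hR1⟩ := Sylow.exists_subgroup_card_pow_prime 2 hdvd
    set R' := R1.map R.subtype with hR'
    have hR'c : Nat.card R' = 2 ^ r := by
      rw [hR', ← hR1]
      exact (Nat.card_congr (R1.equivMapOfInjective R.subtype R.subtype_injective).toEquiv).symm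
    have hR'le : R' ≤ R := Subgroup.map_subtype_le _
    obtain ⟨k, hkR, hkR'⟩ : ∃ k ∈ R, k ∉ R' := by
      by_contra hcon
      push Not at hcon
      have := Subgroup.card_le_of_le (H := R) (K := R') hcon
      rw [hR, hR'c, pow_succ] at this
      have := Nat.one_le_two_pow (n := r)
      omega
    have hgen : R = R' ⊔ Subgroup.zpowers k := by
      refine le_antisymm ?_ (sup_le hR'le (Subgroup.zpowers_le.2 hkR))
      have hlt : R' < R' ⊔ Subgroup.zpowers k :=
        left_lt_sup.2 fun h => hkR' (h (Subgroup.mem_zpowers k))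
      have hd := Subgroup.card_dvd_of_le (sup_le hR'le (Subgroup.zpowers_le.2 hkR))
      obtain ⟨j, hj, hje⟩ := (Nat.dvd_prime_pow Nat.prime_two).1 (hR ▸ hd)
      have hlt' : Nat.card R' < Nat.card ↥(R' ⊔ Subgroup.zpowers k) := by
        refine lt_of_le_of_ne (Subgroup.card_le_of_le hlt.le) fun e => hlt.ne ?_
        exact Subgroup.eq_of_le_of_card_ge hlt.le e.ge
      rw [hR'c, hje] at hlt'
      have : r < j := (Nat.pow_lt_pow_iff_right (by norm_num)).1 hlt'
      have hjr : j = r + 1 := by omega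
      exact (Subgroup.eq_of_le_of_card_ge (sup_le hR'le (Subgroup.zpowers_le.2 hkR))
        (by rw [hje, hjr, hR])).ge
    have h1 := ih R' hR'c (fun a ha => hi a (hR'le ha)) (fun a ha => hk a (hR'le ha))
    have hk1 : k ≠ 1 := fun e => hkR' (e ▸ one_mem _)
    have h2 := hk k hkR hk1
    set U := P ⊓ Subgroup.centralizer (R' : Set X) with hU
    set V := P ⊓ Subgroup.centralizer ({k} : Set X) with hV
    have hUV : U ⊓ V ≤ P ⊓ Subgroup.centralizer (R : Set X) := by
      rintro z ⟨⟨hzP, hz1⟩, -, hz2⟩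
      refine ⟨hzP, Subgroup.mem_centralizer_iff.2 fun m hm => ?_⟩
      have hle : R' ⊔ Subgroup.zpowers k ≤ Subgroup.centralizer ({z} : Set X) :=
        sup_le (fun m hm => Subgroup.mem_centralizer_singleton_iff.2 (Subgroup.mem_centralizer_iff.1 hz1 m hm))
          (Subgroup.zpowers_le.2 (Subgroup.mem_centralizer_singleton_iff.2
            (Subgroup.mem_centralizer_singleton_iff.1 hz2).symm))
      rw [hgen] at hm
      exact Subgroup.mem_centralizer_singleton_iff.1 (hle hm)
    have hidx : V.relIndex P ≤ 2 := by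
      have h3 := Subgroup.card_mul_index (V.subgroupOf P)
      rw [Nat.card_congr (Subgroup.subgroupOfEquivOfLe (inf_le_left : V ≤ P)).toEquiv] at h3
      have hpos : 0 < Nat.card V := Nat.card_pos
      change (V.subgroupOf P).index ≤ 2
      nlinarith
    have h4 : V.relIndex U ≤ 2 :=
      (Subgroup.relIndex_le_of_le_right (inf_le_left : U ≤ P) Subgroup.FiniteIndex.index_ne_zero).trans hidx
    have h5 := Subgroup.card_mul_index (V.subgroupOf U)
    have h6 : Nat.card (V.subgroupOf U) = Nat.card ↥(U ⊓ V) :=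
      Nat.card_congr ⟨fun x => ⟨x.1.1, ⟨x.1.2, x.2⟩⟩, fun x => ⟨⟨x.1, x.2.1⟩, x.2.2⟩, fun _ => rfl,
        fun _ => rfl⟩
    rw [h6] at h5
    have h7 : Nat.card U ≤ 2 * Nat.card ↥(P ⊓ Subgroup.centralizer (R : Set X)) := by
      rw [← h5, mul_comm 2]
      exact Nat.mul_le_mul (Subgroup.card_le_of_le hUV) h4
    calc Nat.card P ≤ 2 ^ r * Nat.card U := h1
      _ ≤ 2 ^ r * (2 * Nat.card ↥(P ⊓ Subgroup.centralizer (R : Set X))) := Nat.mul_le_mul le_rfl h7
      _ = _ := by ring

end Step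

end Cfsg.Lib.UnitarySixModule
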