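import Cfsg.Agent.Lib.UnitarySixModule.Bits

/-!
# Coordinates on an elementary abelian group of order `2 ^ 20` and bounds for fixed points

A certificate `⟨L, P, π⟩` for a list of matrices `Mᵢ` states the identity `v = Σ Lᵢ((Mᵢ + 1) v) + P(π v)`, so that a
common fixed vector is determined by the `f` digits of `π v`.
-/

set_option autoImplicit false
set_option linter.unusedSectionVars false

namespace Cfsg.Lib.UnitarySixModule

/-- The sum of the parts `Lᵢ((Mᵢ + 1) v)`. -/
def certSum : List (List ℕ) → List (List ℕ) → ℕ → ℕ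
  | M :: Ms, L :: Ls, v => Nat.xor (app L (Nat.xor (app M v) v)) (certSum Ms Ls v)
  | _, _, _ => 0

/-- The check of a certificate on the basis. -/
def certOk (f : ℕ) (Ms Ls : List (List ℕ)) (P π : List ℕ) : Bool :=
  (List.range 20).all fun i =>
    Nat.beq (Nat.xor (certSum Ms Ls (2 ^ i)) (app P (app π (2 ^ i)))) (2 ^ i) &&
      Nat.ble (col π i + 1) (2 ^ f)

theorem xor_four (a b c d : ℕ) :
    Nat.xor (Nat.xor a b) (Nat.xor c d) = Nat.xor (Nat.xor a c) (Nat.xor b d) := by
  show a ^^^ b ^^^ (c ^^^ d) = a ^^^ c ^^^ (b ^^^ d)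
  simp [Nat.xor_assoc, Nat.xor_left_comm]

theorem app_xor (M : List ℕ) (v w : ℕ) : app M (Nat.xor v w) = Nat.xor (app M v) (app M w) := by
  suffices ∀ o, appAux M o (Nat.xor v w) 0 = Nat.xor (appAux M o v 0) (appAux M o w 0) from this 0
  induction M with
  | nil => intro o; simp only [appAux]; exact (Nat.xor_zero 0).symm
  | cons m M ih =>
    intro o
    simp only [appAux, bit_xor]
    rw [appAux_acc M (o + 1) (Nat.xor v w), appAux_acc M (o + 1) v, appAux_acc M (o + 1) w, ih]
    cases bit v o <;> cases bit w o <;>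
      simp only [Bool.false_xor, Bool.true_xor, Bool.not_false, Bool.not_true, if_true, if_false,
        Bool.false_eq_true]
    all_goals
      show (_ : ℕ) ^^^ (_ ^^^ _) = (_ ^^^ _) ^^^ (_ ^^^ _)
      simp [Nat.xor_assoc, Nat.xor_left_comm]

theorem app_zero (M : List ℕ) : app M 0 = 0 := by
  have := app_xor M 0 0
  rw [show Nat.xor 0 0 = 0 from rfl] at this
  exact this.trans (Nat.xor_self _)

theorem appAux_lt {f : ℕ} : ∀ (M : List ℕ) (o v acc : ℕ), acc < 2 ^ f → (∀ m ∈ M, m < 2 ^ f) →
    appAux M o v acc < 2 ^ f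
  | [], _, _, _, h, _ => h
  | m :: M, o, v, acc, h, hm => by
    refine appAux_lt M _ _ _ ?_ fun x hx => hm x (List.mem_cons_of_mem _ hx)
    split_ifs
    · exact Nat.xor_lt_two_pow h (hm m (List.mem_cons_self ..))
    · exact h

theorem linear_ext {g h : ℕ → ℕ} (hg : ∀ v w, g (Nat.xor v w) = Nat.xor (g v) (g w))
    (hh : ∀ v w, h (Nat.xor v w) = Nat.xor (h v) (h w)) :
    ∀ n, (∀ i, i < n → g (2 ^ i) = h (2 ^ i)) → ∀ v, v < 2 ^ n → g v = h v := by
  have z : ∀ k : ℕ → ℕ, (∀ v w, k (Nat.xor v w) = Nat.xor (k v) (k w)) → k 0 = 0 := fun k hk =>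
    (hk 0 0).trans (Nat.xor_self _)
  intro n
  induction n with
  | zero =>
    intro _ v hv
    rw [show v = 0 by simpa using hv, z g hg, z h hh]
  | succ n ih =>
    intro hi v hv
    by_cases hlt : v < 2 ^ n
    · exact ih (fun i hin => hi i (by omega)) v hlt
    · have hw : Nat.xor (2 ^ n) v < 2 ^ n := by
        show 2 ^ n ^^^ v < 2 ^ n
        refine Nat.lt_pow_two_of_testBit _ fun j hj => ?_
        rw [Nat.testBit_xor, Nat.testBit_two_pow]
        rcases eq_or_lt_of_le hj with rfl | hj'
        · have : v.testBit n = true := by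
            rw [Nat.testBit, Nat.one_and_eq_mod_two, Nat.shiftRight_eq_div_pow]
            have h2 : v / 2 ^ n = 1 := by
              apply Nat.div_eq_of_lt_le <;> rw [pow_succ] at hv <;> omega
            simp [h2]
          simp [this]
        · have : v.testBit j = false := Nat.testBit_lt_two_pow
            (lt_of_lt_of_le hv (Nat.pow_le_pow_right (by norm_num) hj'))
          simp [this, hj'.ne]
      have e : v = Nat.xor (2 ^ n) (Nat.xor (2 ^ n) v) := by
        show v = 2 ^ n ^^^ (2 ^ n ^^^ v)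
        rw [← Nat.xor_assoc, Nat.xor_self, Nat.zero_xor]
      rw [e, hg, hh, hi n (by omega), ih (fun i hin => hi i (by omega)) _ hw]

theorem certSum_xor : ∀ (Ms Ls : List (List ℕ)) (v w : ℕ),
    certSum Ms Ls (Nat.xor v w) = Nat.xor (certSum Ms Ls v) (certSum Ms Ls w)
  | [], _, _, _ => by simp only [certSum]; exact (Nat.xor_zero 0).symm
  | _ :: _, [], _, _ => by simp only [certSum]; exact (Nat.xor_zero 0).symm
  | M :: Ms, L :: Ls, v, w => by
    simp only [certSum]
    rw [certSum_xor Ms Ls, app_xor M, xor_four (app M v) (app M w) v w, app_xor L]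
    exact xor_four _ _ _ _

theorem certSum_zero : ∀ (Ms Ls : List (List ℕ)) (v : ℕ), (∀ M ∈ Ms, app M v = v) → certSum Ms Ls v = 0
  | [], _, _, _ => rfl
  | _ :: _, [], _, _ => rfl
  | M :: Ms, L :: Ls, v, h => by
    simp only [certSum]
    rw [h M (List.mem_cons_self ..), show Nat.xor v v = 0 from Nat.xor_self v, app_zero,
      certSum_zero Ms Ls v fun N hN => h N (List.mem_cons_of_mem _ hN)]
    rfl

theorem cert_sound {f : ℕ} {Ms Ls : List (List ℕ)} {P π : List ℕ} (hc : certOk f Ms Ls P π = true)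
    {v : ℕ} (hv : v < 2 ^ 20) (hfix : ∀ M ∈ Ms, app M v = v) : app P (app π v) = v := by
  rw [certOk, List.all_eq_true] at hc
  have h := linear_ext (g := fun x => Nat.xor (certSum Ms Ls x) (app P (app π x))) (h := fun x => x)
    (fun x y => by
      show Nat.xor (certSum Ms Ls (Nat.xor x y)) (app P (app π (Nat.xor x y))) = _
      rw [certSum_xor, app_xor π, app_xor P]
      exact xor_four _ _ _ _)
    (fun x y => rfl) 20 (fun i hi => by
      have := hc i (List.mem_range.2 hi)
      rw [Bool.and_eq_true] at this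
      exact Nat.eq_of_beq_eq_true this.1) v hv
  simp only [certSum_zero Ms Ls v hfix] at h
  exact (Nat.zero_xor _).symm.trans h

theorem cert_lt {f : ℕ} {Ms Ls : List (List ℕ)} {P π : List ℕ} (hc : certOk f Ms Ls P π = true)
    (hlen : π.length ≤ 20) (v : ℕ) : app π v < 2 ^ f := by
  rw [certOk, List.all_eq_true] at hc
  refine appAux_lt π 0 v 0 (by positivity) fun m hm => ?_
  obtain ⟨i, hi, rfl⟩ := List.getElem_of_mem hm
  have := hc i (List.mem_range.2 (by omega))
  rw [Bool.and_eq_true] at this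
  have h2 := Nat.le_of_ble_eq_true this.2
  rw [col_eq, List.getD_eq_getElem _ _ hi] at h2
  omega

section Group

variable {X : Type*} [Group X] {A : Subgroup X} {b : ℕ → X}

/-- A basis of an elementary abelian group of order `2 ^ 20`. -/
structure Coord (A : Subgroup X) (b : ℕ → X) : Prop extends Sys A b where
  card : Nat.card A = 2 ^ 20
  spans : ∀ x ∈ A, ∃ v, v < 2 ^ 20 ∧ eval b v = x

variable [Finite X] (c : Coord A b)
include c

theorem Coord.injective {v w : ℕ} (hv : v < 2 ^ 20) (hw : w < 2 ^ 20) (h : eval b v = eval b w) : v = w := by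
  let φ : Fin (2 ^ 20) → ↥A := fun x => ⟨eval b x, eval_mem c.toSys x⟩
  have hs : Function.Surjective φ := fun x => by
    obtain ⟨u, hu, he⟩ := c.spans x x.2
    exact ⟨⟨u, hu⟩, Subtype.ext he⟩
  have hb := (Nat.bijective_iff_surjective_and_card φ).2 ⟨hs, by rw [Nat.card_fin, c.card]⟩
  exact congrArg Fin.val (hb.1 (show φ ⟨v, hv⟩ = φ ⟨w, hw⟩ from Subtype.ext h))

/-- The matrix of an element sends codes to codes. -/
def Small (M : List ℕ) : Bool := Nat.beq M.length 20 && M.all fun m => Nat.ble (m + 1) (2 ^ 20)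

omit c in
theorem Small.app_lt {M : List ℕ} (h : Small M = true) (v : ℕ) : app M v < 2 ^ 20 := by
  rw [Small, Bool.and_eq_true, List.all_eq_true] at h
  refine appAux_lt M 0 v 0 (by norm_num) fun m hm => ?_
  have := Nat.le_of_ble_eq_true (h.2 m hm)
  omega

theorem Coord.fix_of_commute {k : X} {M : List ℕ} (hk : Acts b k M) (hM : Small M = true) {v : ℕ}
    (hv : v < 2 ^ 20) (h : k * eval b v * k⁻¹ = eval b v) : app M v = v := by
  rw [hk.apply c.toSys] at h
  exact c.injective (Small.app_lt hM v) hv h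

/-- A certificate bounds the fixed points of a family of elements. -/
theorem Coord.card_fix_le {f : ℕ} {ks : List (X × List ℕ)} {Ls : List (List ℕ)} {P π : List ℕ}
    (hks : ∀ km ∈ ks, Acts b km.1 km.2 ∧ Small km.2 = true) (hlen : π.length ≤ 20)
    (hc : certOk f (ks.map Prod.snd) Ls P π = true) {S : Subgroup X} (hS : S ≤ A)
    (hfix : ∀ km ∈ ks, ∀ a ∈ S, km.1 * a * km.1⁻¹ = a) : Nat.card S ≤ 2 ^ f := by
  classical
  have hex : ∀ a : ↥S, ∃ v, v < 2 ^ 20 ∧ eval b v = (a : X) := fun a => c.spans a (hS a.2)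
  let code : ↥S → ℕ := fun a => (hex a).choose
  have h1 : ∀ a : ↥S, code a < 2 ^ 20 ∧ eval b (code a) = (a : X) := fun a => (hex a).choose_spec
  have h2 : ∀ a : ↥S, app P (app π (code a)) = code a := fun a => by
    refine cert_sound hc (h1 a).1 fun M hM => ?_
    obtain ⟨km, hkm, rfl⟩ := List.mem_map.1 hM
    exact c.fix_of_commute (hks km hkm).1 (hks km hkm).2 (h1 a).1
      (by rw [(h1 a).2]; exact hfix km hkm a a.2)
  let g : ↥S → Fin (2 ^ f) := fun a => ⟨app π (code a), cert_lt hc hlen _⟩
  have hg : Function.Injective g := fun a a' h => Subtype.ext (by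
    rw [← (h1 a).2, ← (h1 a').2, ← h2 a, ← h2 a', show app π (code a) = app π (code a') from congrArg Fin.val h])
  simpa using Nat.card_le_card_of_injective g hg

theorem Coord.matrix_unique {k : X} {M N : List ℕ} (hM : Acts b k M) (hN : Acts b k N)
    (hMs : Small M = true) (hNs : Small N = true) : M = N := by
  refine List.ext_getElem (by rw [hM.1, hN.1]) fun i hi hi' => ?_
  have h1 := hM.2 i (hM.1 ▸ hi)
  have h2 := hN.2 i (hM.1 ▸ hi)
  rw [col_eq, List.getD_eq_getElem _ _ hi] at h1
  rw [col_eq, List.getD_eq_getElem _ _ hi'] at h2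
  rw [Small, Bool.and_eq_true, List.all_eq_true] at hMs hNs
  have l1 := Nat.le_of_ble_eq_true (hMs.2 _ (List.getElem_mem hi))
  have l2 := Nat.le_of_ble_eq_true (hNs.2 _ (List.getElem_mem hi'))
  exact c.injective (by omega) (by omega) (h1.symm.trans h2)

/-- An element acting by the identity matrix centralises `A`. -/
theorem Coord.commute_of_one {k : X} (h : Acts b k oneM) {a : X} (ha : a ∈ A) : k * a * k⁻¹ = a := by
  obtain ⟨v, hv, rfl⟩ := c.spans a ha
  rw [h.apply c.toSys]
  congr 1
  exact linear_ext (g := app oneM) (h := fun x => x) (app_xor oneM) (fun x y => rfl) 20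
    (fun i hi => by
      have : ∀ j : Fin 20, app oneM (2 ^ (j : ℕ)) = 2 ^ (j : ℕ) := by decide +kernel
      exact this ⟨i, hi⟩) v hv

end Group

end Cfsg.Lib.UnitarySixModule
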