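import Mathlib

/-!
# Tables for the monomial subgroup of PSU(6, 2) on its module
-/

set_option autoImplicit false

namespace Cfsg.Lib.UnitarySixModule

/-- The characters, one of each pair, in three orbits of sizes 10, 15 and 15. -/
def orbitTen : List ℕ := [9, 48, 57, 3, 34, 70, 16, 19, 46, 55]

/-- The characters of the orbits, with a letter and an earlier member leading to each. -/
def orbitPaths : List (List (ℕ × ℕ × ℕ)) := [
  [(9, 0, 9), (48, 2, 9), (34, 1, 48), (57, 3, 48), (55, 0, 34), (70, 3, 34), (3, 4, 57), (46, 3, 55), (19, 2, 70), (16, 4, 70)],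
  [(1, 0, 1), (7, 0, 1), (28, 4, 1), (21, 1, 7), (61, 4, 7), (64, 3, 28), (63, 2, 21), (75, 4, 21), (52, 3, 61), (22, 2, 64), (27, 3, 63), (36, 4, 63), (39, 3, 75), (13, 2, 52), (4, 1, 22)],
  [(10, 0, 10), (25, 0, 10), (49, 2, 10), (37, 4, 10), (12, 1, 25), (67, 2, 25), (79, 4, 25), (58, 1, 49), (76, 4, 49), (73, 3, 37), (66, 2, 12), (40, 1, 67), (31, 3, 67), (43, 3, 79), (30, 3, 66)]]

/-- The image of a basis element of the diagonal group under conjugation by a transposition. -/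
def sigTable : List (List ℕ) := [[2, 4, 9, 27], [4, 6, 12, 27], [1, 12, 18, 36], [1, 3, 36, 54], [1, 3, 9, 61]]

/-- The effect of a transposition on characters. -/
def moveTable : List (List ℕ) := [
  [0, 7, 0, 3, 4, 0, 0, 1, 0, 9, 25, 0, 12, 22, 0, 0, 19, 0, 0, 16, 0, 21, 13, 0, 0, 10, 0, 27, 61, 0, 30, 58, 0, 0, 55, 0, 36, 79, 0, 39, 76, 0, 0, 73, 0, 0, 70, 0, 48, 67, 0, 0, 64, 0, 0, 34, 0, 57, 31, 0, 0, 28, 0, 63, 52, 0, 66, 49, 0, 0, 46, 0, 0, 43, 0, 75, 40, 0, 0, 37, 0],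
  [0, 1, 0, 16, 22, 0, 0, 21, 0, 9, 10, 0, 25, 13, 0, 0, 3, 0, 0, 19, 0, 7, 4, 0, 0, 12, 0, 27, 28, 0, 43, 76, 0, 0, 48, 0, 36, 37, 0, 52, 67, 0, 0, 30, 0, 0, 46, 0, 34, 58, 0, 0, 39, 0, 0, 55, 0, 70, 49, 0, 0, 75, 0, 63, 64, 0, 79, 40, 0, 0, 57, 0, 0, 73, 0, 61, 31, 0, 0, 66, 0],
  [0, 1, 0, 3, 4, 0, 0, 7, 0, 48, 49, 0, 66, 52, 0, 0, 46, 0, 0, 70, 0, 63, 64, 0, 0, 67, 0, 27, 28, 0, 30, 31, 0, 0, 34, 0, 75, 76, 0, 39, 79, 0, 0, 73, 0, 0, 16, 0, 9, 10, 0, 0, 13, 0, 0, 55, 0, 57, 58, 0, 0, 61, 0, 21, 22, 0, 12, 25, 0, 0, 19, 0, 0, 43, 0, 36, 37, 0, 0, 40, 0],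
  [0, 1, 0, 3, 4, 0, 0, 7, 0, 9, 10, 0, 12, 13, 0, 0, 16, 0, 0, 19, 0, 21, 22, 0, 0, 25, 0, 63, 64, 0, 66, 67, 0, 0, 70, 0, 36, 73, 0, 75, 76, 0, 0, 79, 0, 0, 55, 0, 57, 58, 0, 0, 61, 0, 0, 46, 0, 48, 49, 0, 0, 52, 0, 27, 28, 0, 30, 31, 0, 0, 34, 0, 0, 37, 0, 39, 40, 0, 0, 43, 0],
  [0, 28, 0, 57, 4, 0, 0, 61, 0, 9, 37, 0, 66, 13, 0, 0, 70, 0, 0, 46, 0, 75, 22, 0, 0, 79, 0, 27, 1, 0, 30, 58, 0, 0, 34, 0, 63, 10, 0, 39, 67, 0, 0, 43, 0, 0, 19, 0, 48, 76, 0, 0, 52, 0, 0, 55, 0, 3, 31, 0, 0, 7, 0, 36, 64, 0, 12, 40, 0, 0, 16, 0, 0, 73, 0, 21, 49, 0, 0, 25, 0]]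

/-- Words carrying the first line to the others. -/
def piTable : List (List ℕ) := [[], [2], [3, 2], [4, 3, 2], [1, 2], [1, 3, 2], [1, 4, 3, 2], [2, 1, 3, 2], [2, 1, 4, 3, 2], [3, 2, 1, 4, 3, 2]]

/-- A word exchanging the two halves. -/
def swapWord : List ℕ := [2, 1, 0, 3, 2, 1, 4, 3, 2]

/-- For a letter, a line and a basis vector: the new line, the diagonal part and the part fixing the first line. -/
def letterCert : List (List (ℕ × ℕ × List ℕ)) := [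
  [(0, 0, [0]), (0, 9, [0]), (1, 0, [0]), (1, 9, [0]), (2, 0, [0]), (2, 9, [0]), (3, 0, [0]), (3, 9, [0]), (9, 0, [4]), (9, 46, [4]), (8, 0, [4]), (8, 46, [4]), (7, 0, [4]), (7, 46, [4]), (6, 0, [4]), (6, 46, [4]), (5, 0, [4]), (5, 46, [4]), (4, 0, [4]), (4, 46, [4])],
  [(0, 0, [1]), (0, 12, [1]), (4, 0, []), (4, 9, []), (5, 0, []), (5, 9, []), (6, 0, []), (6, 9, []), (1, 0, []), (1, 9, []), (2, 0, []), (2, 9, []), (3, 0, []), (3, 9, []), (7, 0, [2]), (7, 36, [2]), (8, 0, [2]), (8, 36, [2]), (9, 0, [2]), (9, 36, [2])],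
  [(1, 0, []), (1, 9, []), (0, 0, []), (0, 9, []), (2, 0, [2]), (2, 36, [2]), (3, 0, [2]), (3, 36, [2]), (4, 0, [1]), (4, 12, [1]), (7, 0, []), (7, 9, []), (8, 0, []), (8, 9, []), (5, 0, []), (5, 9, []), (6, 0, []), (6, 9, []), (9, 0, [3]), (9, 9, [3])],
  [(0, 0, [2]), (0, 36, [2]), (2, 0, []), (2, 9, []), (1, 0, []), (1, 9, []), (3, 0, [3]), (3, 9, [3]), (5, 0, []), (5, 9, []), (4, 0, []), (4, 9, []), (6, 0, [3]), (6, 9, [3]), (7, 0, [1]), (7, 12, [1]), (9, 0, []), (9, 9, []), (8, 0, []), (8, 9, [])],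
  [(0, 0, [3]), (0, 9, [3]), (1, 0, [3]), (1, 9, [3]), (3, 0, []), (3, 9, []), (2, 0, []), (2, 9, []), (4, 0, [3]), (4, 9, [3]), (6, 0, []), (6, 9, []), (5, 0, []), (5, 9, []), (8, 0, []), (8, 9, []), (7, 0, []), (7, 9, []), (9, 0, [1]), (9, 12, [1])],
  [(0, 1, []), (0, 10, []), (1, 1, []), (1, 10, []), (2, 1, []), (2, 10, []), (3, 1, []), (3, 10, []), (4, 13, []), (4, 22, []), (5, 13, []), (5, 22, []), (6, 13, []), (6, 22, []), (7, 13, []), (7, 22, []), (8, 13, []), (8, 22, []), (9, 13, []), (9, 22, [])],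
  [(0, 3, []), (0, 12, []), (1, 12, []), (1, 21, []), (2, 12, []), (2, 21, []), (3, 12, []), (3, 21, []), (4, 24, []), (4, 6, []), (5, 24, []), (5, 6, []), (6, 24, []), (6, 6, []), (7, 27, []), (7, 36, []), (8, 27, []), (8, 36, []), (9, 27, []), (9, 36, [])],
  [(0, 9, []), (0, 18, []), (1, 18, []), (1, 0, []), (2, 27, []), (2, 36, []), (3, 27, []), (3, 36, []), (4, 3, []), (4, 12, []), (5, 39, []), (5, 48, []), (6, 39, []), (6, 48, []), (7, 78, []), (7, 60, []), (8, 78, []), (8, 60, []), (9, 34, []), (9, 43, [])],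
  [(0, 27, []), (0, 36, []), (1, 36, []), (1, 45, []), (2, 72, []), (2, 54, []), (3, 34, []), (3, 43, []), (4, 36, []), (4, 45, []), (5, 72, []), (5, 54, []), (6, 34, []), (6, 43, []), (7, 3, []), (7, 12, []), (8, 64, []), (8, 73, []), (9, 47, []), (9, 29, [])],
  [(0, 34, []), (0, 43, []), (1, 34, []), (1, 43, []), (2, 70, []), (2, 79, []), (3, 50, []), (3, 32, []), (4, 34, []), (4, 43, []), (5, 70, []), (5, 79, []), (6, 50, []), (6, 32, []), (7, 70, []), (7, 79, []), (8, 50, []), (8, 32, []), (9, 3, []), (9, 12, [])]]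

/-- The matrices of the monomial letters. -/
def monoMats : List (List ℕ) := [
  [1, 2, 4, 8, 16, 32, 64, 128, 262144, 786432, 65536, 196608, 16384, 49152, 4096, 12288, 1024, 3072, 256, 768],
  [1, 2, 256, 512, 1024, 2048, 4096, 8192, 4, 8, 16, 32, 64, 128, 16384, 32768, 65536, 131072, 262144, 524288],
  [4, 8, 1, 2, 16, 32, 64, 128, 256, 512, 16384, 32768, 65536, 131072, 1024, 2048, 4096, 8192, 262144, 524288],
  [1, 2, 16, 32, 4, 8, 64, 128, 1024, 2048, 256, 512, 4096, 8192, 16384, 32768, 262144, 524288, 65536, 131072],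
  [1, 2, 4, 8, 64, 128, 16, 32, 256, 512, 4096, 8192, 1024, 2048, 65536, 131072, 16384, 32768, 262144, 524288],
  [1, 2, 4, 8, 16, 32, 64, 128, 512, 768, 2048, 3072, 8192, 12288, 32768, 49152, 131072, 196608, 524288, 786432],
  [1, 2, 8, 12, 32, 48, 128, 192, 768, 256, 3072, 1024, 12288, 4096, 16384, 32768, 65536, 131072, 262144, 524288],
  [2, 3, 12, 4, 16, 32, 64, 128, 256, 512, 2048, 3072, 8192, 12288, 49152, 16384, 196608, 65536, 262144, 524288],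
  [1, 2, 8, 12, 48, 16, 64, 128, 512, 768, 3072, 1024, 4096, 8192, 16384, 32768, 131072, 196608, 786432, 262144],
  [1, 2, 4, 8, 32, 48, 192, 64, 256, 512, 2048, 3072, 12288, 4096, 32768, 49152, 196608, 65536, 262144, 524288]]

end Cfsg.Lib.UnitarySixModule
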