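import Cfsg.Agent.Lib.UnitarySixModule.Words
import Cfsg.Agent.Lib.UnitarySixModule.MonoData
import Cfsg.Agent.Lib.UnitarySixModule.Bits

/-!
# The diagonal subgroup of order 81 and the transpositions in PSU(6, 2)
-/

set_option autoImplicit false
set_option linter.unusedSectionVars false
set_option maxRecDepth 100000

namespace Cfsg.Lib.UnitarySixModule

open Cfsg.Lib.CosetEnum

/-- A ternary digit. -/
def dig (n j : ℕ) : ℕ := n / 3 ^ j % 3

/-- The word of a diagonal element. -/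
def diagWord (n : ℕ) : List ℕ :=
  List.replicate (dig n 0) 5 ++ List.replicate (dig n 1) 6 ++ List.replicate (dig n 2) 7 ++ List.replicate (dig n 3) 8

/-- A number with given digits. -/
def undig (a b c d : ℕ) : ℕ := a % 3 + 3 * (b % 3) + 9 * (c % 3) + 27 * (d % 3)

/-- Addition of diagonal indices. -/
def addT (m n : ℕ) : ℕ := undig (dig m 0 + dig n 0) (dig m 1 + dig n 1) (dig m 2 + dig n 2) (dig m 3 + dig n 3)

/-- The negative of a diagonal index. -/
def negT (n : ℕ) : ℕ := undig (3 - dig n 0) (3 - dig n 1) (3 - dig n 2) (3 - dig n 3)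

theorem undig_lt (a b c d : ℕ) : undig a b c d < 81 := by unfold undig; omega

theorem dig_undig (a b c d : ℕ) :
    dig (undig a b c d) 0 = a % 3 ∧ dig (undig a b c d) 1 = b % 3 ∧ dig (undig a b c d) 2 = c % 3 ∧
      dig (undig a b c d) 3 = d % 3 := by
  simp only [dig, undig]
  refine ⟨?_, ?_, ?_, ?_⟩ <;> norm_num <;> omega

theorem diag_comm : ∀ i j : Fin 4, relOk [5 + i.1, 5 + j.1] [5 + j.1, 5 + i.1] = true := by decide +kernel

theorem diag_cube : ∀ i : Fin 4, relOk [5 + i.1, 5 + i.1, 5 + i.1] [] = true := by decide +kernel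

/-- A letter in PSU. -/
noncomputable def pgen (g : ℕ) : Cfsg.PSU 6 GF4 2 := pword [g]

theorem pword_replicate (g n : ℕ) : pword (List.replicate n g) = pgen g ^ n := by
  induction n with
  | zero => simp [pword_nil]
  | succ n ih =>
    rw [List.replicate_succ, show g :: List.replicate n g = [g] ++ List.replicate n g from rfl, pword_append,
      ih, pow_succ']
    rfl

theorem pgen_commute {i j : ℕ} (hi : i < 4) (hj : j < 4) : Commute (pgen (5 + i)) (pgen (5 + j)) := by
  show pgen (5 + i) * pgen (5 + j) = pgen (5 + j) * pgen (5 + i)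
  simp only [pgen, ← pword_append]
  exact rel_sound (diag_comm ⟨i, hi⟩ ⟨j, hj⟩)

theorem pgen_pow {i : ℕ} (hi : i < 4) (n : ℕ) : pgen (5 + i) ^ (n % 3) = pgen (5 + i) ^ n := by
  have h3 : pgen (5 + i) ^ 3 = 1 := by
    rw [← pword_replicate]
    exact rel_sound (diag_cube ⟨i, hi⟩)
  conv_rhs => rw [← Nat.div_add_mod n 3, pow_add, pow_mul, h3, one_pow, one_mul]

/-- A diagonal element. -/
noncomputable def pdiag (n : ℕ) : Cfsg.PSU 6 GF4 2 := pword (diagWord n)

theorem pdiag_eq (n : ℕ) :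
    pdiag n = pgen 5 ^ dig n 0 * pgen 6 ^ dig n 1 * pgen 7 ^ dig n 2 * pgen 8 ^ dig n 3 := by
  simp only [pdiag, diagWord, pword_append, pword_replicate]

theorem pdiag_zero : pdiag 0 = 1 := by simp [pdiag_eq, dig]

theorem pdiag_add (m n : ℕ) : pdiag (addT m n) = pdiag m * pdiag n := by
  obtain ⟨e0, e1, e2, e3⟩ := dig_undig (dig m 0 + dig n 0) (dig m 1 + dig n 1) (dig m 2 + dig n 2) (dig m 3 + dig n 3)
  rw [pdiag_eq, pdiag_eq m, pdiag_eq n, addT, e0, e1, e2, e3]
  have p0 := pgen_pow (show 0 < 4 by norm_num) (dig m 0 + dig n 0)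
  have p1 := pgen_pow (show 1 < 4 by norm_num) (dig m 1 + dig n 1)
  have p2 := pgen_pow (show 2 < 4 by norm_num) (dig m 2 + dig n 2)
  have p3 := pgen_pow (show 3 < 4 by norm_num) (dig m 3 + dig n 3)
  rw [show (5 : ℕ) + 0 = 5 from rfl] at p0
  rw [show (5 : ℕ) + 1 = 6 from rfl] at p1
  rw [show (5 : ℕ) + 2 = 7 from rfl] at p2
  rw [show (5 : ℕ) + 3 = 8 from rfl] at p3
  rw [p0, p1, p2, p3, pow_add, pow_add, pow_add, pow_add]
  have c01 : Commute (pgen 5) (pgen 6) := pgen_commute (i := 0) (j := 1) (by norm_num) (by norm_num)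
  have c02 : Commute (pgen 5) (pgen 7) := pgen_commute (i := 0) (j := 2) (by norm_num) (by norm_num)
  have c03 : Commute (pgen 5) (pgen 8) := pgen_commute (i := 0) (j := 3) (by norm_num) (by norm_num)
  have c12 : Commute (pgen 6) (pgen 7) := pgen_commute (i := 1) (j := 2) (by norm_num) (by norm_num)
  have c13 : Commute (pgen 6) (pgen 8) := pgen_commute (i := 1) (j := 3) (by norm_num) (by norm_num)
  have c23 : Commute (pgen 7) (pgen 8) := pgen_commute (i := 2) (j := 3) (by norm_num) (by norm_num)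
  set a := pgen 5
  set b := pgen 6
  set c := pgen 7
  set d := pgen 8
  have q1 : Commute (b ^ dig m 1 * c ^ dig m 2 * d ^ dig m 3) (a ^ dig n 0) :=
    ((c01.symm.pow_pow _ _).mul_left (c02.symm.pow_pow _ _)).mul_left (c03.symm.pow_pow _ _)
  have q2 : Commute (c ^ dig m 2 * d ^ dig m 3) (b ^ dig n 1) :=
    (c12.symm.pow_pow _ _).mul_left (c13.symm.pow_pow _ _)
  have q3 : Commute (d ^ dig m 3) (c ^ dig n 2) := c23.symm.pow_pow _ _
  symm
  calc a ^ dig m 0 * b ^ dig m 1 * c ^ dig m 2 * d ^ dig m 3 *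
        (a ^ dig n 0 * b ^ dig n 1 * c ^ dig n 2 * d ^ dig n 3)
      = a ^ dig m 0 * ((b ^ dig m 1 * c ^ dig m 2 * d ^ dig m 3) * a ^ dig n 0) *
          b ^ dig n 1 * c ^ dig n 2 * d ^ dig n 3 := by group
    _ = a ^ dig m 0 * (a ^ dig n 0 * (b ^ dig m 1 * c ^ dig m 2 * d ^ dig m 3)) *
          b ^ dig n 1 * c ^ dig n 2 * d ^ dig n 3 := by rw [q1.eq]
    _ = a ^ dig m 0 * a ^ dig n 0 * b ^ dig m 1 * ((c ^ dig m 2 * d ^ dig m 3) * b ^ dig n 1) *
          c ^ dig n 2 * d ^ dig n 3 := by group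
    _ = a ^ dig m 0 * a ^ dig n 0 * b ^ dig m 1 * (b ^ dig n 1 * (c ^ dig m 2 * d ^ dig m 3)) *
          c ^ dig n 2 * d ^ dig n 3 := by rw [q2.eq]
    _ = a ^ dig m 0 * a ^ dig n 0 * (b ^ dig m 1 * b ^ dig n 1) * c ^ dig m 2 *
          (d ^ dig m 3 * c ^ dig n 2) * d ^ dig n 3 := by group
    _ = a ^ dig m 0 * a ^ dig n 0 * (b ^ dig m 1 * b ^ dig n 1) * c ^ dig m 2 *
          (c ^ dig n 2 * d ^ dig m 3) * d ^ dig n 3 := by rw [q3.eq]
    _ = _ := by group

/-- The value of a character on a diagonal element. -/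
def chi (c t : ℕ) : ℕ := (dig c 0 * dig t 0 + dig c 1 * dig t 1 + dig c 2 * dig t 2 + dig c 3 * dig t 3) % 3

theorem chi_add (c m n : ℕ) : chi c (addT m n) = (chi c m + chi c n) % 3 := by
  obtain ⟨e0, e1, e2, e3⟩ := dig_undig (dig m 0 + dig n 0) (dig m 1 + dig n 1) (dig m 2 + dig n 2) (dig m 3 + dig n 3)
  simp only [chi, addT, e0, e1, e2, e3]
  rw [← ZMod.natCast_eq_natCast_iff']
  push_cast [ZMod.natCast_mod]
  ring

theorem chi_lt (c t : ℕ) : chi c t < 3 := Nat.mod_lt _ (by norm_num)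

/-- The entry of a table. -/
def colL {α : Type} (d : α) : List α → ℕ → α
  | [], _ => d
  | a :: _, 0 => a
  | _ :: l, n + 1 => colL d l n

/-- Conjugation by a transposition on diagonal indices. -/
def sigma (g n : ℕ) : ℕ :=
  let row := colL [] sigTable g
  addT (addT (addT (times (dig n 0) (col row 0)) (times (dig n 1) (col row 1)))
    (times (dig n 2) (col row 2))) (times (dig n 3) (col row 3))
where
  /-- A multiple of a diagonal index. -/
  times : ℕ → ℕ → ℕ
  | 0, _ => 0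
  | k + 1, m => addT (times k m) m

theorem sig_rel : ∀ g : Fin 5, ∀ j : Fin 4,
    relOk [g.1, 5 + j.1] (diagWord (col (colL [] sigTable g.1) j.1) ++ [g.1]) = true := by decide +kernel

theorem swap_sq : ∀ g : Fin 5, relOk [g.1, g.1] [] = true := by decide +kernel

theorem pgen_sq {g : ℕ} (hg : g < 5) : pgen g * pgen g = 1 := by
  rw [pgen, ← pword_append]
  exact rel_sound (swap_sq ⟨g, hg⟩)

theorem pdiag_times (k m : ℕ) : pdiag (sigma.times k m) = pdiag m ^ k := by
  induction k with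
  | zero => rw [sigma.times, pdiag_zero, pow_zero]
  | succ k ih => rw [sigma.times, pdiag_add, ih, pow_succ]

theorem pgen_conj_diag {g : ℕ} (hg : g < 5) (n : ℕ) :
    pgen g * pdiag n * (pgen g)⁻¹ = pdiag (sigma g n) := by
  have h : ∀ j, j < 4 → pgen g * pgen (5 + j) * (pgen g)⁻¹ = pdiag (col (colL [] sigTable g) j) := by
    intro j hj
    rw [mul_inv_eq_iff_eq_mul, pdiag, pgen, pgen, ← pword_append, ← pword_append]
    exact rel_sound (sig_rel ⟨g, hg⟩ ⟨j, hj⟩)
  have h0 := h 0 (by norm_num)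
  have h1 := h 1 (by norm_num)
  have h2 := h 2 (by norm_num)
  have h3 := h 3 (by norm_num)
  rw [pdiag_eq, ← MulAut.conj_apply, map_mul, map_mul, map_mul, map_pow, map_pow, map_pow, map_pow]
  simp only [MulAut.conj_apply]
  rw [show (5 : ℕ) + 0 = 5 from rfl] at h0
  rw [show (5 : ℕ) + 1 = 6 from rfl] at h1
  rw [show (5 : ℕ) + 2 = 7 from rfl] at h2
  rw [show (5 : ℕ) + 3 = 8 from rfl] at h3
  rw [h0, h1, h2, h3]
  simp only [sigma, pdiag_add, pdiag_times]

end Cfsg.Lib.UnitarySixModule
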