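import Cfsg.Agent.Lib.UnitarySixModule.MonoData

/-!
# Data for the last letter on the module
-/

set_option autoImplicit false

namespace Cfsg.Lib.UnitarySixModule

/-- A diagonal word fixing exactly the first line. -/
def lineWord : List ℕ := [5, 5, 6]

/-- The certificate for the fixed space of `lineWord`. -/
def lineCert : List (List ℕ) × List ℕ × List ℕ := ([[0, 0, 8, 12, 32, 48, 128, 192, 512, 768, 2048, 3072, 8192, 12288, 49152, 16384, 196608, 65536, 786432, 262144]], [1, 2], [1, 2, 0, 0, 0, 0, 0, 0, 0, 0, 0, 0, 0, 0, 0, 0, 0, 0, 0, 0])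

/-- Words fixing the seed and the conjugate words. -/
def seedWords : List (List ℕ × List ℕ) := [([8], [8]), ([6, 8], [8, 1, 0])]

/-- The seed. -/
def seed : ℕ := 16384

/-- The certificate for the possible images of the seed. -/
def seedCert : List (List ℕ) × List ℕ × List ℕ := ([[0, 0, 0, 0, 0, 0, 0, 0, 0, 0, 0, 0, 0, 0, 0, 0, 132128, 199696, 786700, 262920], [0, 0, 0, 0, 0, 0, 0, 0, 12, 4, 32, 48, 64, 128, 4160, 12480, 2096, 1056, 776, 516], [1, 2, 0, 0, 0, 0, 0, 0, 0, 0, 0, 0, 0, 0, 0, 0, 0, 0, 0, 0]], [20544, 45248], [0, 0, 0, 0, 0, 0, 0, 0, 0, 0, 0, 0, 0, 0, 1, 2, 0, 0, 0, 0])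

/-- Words carrying the seed to a basis and the conjugate words. -/
def spanWords : List (List ℕ × List ℕ) := [
  ([], []),
  ([4], [4]),
  ([0], [6, 1]),
  ([8, 4], [8, 4]),
  ([3, 4], [3, 4]),
  ([1, 0], [6, 6]),
  ([5, 5, 0], [5, 0]),
  ([0, 4], [6, 1, 4]),
  ([5, 5, 6], [5, 5, 6]),
  ([8, 3, 4], [8, 3, 4]),
  ([1, 0, 4], [6, 6, 4]),
  ([8, 0, 4], [6, 8, 1, 4]),
  ([0, 3, 4], [6, 1, 3, 4]),
  ([5, 5, 6, 1, 0], [5, 5]),
  ([8, 1, 0, 4], [6, 6, 8, 4]),
  ([1, 0, 3, 4], [6, 6, 3, 4]),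
  ([8, 0, 3, 4], [6, 8, 1, 3, 4]),
  ([8, 1, 0, 3, 4], [6, 6, 8, 3, 4])]

/-- The vectors reached. -/
def spanCols : List ℕ := [1, 2, 16384, 65536, 4096, 131072, 262144, 64, 12288, 1024, 49152, 786432, 16, 3072, 256, 128, 48, 4, 512, 8]

/-- The inverse of the matrix of the vectors reached. -/
def spanInv : List ℕ := [1, 2, 131072, 524288, 4096, 69632, 128, 32768, 16384, 262144, 512, 8704, 16, 272, 4, 1028, 8, 32, 64, 2112]

/-- A diagonal word for the rigidity relation. -/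
def twistWord : List ℕ := [5, 6, 7]

/-- The monomial word in the rigidity relation. -/
def twistProd : List ℕ := []

/-- The matrix of the last letter. -/
def extraMat : List ℕ := [1, 2, 262668, 787204, 67632, 199696, 24768, 61504, 262920, 786700, 68640, 197680, 28800, 53440, 20544, 45248, 66576, 134192, 262404, 525068]

end Cfsg.Lib.UnitarySixModule
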