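import Cfsg.Agent.Lib.UnitarySixModule.MonoBasis
import Cfsg.Agent.Lib.UnitarySixModule.Coord
import Cfsg.Agent.Lib.UnitarySixModule.ExtraData

/-!
# The matrices of all eleven letters

The module is seen inside a group that normalises it. The last letter maps the fixed space of a few monomial
elements to that of the conjugate elements, which leaves 64 matrices; two relations single out one.
-/

set_option autoImplicit false
set_option linter.unusedSectionVars false
set_option maxRecDepth 100000

namespace Cfsg.Lib.UnitarySixModule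

open Cfsg.Lib.CosetEnum

/-- A subgroup of order `2 ^ 20` with a faithful action of PSU(6, 2) by conjugation. -/
structure Model {X : Type*} [Group X] (A : Subgroup X) (ι : Cfsg.PSU 6 GF4 2 →* X) : Prop where
  card : Nat.card A = 2 ^ 20
  comm : ∀ a ∈ A, ∀ b ∈ A, a * b = b * a
  invol : ∀ a ∈ A, a * a = 1
  normal : ∀ g, ∀ a ∈ A, ι g * a * (ι g)⁻¹ ∈ A
  faithful : ∀ g, (∀ a ∈ A, ι g * a * (ι g)⁻¹ = a) → g = 1

/-- The matrix of a letter. -/
def letterMat (g : ℕ) : List ℕ := if Nat.beq g 10 then extraMat else colL [] monoMats g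

/-- The matrix of a word. -/
def wordMat : List ℕ → List ℕ
  | [] => oneM
  | g :: w => mulM (letterMat g) (wordMat w)

/-- The vectors of the list allowed by a certificate. -/
def certVals (c : List (List ℕ) × List ℕ × List ℕ) : List ℕ := (List.range 4).map (app c.2.1)

/-- The images of the basis reached from a choice of images of the first line and of the seed. -/
def candImg (p : ℕ × ℕ × ℕ) : List ℕ := p.1 :: p.2.1 :: spanWords.map fun w => app (wordMat w.2) p.2.2

/-- The candidate matrix. -/
def candMat (p : ℕ × ℕ × ℕ) : List ℕ := spanInv.map (app (candImg p))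

/-- The relations that the last letter satisfies. -/
def relMats (M : List ℕ) : Bool :=
  decide (mulM (mulM M M) (mulM M M) = oneM) &&
    decide (mulM (mulM M (mulM (mulM (wordMat twistWord) M) (wordMat (twistWord ++ twistWord))))
      (mulM (mulM (wordMat (twistWord ++ twistWord)) M) (wordMat twistWord)) = wordMat twistProd)

theorem cand_unique : ∀ a ∈ certVals lineCert, ∀ b ∈ certVals lineCert, ∀ c ∈ certVals seedCert,
    (relMats (candMat (a, b, c)) = true → candMat (a, b, c) = extraMat) ∧ Small (candMat (a, b, c)) = true := by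
  decide +kernel

theorem line_cert_ok : certOk 2 [wordMat lineWord] lineCert.1 lineCert.2.1 lineCert.2.2 = true ∧
    app (wordMat lineWord) 1 = 1 ∧ app (wordMat lineWord) 2 = 2 ∧ lineCert.2.2.length ≤ 20 := by decide +kernel

/-- The sum of a matrix with its square. -/
def plusSquare (M : List ℕ) : List ℕ := (List.range 20).map fun i => Nat.xor (col M i) (app M (col M i))

theorem seed_cert_ok :
    certOk 2 ((seedWords.map fun w => wordMat w.2) ++ [plusSquare (wordMat lineWord)])
      seedCert.1 seedCert.2.1 seedCert.2.2 = true ∧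
    (∀ w ∈ seedWords, app (wordMat w.1) seed = seed) ∧ seedCert.2.2.length ≤ 20 ∧
      app (plusSquare (wordMat lineWord)) seed = seed ∧ seed < 2 ^ 20 := by decide +kernel

theorem seed_rel : (∀ w ∈ seedWords, relOk (10 :: w.1) (w.2 ++ [10]) = true) ∧
    relOk (10 :: lineWord) (lineWord ++ [10]) = true ∧
    (∀ w ∈ spanWords, relOk (10 :: w.1) (w.2 ++ [10]) = true) ∧
    relOk [10, 10, 10, 10] [] = true ∧
    relOk ([10] ++ (twistWord ++ [10] ++ (twistWord ++ twistWord)) ++
      ((twistWord ++ twistWord) ++ [10] ++ twistWord)) twistProd = true := by decide +kernel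

theorem span_ok : spanCols = 1 :: 2 :: spanWords.map (fun w => app (wordMat w.1) seed) ∧
    (∀ i : Fin 20, app spanCols (col spanInv i.1) = 2 ^ i.1) ∧ spanInv.length = 20 ∧ spanWords.length = 18 ∧
    spanCols.length = 20 := by decide +kernel

theorem letters_small : ∀ g : Fin 10, Small (colL [] monoMats g.1) = true := by decide +kernel

theorem extra_small : Small extraMat = true := by decide +kernel

theorem word_letters : (∀ g ∈ lineWord ++ twistWord ++ twistProd, g < 10) ∧
    (∀ w ∈ seedWords ++ spanWords, (∀ g ∈ w.1, g < 10) ∧ ∀ g ∈ w.2, g < 10) := by decide +kernel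

theorem app_mulM {M N : List ℕ} (hN : N.length ≤ 20) : ∀ v, app (mulM M N) v = app M (app N v) := by
  intro v
  have key : ∀ (N : List ℕ) (o : ℕ), appAux (mulM M N) o v 0 = app M (appAux N o v 0) := by
    intro N
    induction N with
    | nil => intro o; exact (app_zero M).symm
    | cons n N ih =>
      intro o
      show appAux (app M n :: mulM M N) o v 0 = _
      rw [appAux, appAux, appAux_acc (mulM M N), appAux_acc N (o + 1) v (if bit v o then Nat.xor 0 n else 0),
        app_xor, ih]
      split_ifs
      · rw [show Nat.xor 0 (app M n) = app M n from Nat.zero_xor _, show Nat.xor 0 n = n from Nat.zero_xor _]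
      · rw [app_zero]
  exact key N 0

section

variable {X : Type*} [Group X] [Finite X] {A : Subgroup X} {ι : Cfsg.PSU 6 GF4 2 →* X} (m : Model A ι)
include m

theorem exists_coord :
    ∃ b : ℕ → X, Coord A b ∧ ∀ g, g < 10 → Acts b (ι (pgen g)) (colL [] monoMats g) := by
  letI : CommGroup ↥A :=
    { (inferInstance : Group ↥A) with mul_comm := fun x y => Subtype.ext (m.comm x x.2 y y.2) }
  let φ : Cfsg.PSU 6 GF4 2 →* MulAut ↥A :=
    { toFun := fun g =>
        { toFun := fun a => ⟨ι g * a * (ι g)⁻¹, m.normal g a a.2⟩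
          invFun := fun a => ⟨ι g⁻¹ * a * (ι g⁻¹)⁻¹, m.normal g⁻¹ a a.2⟩
          left_inv := fun a => Subtype.ext (by simp [map_inv, mul_assoc])
          right_inv := fun a => Subtype.ext (by simp [map_inv, mul_assoc])
          map_mul' := fun a b => Subtype.ext (by
            show ι g * ((a : X) * b) * (ι g)⁻¹ = (ι g * a * (ι g)⁻¹) * (ι g * b * (ι g)⁻¹)
            group) }
      map_one' := MulEquiv.ext fun a => Subtype.ext (by simp)
      map_mul' := fun g h => MulEquiv.ext fun a => Subtype.ext (by
        show ι (g * h) * (a : X) * (ι (g * h))⁻¹ = ι g * (ι h * a * (ι h)⁻¹) * (ι g)⁻¹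
        rw [map_mul]; group) }
  have hφ : Function.Injective φ := by
    rw [← MonoidHom.ker_eq_bot_iff, Subgroup.eq_bot_iff_forall]
    intro g hg
    exact m.faithful g fun a ha => congrArg Subtype.val (DFunLike.congr_fun (MonoidHom.mem_ker.1 hg) ⟨a, ha⟩)
  obtain ⟨b, hb, hmat⟩ := exists_mono_basis φ (fun v => Subtype.ext (m.invol v v.2)) hφ m.card
  have hev : ∀ v, ((eval b v : ↥A) : X) = eval (fun i => (b i : X)) v := by
    intro v
    have : ∀ n, ((evalTo b n v : ↥A) : X) = evalTo (fun i => (b i : X)) n v := fun n => by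
      induction n with
      | zero => rfl
      | succ n ih => simp only [evalTo, Subgroup.coe_mul, ih]; split_ifs <;> rfl
    exact this 20
  refine ⟨fun i => (b i : X), ⟨⟨m.comm, m.invol, fun i _ => (b i).2⟩, m.card, fun x hx => ?_⟩, fun g hg => ?_⟩
  · obtain ⟨v, hv, he⟩ := hb ⟨x, hx⟩
    exact ⟨v, hv, by rw [← hev, he]⟩
  · refine ⟨mono_len ⟨g, hg⟩, fun i hi => ?_⟩
    rw [← hev, ← hmat g hg i hi]
    rfl

theorem word_acts_mono {b : ℕ → X} (c : Coord A b)
    (hb : ∀ g, g < 10 → Acts b (ι (pgen g)) (colL [] monoMats g)) :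
    ∀ w : List ℕ, (∀ g ∈ w, g < 10) → Acts b (ι (pword w)) (wordMat w) ∧ Small (wordMat w) = true
  | [], _ => by
    rw [pword_nil, map_one]
    exact ⟨acts_one c.toSys, by decide +kernel⟩
  | g :: w, hw => by
    obtain ⟨h1, h2⟩ := word_acts_mono c hb w fun x hx => hw x (List.mem_cons_of_mem _ hx)
    have hg : g < 10 := hw g (List.mem_cons_self ..)
    have hlet : letterMat g = colL [] monoMats g := by
      rw [letterMat, beq_eq, if_neg (by simp; omega)]
    rw [show g :: w = [g] ++ w from rfl, pword_append, map_mul]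
    show Acts b _ (mulM (letterMat g) (wordMat w)) ∧ Small (mulM (letterMat g) (wordMat w)) = true
    refine ⟨hlet ▸ (hb g hg).mul c.toSys h1, ?_⟩
    rw [Small, Bool.and_eq_true, List.all_eq_true] at h2 ⊢
    refine ⟨by rw [mulM, List.length_map]; exact h2.1, fun x hx => ?_⟩
    rw [mulM, List.mem_map] at hx
    obtain ⟨y, -, rfl⟩ := hx
    exact Nat.ble_eq_true_of_le (Small.app_lt (hlet ▸ letters_small ⟨g, hg⟩) y)

theorem exists_frame :
    ∃ b : ℕ → X, Coord A b ∧ ∀ g, g < 11 → Acts b (ι (pgen g)) (letterMat g) := by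
  obtain ⟨b, c, hb⟩ := exists_coord m
  have s := c.toSys
  have hw := word_acts_mono m c hb
  set x := ι (pgen 10) with hxdef
  have hxA : ∀ v, x * eval b v * x⁻¹ ∈ A := fun v => m.normal _ _ (eval_mem s v)
  have hrel : ∀ u w : List ℕ, relOk (10 :: u) (w ++ [10]) = true → x * ι (pword u) = ι (pword w) * x := by
    intro u w h
    have h1 := congrArg ι (rel_sound h)
    rw [show 10 :: u = [10] ++ u from rfl, pword_append, pword_append, map_mul, map_mul] at h1
    exact h1
  have hfixed : ∀ u w : List ℕ, relOk (10 :: u) (w ++ [10]) = true → (∀ g ∈ u, g < 10) → (∀ g ∈ w, g < 10) →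
      ∀ v v', v' < 2 ^ 20 → app (wordMat u) v = v → x * eval b v * x⁻¹ = eval b v' → app (wordMat w) v' = v' := by
    intro u w h hu hw' v v' hv' hfix he
    refine c.fix_of_commute (hw w hw').1 (hw w hw').2 hv' ?_
    rw [← he, show ι (pword w) * (x * eval b v * x⁻¹) * (ι (pword w))⁻¹ =
      (ι (pword w) * x) * eval b v * (ι (pword w) * x)⁻¹ by group, ← hrel u w h]
    rw [show x * ι (pword u) * eval b v * (x * ι (pword u))⁻¹ =
      x * (ι (pword u) * eval b v * (ι (pword u))⁻¹) * x⁻¹ by group, (hw u hu).1.apply s, hfix]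
  have hline : ∀ v, app (wordMat lineWord) v = v → ∃ a ∈ certVals lineCert, x * eval b v * x⁻¹ = eval b a := by
    intro v hv
    obtain ⟨v', hv', he⟩ := c.spans _ (hxA v)
    obtain ⟨hc, -, -, hlen⟩ := line_cert_ok
    have hf := hfixed lineWord lineWord seed_rel.2.1
      (fun g hg => word_letters.1 g (by simp [hg])) (fun g hg => word_letters.1 g (by simp [hg])) v v' hv' hv he.symm
    have h2 := cert_sound hc hv' (fun M hM => by rw [List.mem_singleton] at hM; rw [hM]; exact hf)
    refine ⟨v', ?_, he.symm⟩
    rw [certVals, List.mem_map]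
    exact ⟨_, List.mem_range.2 (cert_lt hc hlen v'), h2⟩
  obtain ⟨a, ha, hax⟩ := hline 1 line_cert_ok.2.1
  obtain ⟨a', ha', hax'⟩ := hline 2 line_cert_ok.2.2.1
  obtain ⟨hc, hsfix, hslen, hsP, hseed⟩ := seed_cert_ok
  obtain ⟨γ, hγlt, hγe⟩ := c.spans _ (hxA seed)
  have hlm := hw lineWord (fun g hg => word_letters.1 g (by simp [hg]))
  have hps : ∀ v, v < 2 ^ 20 → eval b (app (plusSquare (wordMat lineWord)) v) =
      (ι (pword lineWord) * eval b v * (ι (pword lineWord))⁻¹) *
        (ι (pword lineWord) * (ι (pword lineWord) * eval b v * (ι (pword lineWord))⁻¹) * (ι (pword lineWord))⁻¹) := by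
    intro v hv
    rw [hlm.1.apply s, hlm.1.apply s, ← eval_xor s]
    congr 1
    refine linear_ext (g := app (plusSquare (wordMat lineWord)))
      (h := fun v => Nat.xor (app (wordMat lineWord) v) (app (wordMat lineWord) (app (wordMat lineWord) v)))
      (app_xor _) (fun p q => by rw [app_xor, app_xor]; exact xor_four _ _ _ _) 20 (fun i hi => ?_) v hv
    have : ∀ i : Fin 20, app (plusSquare (wordMat lineWord)) (2 ^ i.1) =
        Nat.xor (app (wordMat lineWord) (2 ^ i.1)) (app (wordMat lineWord) (app (wordMat lineWord) (2 ^ i.1))) := by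
      decide +kernel
    exact this ⟨i, hi⟩
  have hγ : γ ∈ certVals seedCert := by
    have h2 := cert_sound hc hγlt (fun M hM => by
      rcases List.mem_append.1 hM with hM | hM
      · obtain ⟨w, hwm, rfl⟩ := List.mem_map.1 hM
        obtain ⟨hu, hw'⟩ := word_letters.2 w (List.mem_append_left _ hwm)
        exact hfixed w.1 w.2 (seed_rel.1 w hwm) hu hw' seed γ hγlt (hsfix w hwm) hγe.symm
      · rw [List.mem_singleton] at hM
        subst hM
        have hlt : app (plusSquare (wordMat lineWord)) γ < 2 ^ 20 :=
          Small.app_lt (by decide +kernel : Small (plusSquare (wordMat lineWord)) = true) γ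
        refine c.injective hlt hγlt ?_
        have h1 := hps seed hseed
        rw [hsP] at h1
        set l := ι (pword lineWord) with hl
        have hxl : x * l = l * x := hrel lineWord lineWord seed_rel.2.1
        rw [hps γ hγlt, hγe]
        conv_rhs => rw [h1]
        have e1 : l * (x * eval b seed * x⁻¹) * l⁻¹ = x * (l * eval b seed * l⁻¹) * x⁻¹ := by
          rw [show l * (x * eval b seed * x⁻¹) * l⁻¹ = (l * x) * eval b seed * (l * x)⁻¹ by group, ← hxl]
          group
        rw [e1, show l * (x * (l * eval b seed * l⁻¹) * x⁻¹) * l⁻¹ =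
          (l * x) * (l * eval b seed * l⁻¹) * (l * x)⁻¹ by group, ← hxl]
        group)
    rw [certVals, List.mem_map]
    exact ⟨_, List.mem_range.2 (cert_lt hc hslen γ), h2⟩
  -- the images of the vectors reached
  have himg : ∀ i, i < spanCols.length → x * eval b (col spanCols i) * x⁻¹ = eval b (col (candImg (a, a', γ)) i) := by
    intro i hi
    rw [span_ok.2.2.2.2] at hi
    rw [span_ok.1]
    rcases i with _ | _ | i
    · exact hax
    · exact hax'
    · have hi' : i < spanWords.length := by rw [span_ok.2.2.2.1]; omega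
      show x * eval b (col (spanWords.map fun w => app (wordMat w.1) seed) i) * x⁻¹ =
        eval b (col (spanWords.map fun w => app (wordMat w.2) γ) i)
      rw [col_eq, col_eq, List.getD_eq_getElem _ _ (by simpa using hi'),
        List.getD_eq_getElem _ _ (by simpa using hi'), List.getElem_map, List.getElem_map]
      have hmem : spanWords[i] ∈ spanWords := List.getElem_mem hi'
      obtain ⟨hu, hw'⟩ := word_letters.2 _ (List.mem_append_right _ hmem)
      rw [← (hw _ hu).1.apply s, ← (hw _ hw').1.apply s, hγe]
      have h := hrel _ _ (seed_rel.2.2.1 _ hmem)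
      calc x * (ι (pword spanWords[i].1) * eval b seed * (ι (pword spanWords[i].1))⁻¹) * x⁻¹
          = (x * ι (pword spanWords[i].1)) * eval b seed * (x * ι (pword spanWords[i].1))⁻¹ := by group
        _ = (ι (pword spanWords[i].2) * x) * eval b seed * (ι (pword spanWords[i].2) * x)⁻¹ := by rw [h]
        _ = _ := by group
  set Mc := candMat (a, a', γ) with hMc
  have hxacts : Acts b x Mc := by
    refine ⟨by rw [hMc, candMat, List.length_map, span_ok.2.2.1], fun i hi => ?_⟩
    have h1 : col Mc i = app (candImg (a, a', γ)) (col spanInv i) := by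
      rw [hMc, candMat, col_eq, col_eq, List.getD_eq_getElem _ _ (by rw [List.length_map, span_ok.2.2.1]; exact hi),
        List.getD_eq_getElem _ _ (by rw [span_ok.2.2.1]; exact hi), List.getElem_map]
    have hlen : (candImg (a, a', γ)).length = spanCols.length := by
      rw [candImg, List.length_cons, List.length_cons, List.length_map, span_ok.2.2.2.1, span_ok.2.2.2.2]
    rw [h1, app, eval_appAux s (c := fun i => eval b (col spanCols i)) (k := x) _ 0 _
      (by rw [hlen, span_ok.2.2.2.2]) (fun j hj => by
        rw [Nat.zero_add]; exact himg j (hlen ▸ hj)), hlen]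
    have h2 := eval_appAux s (c := fun i => eval b (col spanCols i)) (k := (1 : X)) spanCols 0 (col spanInv i)
      (by rw [span_ok.2.2.2.2]) (fun j _ => by simp)
    rw [one_mul, inv_one, mul_one] at h2
    change _ = x * _ * x⁻¹
    rw [← h2, show appAux spanCols 0 (col spanInv i) 0 = app spanCols (col spanInv i) from rfl,
      span_ok.2.1 ⟨i, hi⟩, eval_two_pow s hi]
  obtain ⟨huniq, hsmall⟩ := cand_unique a ha a' ha' γ hγ
  have hMx : Mc = extraMat := by
    refine huniq ?_
    obtain ⟨htl, htp⟩ : (∀ g ∈ twistWord, g < 10) ∧ (∀ g ∈ twistProd, g < 10) :=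
      ⟨fun g hg => word_letters.1 g (by simp [hg]), fun g hg => word_letters.1 g (by simp [hg])⟩
    have ht := hw twistWord htl
    have htt := hw (twistWord ++ twistWord) (fun g hg => by
      rcases List.mem_append.1 hg with h | h <;> exact htl g h)
    have hsm : ∀ M N : List ℕ, Small M = true → Small N = true → Small (mulM M N) = true := by
      intro M N hM hN
      rw [Small, Bool.and_eq_true, List.all_eq_true] at hN ⊢
      refine ⟨by rw [mulM, List.length_map]; exact hN.1, fun y hy => ?_⟩
      rw [mulM, List.mem_map] at hy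
      obtain ⟨z, -, rfl⟩ := hy
      exact Nat.ble_eq_true_of_le (Small.app_lt hM z)
    rw [relMats, Bool.and_eq_true, decide_eq_true_iff, decide_eq_true_iff]
    constructor
    · have h4 := congrArg ι (rel_sound seed_rel.2.2.2.1)
      rw [show [10, 10, 10, 10] = ([10] ++ [10]) ++ ([10] ++ [10]) from rfl, pword_append, pword_append,
        map_mul, map_mul, pword_nil, map_one] at h4
      have h5 := (hxacts.mul s hxacts).mul s (hxacts.mul s hxacts)
      rw [show x * x * (x * x) = (1 : X) from h4] at h5
      exact c.matrix_unique h5 (acts_one s) (hsm _ _ (hsm _ _ hsmall hsmall) (hsm _ _ hsmall hsmall))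
        (by decide +kernel)
    · have h4 := congrArg ι (rel_sound seed_rel.2.2.2.2)
      simp only [pword_append, map_mul] at h4
      have h5 := (hxacts.mul s ((ht.1.mul s hxacts).mul s htt.1)).mul s ((htt.1.mul s hxacts).mul s ht.1)
      have h6 := hw twistProd htp
      simp only [pword_append, map_mul] at h5
      rw [show x * (ι (pword twistWord) * x * (ι (pword twistWord) * ι (pword twistWord))) *
        (ι (pword twistWord) * ι (pword twistWord) * x * ι (pword twistWord)) = ι (pword twistProd) from h4] at h5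
      exact c.matrix_unique h5 h6.1
        (hsm _ _ (hsm _ _ hsmall (hsm _ _ (hsm _ _ ht.2 hsmall) htt.2)) (hsm _ _ (hsm _ _ htt.2 hsmall) ht.2)) h6.2
  refine ⟨b, c, fun g hg => ?_⟩
  rw [letterMat, beq_eq]
  by_cases h10 : g = 10
  · subst h10
    simpa [hMx] using hxacts
  · rw [if_neg (by simpa using h10)]
    exact hb g (by omega)

theorem word_acts {b : ℕ → X} (c : Coord A b) (hb : ∀ g, g < 11 → Acts b (ι (pgen g)) (letterMat g)) :
    ∀ w : List ℕ, (∀ g ∈ w, g < 11) → Acts b (ι (pword w)) (wordMat w) ∧ Small (wordMat w) = true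
  | [], _ => by
    rw [pword_nil, map_one]
    exact ⟨acts_one c.toSys, by decide +kernel⟩
  | g :: w, hw => by
    obtain ⟨h1, h2⟩ := word_acts c hb w fun x hx => hw x (List.mem_cons_of_mem _ hx)
    have hg : g < 11 := hw g (List.mem_cons_self ..)
    rw [show g :: w = [g] ++ w from rfl, pword_append, map_mul]
    show Acts b _ (mulM (letterMat g) (wordMat w)) ∧ Small (mulM (letterMat g) (wordMat w)) = true
    refine ⟨(hb g hg).mul c.toSys h1, ?_⟩
    have hs : Small (letterMat g) = true := by
      have : ∀ g : Fin 11, Small (letterMat g.1) = true := by decide +kernel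
      exact this ⟨g, hg⟩
    rw [Small, Bool.and_eq_true, List.all_eq_true] at h2 ⊢
    refine ⟨by rw [mulM, List.length_map]; exact h2.1, fun x hx => ?_⟩
    rw [mulM, List.mem_map] at hx
    obtain ⟨y, -, rfl⟩ := hx
    exact Nat.ble_eq_true_of_le (Small.app_lt hs y)

end

end Cfsg.Lib.UnitarySixModule
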