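import Cfsg.Agent.Lib.UnitarySixModule.Setup
import Cfsg.Agent.Lib.Coprime.Generation

/-!
# Weak closure of the module in its normalizer

If the normalizer of the module is `A ⊔ K` and meets no other conjugate of itself in a group of order divisible
by three, then centralisers of elements of order three lie in the normalizer, so do the `3'`-subgroups normalised
by a subgroup of order nine, and `A` is weakly closed in the normalizer.
-/

set_option autoImplicit false
set_option linter.unusedSectionVars false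

namespace Cfsg.Lib.UnitarySixModule

variable {X : Type*} [Group X]

/-- The standing assumptions for the final argument. -/
structure Situation (A K K0 H : Subgroup X) : Prop extends Facts A K K0 where
  hH : H = Subgroup.normalizer (A : Set X)
  hsup : A ⊔ K = H
  strong : ∀ g : X, g ∉ H → ¬ 3 ∣ Nat.card ↥(H ⊓ H.map (MulAut.conj g).toMonoidHom)

namespace Situation

variable [Finite X] {A K K0 H : Subgroup X} (s : Situation A K K0 H)
include s

theorem A_le : A ≤ H := s.hsup ▸ le_sup_left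

theorem K_le : K ≤ H := s.hsup ▸ le_sup_right

theorem K0_le : K0 ≤ H := s.k0_le.trans s.K_le

theorem normal_H {g : X} (hg : g ∈ H) {a : X} (ha : a ∈ A) : g * a * g⁻¹ ∈ A := by
  rw [s.hH, Subgroup.mem_normalizer_iff] at hg
  exact (hg a).1 ha

theorem mem_H_of_map {g : X} (hg : A.map (MulAut.conj g).toMonoidHom = A) : g ∈ H := by
  rw [s.hH, Subgroup.mem_normalizer_iff_map_conj_eq]
  exact hg

theorem centralizer_A_le : Subgroup.centralizer (A : Set X) ≤ H := by
  rw [s.hH]; exact Subgroup.centralizer_le_normalizer _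

theorem mem_of_commute_three {x g : X} (hx : x ∈ H) (h3 : orderOf x = 3) (hg : g * x = x * g) :
    g ∈ H := by
  by_contra hgH
  apply s.strong g hgH
  have hmem : x ∈ H ⊓ H.map (MulAut.conj g).toMonoidHom := ⟨hx, x, hx, by
    show g * x * g⁻¹ = x
    rw [hg, mul_inv_cancel_right]⟩
  have := Subgroup.orderOf_dvd_natCard _ hmem
  rwa [h3] at this

theorem three_le {P : Subgroup X} (hP : IsPGroup 3 P) {e : X} (heP : e ∈ P) (he : e ∈ H)
    (h3 : orderOf e = 3) : P ≤ H := by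
  have : Fact (Nat.Prime 3) := ⟨Nat.prime_three⟩
  have hne : Nontrivial ↥P := ⟨⟨⟨e, heP⟩, 1, fun hh => by
    have : e = 1 := congrArg Subtype.val hh
    rw [this, orderOf_one] at h3
    omega⟩⟩
  have := hP.center_nontrivial
  have hd : 3 ∣ Nat.card (Subgroup.center P) := by
    obtain ⟨n, hn⟩ := IsPGroup.iff_card.1 (hP.to_subgroup (Subgroup.center P))
    rcases n with _ | n
    · exact absurd (Finite.one_lt_card (α := Subgroup.center P)) (by rw [hn]; simp)
    · rw [hn]; exact dvd_pow_self 3 (Nat.succ_ne_zero n)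
  obtain ⟨z, hz⟩ := exists_prime_orderOf_dvd_card' 3 hd
  have hz3 : orderOf ((z : P) : X) = 3 := by rw [Subgroup.orderOf_coe, Subgroup.orderOf_coe, hz]
  have hcomm : ∀ y ∈ P, y * ((z : P) : X) = ((z : P) : X) * y := fun y hy =>
    congrArg Subtype.val (Subgroup.mem_center_iff.1 z.2 ⟨y, hy⟩)
  have hzH : ((z : P) : X) ∈ H := s.mem_of_commute_three he h3 (hcomm e heP).symm
  exact fun y hy => s.mem_of_commute_three hzH hz3 (hcomm y hy)

/-- A `3'`-subgroup normalised by a subgroup of order nine lies in the normalizer. -/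
theorem le_of_nine {E U : Subgroup X} (hE : E ≤ H) (hE9 : Nat.card E = 9)
    (hcomm : ∀ a ∈ E, ∀ b ∈ E, a * b = b * a) (hexp : ∀ a ∈ E, a ^ 3 = 1)
    (hnorm : E ≤ Subgroup.normalizer (U : Set X)) (hU : ¬ 3 ∣ Nat.card U) : U ≤ H := by
  have : IsMulCommutative E := ⟨⟨fun a b => Subtype.ext (hcomm a a.2 b b.2)⟩⟩
  have hnc : ¬ IsCyclic E := fun hc => by
    obtain ⟨g, hg⟩ := hc.exists_ofOrder_eq_natCard
    have h1 : g ^ 3 = 1 := Subtype.ext (by simpa using hexp g g.2)
    have h2 := orderOf_dvd_of_pow_eq_one h1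
    rw [hg, hE9] at h2
    norm_num at h2
  have hcop : (Nat.card E).Coprime (Nat.card U) := by
    rw [hE9, show (9 : ℕ) = 3 ^ 2 from rfl]
    exact Nat.Coprime.pow_left _ ((Nat.prime_three.coprime_iff_not_dvd).2 hU)
  refine (Cfsg.Lib.Coprime.le_iSup_centralizer_of_not_isCyclic hnc hnorm hcop).trans
    (iSup_le fun a => ?_)
  have h3 : orderOf (a : X) = 3 := orderOf_eq_prime (hexp _ a.2.1) a.2.2
  rintro g ⟨-, hg⟩
  exact s.mem_of_commute_three (hE a.2.1) h3 (Subgroup.mem_centralizer_singleton_iff.1 hg)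

theorem card_fix_inner {R : Subgroup X} (hRK : R ≤ K) (hc : ∀ a ∈ R, ∀ b ∈ R, a * b = b * a)
    (hi : ∀ a ∈ R, a * a = 1) :
    ∃ r0 : ℕ, Nat.card ↥(R ⊓ K0) = 2 ^ r0 ∧ r0 ≤ 9 ∧ Nat.card R ≤ 2 * 2 ^ r0 ∧
      Nat.card ↥(A ⊓ Subgroup.centralizer (R : Set X)) ≤ 2 ^ fixBound r0 := by
  obtain ⟨r0, hr0⟩ := card_pow_two (R := R ⊓ K0) fun a ha => hi a ha.1
  obtain ⟨h9, hb⟩ := s.small (R ⊓ K0) inf_le_right (fun a ha b hb => hc a ha.1 b hb.1)
    (fun a ha => hi a ha.1) r0 hr0
  refine ⟨r0, hr0, h9, ?_, le_trans (Subgroup.card_le_of_le (inf_le_inf_left _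
    (Subgroup.centralizer_le (SetLike.coe_subset_coe.2 inf_le_left)))) hb⟩
  have hidx : (R ⊓ K0).relIndex R ≤ 2 := by
    classical
    by_cases hex : ∃ t ∈ R, t ∉ K0
    · obtain ⟨t, htR, ht0⟩ := hex
      rw [Subgroup.relIndex, Subgroup.index_eq_card]
      let f : Bool → ↥R ⧸ (R ⊓ K0).subgroupOf R := fun c => if c then ⟦⟨t, htR⟩⟧ else ⟦1⟧
      have hf : Function.Surjective f := by
        intro q
        induction q using Quotient.inductionOn with
        | h x =>
          by_cases hx : (x : X) ∈ K0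
          · refine ⟨false, QuotientGroup.eq.2 ?_⟩
            simpa [Subgroup.mem_subgroupOf] using hx
          · refine ⟨true, QuotientGroup.eq.2 ?_⟩
            rw [Subgroup.mem_subgroupOf]
            exact ⟨R.mul_mem (R.inv_mem htR) x.2, s.two t (hRK htR) x (hRK x.2) ht0 hx⟩
      simpa using Nat.card_le_card_of_surjective f hf
    · push Not at hex
      have : R ⊓ K0 = R := inf_eq_left.2 hex
      rw [this, Subgroup.relIndex_self]; norm_num
  have := Subgroup.card_mul_index ((R ⊓ K0).subgroupOf R)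
  rw [Nat.card_congr (Subgroup.subgroupOfEquivOfLe inf_le_left).toEquiv, hr0] at this
  rw [← this, mul_comm 2]
  exact Nat.mul_le_mul le_rfl hidx

/-- An involution of `K` outside `K₀` fixes fewer than `2 ^ 18` elements of `A`. -/
theorem fix_outer {t : X} (ht : t ∈ K) (ht1 : t ≠ 1) :
    Nat.card ↥(A ⊓ Subgroup.centralizer ({t} : Set X)) < 2 ^ 18 := by
  by_contra hle
  push Not at hle
  apply ht1
  refine s.rigid t ht fun e he _ => ?_
  have hc : t * e * t⁻¹ * e⁻¹ ∈ K0 := mul_mem (s.conj_k0 t ht e he) (inv_mem he)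
  by_contra hne
  have hne' : t * e * t⁻¹ * e⁻¹ ≠ 1 := fun h1 => hne (by
    have h2 := mul_inv_eq_one.1 h1
    exact mul_inv_eq_iff_eq_mul.1 h2)
  set T := A ⊓ Subgroup.centralizer ({t} : Set X) with hT
  let T' := T.map (MulAut.conj e).toMonoidHom
  have hT'A : T' ≤ A := by
    rintro _ ⟨a, ha, rfl⟩
    exact s.normal e (s.k0_le he) a ha.1
  have hboth : T ⊓ T' ≤ A ⊓ Subgroup.centralizer ({t * e * t⁻¹ * e⁻¹} : Set X) := by
    rintro a ⟨ha, b, hb, rfl⟩
    refine ⟨ha.1, Subgroup.mem_centralizer_singleton_iff.2 ?_⟩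
    have ha2 : Commute (e * b * e⁻¹) t := Subgroup.mem_centralizer_singleton_iff.1 ha.2
    have hb2 : Commute b t := Subgroup.mem_centralizer_singleton_iff.1 hb.2
    have hb3 : Commute (e * b * e⁻¹) (e * t * e⁻¹) := Commute.map hb2 (MulAut.conj e).toMonoidHom
    show Commute (e * b * e⁻¹) (t * e * t⁻¹ * e⁻¹)
    rw [show t * e * t⁻¹ * e⁻¹ = t * (e * t * e⁻¹)⁻¹ by group]
    exact ha2.mul_right hb3.inv_right
  have h1 := Subgroup.card_le_of_le hboth
  have h2 : Nat.card T' = Nat.card T :=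
    (Nat.card_congr (T.equivMapOfInjective _ (MulAut.conj e).injective).toEquiv).symm
  have h3 : Nat.card T * Nat.card T' ≤ Nat.card A * Nat.card ↥(T ⊓ T') := by
    let f : ↥T × ↥T' → ↥A :=
      fun p => ⟨(p.1 : X) * p.2, mul_mem p.1.2.1 (hT'A p.2.2)⟩
    classical
    have := Fintype.ofFinite ↥T
    have := Fintype.ofFinite ↥T'
    have := Fintype.ofFinite ↥A
    let g : ↥T × ↥T' → ↥A × ↥(T ⊓ T') := fun p =>
      (f p, if hp : ∃ q : ↥T × ↥T', f q = f p then
        ⟨(hp.choose.1 : X)⁻¹ * p.1, by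
          have he' : (hp.choose.1 : X) * hp.choose.2 = (p.1 : X) * p.2 := congrArg Subtype.val hp.choose_spec
          have e2 : (hp.choose.1 : X)⁻¹ * p.1 = (hp.choose.2 : X) * (p.2 : X)⁻¹ := by
            calc (hp.choose.1 : X)⁻¹ * p.1 = (hp.choose.1 : X)⁻¹ * ((p.1 : X) * p.2) * (p.2 : X)⁻¹ := by group
              _ = (hp.choose.1 : X)⁻¹ * ((hp.choose.1 : X) * hp.choose.2) * (p.2 : X)⁻¹ := by rw [he']
              _ = (hp.choose.2 : X) * (p.2 : X)⁻¹ := by group
          exact ⟨T.mul_mem (T.inv_mem hp.choose.1.2) p.1.2, e2 ▸ T'.mul_mem hp.choose.2.2 (T'.inv_mem p.2.2)⟩⟩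
      else 1)
    have hg : Function.Injective g := by
      intro p q hpq
      obtain ⟨h1, h2⟩ := Prod.mk.inj hpq
      rw [dif_pos ⟨p, rfl⟩, dif_pos ⟨q, rfl⟩, Subtype.ext_iff] at h2
      simp only [h1, mul_right_inj] at h2
      have h4 : (p.1 : X) * p.2 = (q.1 : X) * q.2 := congrArg Subtype.val h1
      rw [h2, mul_right_inj] at h4
      exact Prod.ext (Subtype.ext h2) (Subtype.ext h4)
    simpa [Nat.card_prod] using Nat.card_le_card_of_injective g hg
  have h4 := s.moves _ hc hne'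
  rw [h2, s.card_A] at h3
  nlinarith [Nat.mul_le_mul hle hle]

/-- The bound that makes `A` weakly closed. -/
theorem fix_mul_lt {R : Subgroup X} (hRK : R ≤ K) (hc : ∀ a ∈ R, ∀ b ∈ R, a * b = b * a)
    (hi : ∀ a ∈ R, a * a = 1) (hne : R ≠ ⊥) :
    Nat.card R * Nat.card ↥(A ⊓ Subgroup.centralizer (R : Set X)) < 2 ^ 20 := by
  obtain ⟨r0, hr0, h9, hR, hf⟩ := s.card_fix_inner hRK hc hi
  rcases Nat.eq_zero_or_pos r0 with rfl | hpos
  · obtain ⟨t, ht, ht1⟩ := R.ne_bot_iff_exists_ne_one.1 hne |>.elim fun t ht =>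
      (⟨t, t.2, fun e => ht (Subtype.ext e)⟩ : ∃ t, t ∈ R ∧ t ≠ 1)
    have h1 := s.fix_outer (hRK ht) ht1
    have h2 : Nat.card ↥(A ⊓ Subgroup.centralizer (R : Set X)) ≤
        Nat.card ↥(A ⊓ Subgroup.centralizer ({t} : Set X)) :=
      Subgroup.card_le_of_le (inf_le_inf_left _ (Subgroup.centralizer_le (by simpa using ht)))
    nlinarith
  · refine lt_of_le_of_lt (Nat.mul_le_mul hR hf) ?_
    revert hpos h9
    revert r0
    intro r0 _ _ _ h9 hpos
    interval_cases r0 <;> decide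

theorem A_eq_of_map_le {x : X} (hx : A.map (MulAut.conj x).toMonoidHom ≤ H) :
    A.map (MulAut.conj x).toMonoidHom = A := by
  set L := A.map (MulAut.conj x).toMonoidHom with hLdef
  have hLH : L ≤ A ⊔ K := by rw [s.hsup]; exact hx
  have hcL : Nat.card L = 2 ^ 20 := by
    rw [hLdef, Nat.card_congr (A.equivMapOfInjective _ (MulAut.conj x).injective).symm.toEquiv, s.card_A]
  have hcomm : ∀ p ∈ L, ∀ q ∈ L, p * q = q * p := by
    rintro _ ⟨p, hp, rfl⟩ _ ⟨q, hq, rfl⟩
    rw [← map_mul, ← map_mul, s.comm p hp q hq]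
  by_contra hne
  have hRc : ∀ p ∈ s.toCtx.img L, ∀ q ∈ s.toCtx.img L, p * q = q * p := by
    rintro _ ⟨_, ⟨u, hu, rfl⟩, rfl⟩ _ ⟨_, ⟨v, hv, rfl⟩, rfl⟩
    rw [← map_mul, ← map_mul, ← map_mul, ← map_mul,
      show u * v = v * u from Subtype.ext (hcomm _ hu _ hv)]
  have hRi : ∀ p ∈ s.toCtx.img L, p * p = 1 := by
    rintro _ ⟨_, ⟨u, hu, rfl⟩, rfl⟩
    rw [← map_mul, ← map_mul, show u * u = 1 from Subtype.ext ?_, map_one, map_one]
    obtain ⟨a, ha, hau⟩ := hu
    show (u : X) * u = 1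
    rw [show (u : X) = (MulAut.conj x).toMonoidHom a from hau.symm, ← map_mul, s.invol a ha, map_one]
  have hcard := s.toCtx.card_img hLH
  have hRne : s.toCtx.img L ≠ ⊥ := by
    intro hbot
    rw [hbot, Subgroup.card_bot, mul_one] at hcard
    apply hne
    have hsub : A ⊓ L = L := Subgroup.eq_of_le_of_card_ge inf_le_right hcard.le
    exact Subgroup.eq_of_le_of_card_ge (hsub ▸ inf_le_left) (by rw [hcL, s.card_A])
  have hfix : A ⊓ L ≤ A ⊓ Subgroup.centralizer ((s.toCtx.img L : Subgroup X) : Set X) := by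
    rintro b ⟨hb, hbL⟩
    refine ⟨hb, Subgroup.mem_centralizer_iff.2 fun k hk => ?_⟩
    obtain ⟨-, a, ha, hak⟩ := (s.toCtx.mem_img hLH).1 hk
    exact (s.toCtx.commute_comp ha hb).1 (hcomm _ hak _ hbL)
  have h1 := s.fix_mul_lt (s.toCtx.img_le L) hRc hRi hRne
  have h2 := Subgroup.card_le_of_le hfix
  rw [hcL] at hcard
  nlinarith [Nat.mul_le_mul h2 (le_refl (Nat.card (s.toCtx.img L)))]

theorem mem_of_map_le {x : X} (hx : A.map (MulAut.conj x).toMonoidHom ≤ H) : x ∈ H :=
  s.mem_H_of_map (s.A_eq_of_map_le hx)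

end Situation

end Cfsg.Lib.UnitarySixModule
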