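import Mathlib

/-!
# Data for the elements of odd prime order of PSU(6, 2) on the module
-/

set_option autoImplicit false

namespace Cfsg.Lib.UnitarySixModule

/-- Representatives of the classes of elements of order three in the Sylow 3-subgroup. -/
def threeReps : List (List ℕ) := [[5], [5, 7], [3, 4], [5, 5, 6], [5, 3, 4], [0, 1, 3, 4], [5, 0, 1, 3, 4], [5, 5, 0, 1, 3, 4]]

/-- Their fixed space certificates. -/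
def threeCerts : List (List ℕ × List ℕ × List ℕ) := [
  ([0, 0, 0, 0, 0, 0, 0, 0, 512, 768, 2048, 3072, 8192, 12288, 32768, 49152, 131072, 196608, 524288, 786432], [1, 2, 4, 8, 16, 32, 64, 128], [1, 2, 4, 8, 16, 32, 64, 128, 0, 0, 0, 0, 0, 0, 0, 0, 0, 0, 0, 0]),
  ([2, 3, 12, 4, 0, 0, 0, 0, 512, 768, 3072, 1024, 12288, 4096, 0, 0, 0, 0, 524288, 786432], [16, 32, 64, 128, 16384, 32768, 65536, 131072], [0, 0, 0, 0, 1, 2, 4, 8, 0, 0, 0, 0, 0, 0, 16, 32, 64, 128, 0, 0]),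
  ([0, 0, 0, 0, 4, 8, 20, 40, 0, 0, 256, 512, 1280, 2560, 0, 0, 65536, 131072, 16384, 32768], [1, 2, 84, 168, 5376, 10752, 344064, 688128], [1, 2, 0, 0, 0, 0, 4, 8, 0, 0, 0, 0, 16, 32, 0, 0, 0, 0, 64, 128]),
  ([0, 0, 8, 12, 32, 48, 128, 192, 512, 768, 2048, 3072, 8192, 12288, 49152, 16384, 196608, 65536, 786432, 262144], [1, 2], [1, 2, 0, 0, 0, 0, 0, 0, 0, 0, 0, 0, 0, 0, 0, 0, 0, 0, 0, 0]),
  ([0, 0, 0, 0, 4, 8, 20, 40, 0, 0, 768, 256, 3584, 1792, 0, 0, 65536, 131072, 49152, 16384], [1, 2, 84, 168, 7680, 9984, 442368, 737280], [1, 2, 0, 0, 0, 0, 4, 8, 0, 0, 0, 0, 16, 32, 0, 0, 0, 0, 64, 128]),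
  ([0, 0, 0, 0, 0, 0, 0, 0, 256, 512, 1024, 2048, 4096, 8192, 16, 48, 4, 12, 64, 192], [1, 2, 16656, 33584, 69636, 143372, 263232, 527552], [1, 2, 0, 0, 0, 0, 0, 0, 0, 0, 0, 0, 0, 0, 4, 8, 16, 32, 64, 128]),
  ([0, 0, 0, 0, 0, 0, 0, 0, 256, 512, 1024, 2048, 4096, 8192, 32, 16, 8, 4, 128, 64], [1, 2, 16928, 33040, 73736, 135172, 264320, 525376], [1, 2, 0, 0, 0, 0, 0, 0, 0, 0, 0, 0, 0, 0, 4, 8, 16, 32, 64, 128]),
  ([0, 0, 0, 0, 0, 0, 0, 0, 256, 512, 1024, 2048, 4096, 8192, 48, 32, 12, 8, 192, 128], [1, 2, 17200, 33312, 77836, 139272, 265408, 526464], [1, 2, 0, 0, 0, 0, 0, 0, 0, 0, 0, 0, 0, 0, 4, 8, 16, 32, 64, 128])]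

/-- For each element of the Sylow 3-subgroup a class and a word conjugating its representative to it. -/
def threeTable : List (List (ℕ × List ℕ)) := [
  [(8, []), (0, []), (0, [0]), (0, [0, 1]), (0, [1]), (3, []), (0, [0, 1, 0]), (3, [2, 3, 4, 1, 2, 3, 0, 1, 2]), (0, [1, 0]), (0, [1, 2, 0, 1]), (1, []), (1, [0]), (0, [2, 0, 1]), (0, [2, 1]), (3, [2]), (3, [0, 1, 2]), (1, [1]), (3, [1, 2]), (0, [1, 2, 0, 1, 0]), (1, [2]), (1, [2, 0]), (3, [3, 4, 2, 3, 1, 2]), (3, [3, 4, 2, 3, 0, 1, 2]), (1, [1, 2, 0]), (0, [2, 0, 1, 0]), (3, [3, 4, 1, 2, 3, 0, 1, 2]), (0, [2, 1, 0]), (0, [2, 3, 1, 2, 0, 1]), (1, [2, 3]), (1, [2, 3, 0]), (1, [4, 2, 3, 2]), (1, [1, 2, 3]), (0, [4, 2, 3, 1, 2, 0, 1, 0]), (1, [0, 1, 2, 3, 0]), (0, [3, 4, 2, 3, 1, 2, 0, 1]), (1, [1, 2, 3, 0]), (0, [3, 1, 2, 0, 1]), (1, [3]), (1, [3, 0]), (0, [3, 2, 0, 1]), (0,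 [3, 2, 1]), (3, [3, 2]), (3, [3, 0, 1, 2]), (1, [3, 1]), (3, [3, 1, 2]), (3, [1, 2, 3, 0, 1, 2]), (0, [4, 3, 2, 1, 0]), (0, [4, 3, 2, 0, 1, 0]), (1, [4, 3, 2]), (1, [4, 3, 2, 0]), (0, [4, 3, 1, 2, 0, 1, 0]), (3, [2, 3, 0, 1, 2]), (1, [2, 3, 1]), (3, [2, 3, 1, 2]), (0, [2, 3, 1, 2, 0, 1, 0]), (1, [2, 3, 2]), (1, [2, 3, 2, 0]), (1, [4, 1, 2, 3, 0]), (1, [1, 2, 3, 2]), (0, [3, 4, 2, 3, 1, 2, 0, 1, 0]), (1, [4, 2, 3, 0]), (0, [4, 2, 3, 1, 2, 0, 1]), (1, [4, 2, 3]), (3, [4, 3, 2]), (0, [4, 3, 2, 0, 1]), (0, [4, 3, 2, 1]), (3, [4, 3, 1, 2]), (3, [4, 3, 0, 1, 2]), (1, [4, 3, 1]), (1, [4, 3, 0]), (0, [4, 3, 1, 2, 0, 1]), (1, [4, 3]), (0, [3, 1, 2, 0, 1, 0]), (1, [3, 2]), (1, [3, 2, 0]), (3, [4, 2, 3, 1, 2]), (3, [4, 2, 3, 0, 1, 2]), (1, [3, 1, 2, 0]), (0, [3, 2, 0, 1, 0]), (3, [4, 1, 2, 3, 0, 1, 2]), (0, [3, 2, 1, 0])],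
  [(2, []), (4, []), (4, [0]), (4, [8]), (4, [1]), (2, [8]), (4, [8, 1]), (2, [8, 8]), (4, [1, 0]), (8, []), (8, []), (8, []), (8, []), (8, []), (8, []), (8, []), (8, []), (8, []), (8, []), (8, []), (8, []), (8, []), (8, []), (8, []), (8, []), (8, []), (8, []), (2, [7, 7]), (4, [7, 7]), (4, [7, 7, 0]), (4, [8, 7, 7]), (4, [7, 7, 1]), (2, [8, 7, 7]), (4, [8, 7, 7, 1]), (2, [2, 8, 8, 2]), (4, [7, 7, 1, 0]), (8, []), (8, []), (8, []), (8, []), (8, []), (8, []), (8, []), (8, []), (8, []), (8, []), (8, []), (8, []), (8, []), (8, []), (8, []), (8, []), (8, []), (8, []), (2, [7]), (4, [7]), (4, [7, 0]), (4, [8, 7]), (4, [7, 1]), (2, [8, 7]), (4, [8, 7, 1]), (2, [4, 3, 7]), (4, [7, 1, 0]), (8, []), (8, []), (8, []), (8, []), (8, []), (8, []), (8, []), (8, []), (8, []), (8, []), (8, []), (8, []), (8, []), (8, []), (8, []), (8, []),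 (8, []), (8, [])],
  [(2, [3]), (4, [3]), (4, [3, 0]), (4, [3, 8]), (4, [3, 1]), (2, [3, 8]), (4, [8, 3, 0]), (2, [8, 3]), (4, [8, 3]), (8, []), (8, []), (8, []), (8, []), (8, []), (8, []), (8, []), (8, []), (8, []), (8, []), (8, []), (8, []), (8, []), (8, []), (8, []), (8, []), (8, []), (8, []), (2, [3, 7]), (4, [3, 7]), (4, [3, 7, 0]), (4, [7, 3]), (4, [7, 3, 0]), (2, [7, 3]), (4, [7, 3, 1]), (2, [8, 3, 7]), (4, [8, 3, 7]), (8, []), (8, []), (8, []), (8, []), (8, []), (8, []), (8, []), (8, []), (8, []), (8, []), (8, []), (8, []), (8, []), (8, []), (8, []), (8, []), (8, []), (8, []), (2, [3, 7, 7]), (4, [3, 7, 7]), (4, [3, 7, 7, 0]), (4, [7, 3, 7]), (4, [7, 3, 7, 0]), (2, [7, 3, 7]), (4, [7, 7, 3, 0]), (2, [7, 7, 3]), (4, [7, 7, 3]), (8, []), (8, []), (8, []), (8, []), (8, []), (8, []), (8, []), (8, []), (8, []), (8, []),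 (8, []), (8, []), (8, []), (8, []), (8, []), (8, []), (8, []), (8, [])],
  [(2, [2, 3, 4, 1, 2, 3, 0, 1, 2]), (2, [2, 1, 5, 3, 4, 2, 3, 0, 1, 2]), (2, [2, 1, 0, 5, 3, 4, 2, 3, 1, 2]), (2, [2, 6, 3, 4, 1, 2, 3, 0, 1, 2]), (2, [2, 7, 3, 4, 1, 2, 3, 0, 1, 2]), (2, [5, 5, 2, 3, 4, 1, 2, 3, 0, 1, 2]), (2, [2, 1, 6, 3, 4, 2, 3, 0, 1, 2]), (2, [5, 2, 3, 4, 1, 2, 3, 0, 1, 2]), (2, [7, 2, 3, 4, 1, 2, 3, 0, 1, 2]), (8, []), (8, []), (8, []), (8, []), (8, []), (8, []), (8, []), (8, []), (8, []), (8, []), (8, []), (8, []), (8, []), (8, []), (8, []), (8, []), (8, []), (8, []), (4, [2, 3, 4, 1, 2, 3, 0, 1, 2]), (4, [2, 1, 5, 3, 4, 2, 3, 0, 1, 2]), (4, [2, 1, 0, 5, 3, 4, 2, 3, 1, 2]), (4, [2, 6, 3, 4, 1, 2, 3, 0, 1, 2]), (4, [2, 7, 3, 4, 1, 2, 3, 0, 1, 2]), (4, [2, 3, 4, 1, 2, 3, 0, 1, 2, 1, 0]), (4, [2, 1, 6, 3, 4, 2, 3, 0, 1, 2]), (4,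 [5, 2, 3, 4, 1, 2, 3, 0, 1, 2]), (4, [7, 2, 3, 4, 1, 2, 3, 0, 1, 2]), (8, []), (8, []), (8, []), (8, []), (8, []), (8, []), (8, []), (8, []), (8, []), (8, []), (8, []), (8, []), (8, []), (8, []), (8, []), (8, []), (8, []), (8, []), (4, [2, 3, 4, 1, 2, 3, 0, 1, 2, 0]), (4, [2, 1, 5, 3, 4, 2, 3, 0, 1, 2, 0]), (4, [2, 1, 0, 5, 3, 4, 2, 3, 1, 2, 0]), (4, [2, 6, 3, 4, 1, 2, 3, 0, 1, 2, 0]), (4, [2, 7, 3, 4, 1, 2, 3, 0, 1, 2, 0]), (4, [5, 2, 3, 4, 1, 2, 3, 0, 1, 2, 1]), (4, [2, 1, 6, 3, 4, 2, 3, 0, 1, 2, 0]), (4, [2, 3, 4, 1, 2, 3, 0, 1, 2, 1]), (4, [7, 2, 3, 4, 1, 2, 3, 0, 1, 2, 0]), (8, []), (8, []), (8, []), (8, []), (8, []), (8, []), (8, []), (8, []), (8, []), (8, []), (8, []), (8, []), (8, []), (8, []), (8, []), (8, []), (8, []), (8, [])],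
  [(5, []), (6, []), (7, []), (6, [8]), (7, [8]), (5, [8]), (7, [5]), (5, [5]), (6, [5]), (8, []), (8, []), (8, []), (8, []), (8, []), (8, []), (8, []), (8, []), (8, []), (8, []), (8, []), (8, []), (8, []), (8, []), (8, []), (8, []), (8, []), (8, []), (6, [7, 7, 5]), (7, [7, 7, 5]), (5, [7, 7, 5]), (7, [7, 7]), (5, [7, 7]), (6, [7, 7]), (5, [8, 7, 7]), (6, [8, 7, 7]), (7, [8, 7, 7]), (8, []), (8, []), (8, []), (8, []), (8, []), (8, []), (8, []), (8, []), (8, []), (8, []), (8, []), (8, []), (8, []), (8, []), (8, []), (8, []), (8, []), (8, []), (7, [8, 7]), (5, [8, 7]), (6, [8, 7]), (5, [7, 5]), (6, [7, 5]), (7, [7, 5]), (6, [7]), (7, [7]), (5, [7]), (8, []), (8, []), (8, []), (8, []), (8, []), (8, []), (8, []), (8, []), (8, []), (8, []), (8, []), (8, []), (8, []), (8, []), (8, []), (8, []), (8, []), (8, [])],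
  [(5, [3]), (6, [3]), (7, [3]), (6, [3, 8]), (7, [3, 8]), (5, [3, 8]), (7, [5, 3]), (5, [5, 3]), (6, [5, 3]), (8, []), (8, []), (8, []), (8, []), (8, []), (8, []), (8, []), (8, []), (8, []), (8, []), (8, []), (8, []), (8, []), (8, []), (8, []), (8, []), (8, []), (8, []), (7, [7, 3]), (5, [7, 3]), (6, [7, 3]), (5, [3, 7, 5]), (6, [3, 7, 5]), (7, [3, 7, 5]), (6, [3, 7]), (7, [3, 7]), (5, [3, 7]), (8, []), (8, []), (8, []), (8, []), (8, []), (8, []), (8, []), (8, []), (8, []), (8, []), (8, []), (8, []), (8, []), (8, []), (8, []), (8, []), (8, []), (8, []), (6, [7, 7, 3]), (7, [7, 7, 3]), (5, [7, 7, 3]), (7, [3, 7, 7]), (5, [3, 7, 7]), (6, [3, 7, 7]), (5, [7, 3, 7]), (6, [7, 3, 7]), (7, [7, 3, 7]), (8, []), (8, []), (8, []), (8, []), (8, []), (8, []), (8, []), (8, []), (8, []), (8, []), (8, []), (8, []), (8, []), (8, []), (8,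 []), (8, []), (8, []), (8, [])],
  [(2, [2, 3, 4, 0, 1, 2, 3, 0, 1, 2]), (2, [1, 2, 7, 3, 4, 1, 2, 3, 0, 1, 2]), (2, [2, 6, 3, 4, 0, 1, 2, 3, 0, 1, 2]), (2, [2, 7, 3, 4, 0, 1, 2, 3, 0, 1, 2]), (2, [2, 0, 6, 3, 4, 1, 2, 3, 0, 1, 2]), (2, [5, 2, 3, 4, 0, 1, 2, 3, 0, 1, 2]), (2, [7, 2, 3, 4, 0, 1, 2, 3, 0, 1, 2]), (2, [0, 5, 2, 3, 4, 1, 2, 3, 0, 1, 2]), (2, [2, 0, 1, 6, 3, 4, 2, 3, 0, 1, 2]), (8, []), (8, []), (8, []), (8, []), (8, []), (8, []), (8, []), (8, []), (8, []), (8, []), (8, []), (8, []), (8, []), (8, []), (8, []), (8, []), (8, []), (8, []), (4, [2, 3, 4, 0, 1, 2, 3, 0, 1, 2]), (4, [1, 2, 7, 3, 4, 1, 2, 3, 0, 1, 2]), (4, [2, 6, 3, 4, 0, 1, 2, 3, 0, 1, 2]), (4, [2, 7, 3, 4, 0, 1, 2, 3, 0, 1, 2]), (4, [2, 0, 6, 3, 4, 1, 2, 3, 0, 1, 2]), (4, [5, 2, 3, 4, 0, 1, 2, 3, 0, 1, 2]), (4, [7, 2, 3, 4, 0, 1, 2, 3, 0, 1, 2]), (4,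 [0, 5, 2, 3, 4, 1, 2, 3, 0, 1, 2]), (4, [2, 0, 1, 6, 3, 4, 2, 3, 0, 1, 2]), (8, []), (8, []), (8, []), (8, []), (8, []), (8, []), (8, []), (8, []), (8, []), (8, []), (8, []), (8, []), (8, []), (8, []), (8, []), (8, []), (8, []), (8, []), (4, [2, 3, 4, 0, 1, 2, 3, 0, 1, 2, 0]), (4, [1, 2, 7, 3, 4, 1, 2, 3, 0, 1, 2, 0]), (4, [2, 6, 3, 4, 0, 1, 2, 3, 0, 1, 2, 0]), (4, [2, 7, 3, 4, 0, 1, 2, 3, 0, 1, 2, 0]), (4, [2, 0, 6, 3, 4, 1, 2, 3, 0, 1, 2, 0]), (4, [5, 2, 3, 4, 0, 1, 2, 3, 0, 1, 2, 0]), (4, [7, 2, 3, 4, 0, 1, 2, 3, 0, 1, 2, 0]), (4, [2, 3, 4, 0, 1, 2, 3, 0, 1, 2, 1]), (4, [2, 0, 1, 6, 3, 4, 2, 3, 0, 1, 2, 0]), (8, []), (8, []), (8, []), (8, []), (8, []), (8, []), (8, []), (8, []), (8, []), (8, []), (8, []), (8, []), (8, []), (8, []), (8, []), (8, []), (8, []), (8, [])],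
  [(5, [0]), (7, [0]), (6, [0]), (7, [5, 0]), (6, [1]), (5, [5, 0]), (6, [5, 1]), (5, [0, 5]), (7, [1]), (8, []), (8, []), (8, []), (8, []), (8, []), (8, []), (8, []), (8, []), (8, []), (8, []), (8, []), (8, []), (8, []), (8, []), (8, []), (8, []), (8, []), (8, []), (6, [7, 1, 7]), (5, [1, 7, 7]), (7, [7, 7, 1]), (5, [7, 7, 0]), (7, [7, 7, 0]), (6, [7, 7, 0]), (7, [1, 7, 7]), (6, [7, 7, 1]), (5, [7, 1, 7]), (8, []), (8, []), (8, []), (8, []), (8, []), (8, []), (8, []), (8, []), (8, []), (8, []), (8, []), (8, []), (8, []), (8, []), (8, []), (8, []), (8, []), (8, []), (7, [7, 5, 0]), (6, [7, 1]), (5, [1, 7]), (6, [1, 7]), (5, [7, 0, 5]), (7, [7, 1]), (5, [7, 0]), (7, [7, 0]), (6, [7, 0]), (8, []), (8, []), (8, []), (8, []), (8, []), (8, []), (8, []), (8, []), (8, []), (8, []), (8, []), (8, []), (8, []), (8, []), (8, []), (8,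 []), (8, []), (8, [])],
  [(5, [3, 0]), (7, [3, 0]), (6, [3, 0]), (7, [5, 3, 0]), (6, [3, 1]), (5, [5, 3, 0]), (6, [8, 3, 0]), (5, [8, 3, 0]), (7, [3, 1]), (8, []), (8, []), (8, []), (8, []), (8, []), (8, []), (8, []), (8, []), (8, []), (8, []), (8, []), (8, []), (8, []), (8, []), (8, []), (8, []), (8, []), (8, []), (7, [7, 3, 0]), (6, [7, 3, 0]), (5, [7, 3, 0]), (6, [7, 3, 1]), (5, [1, 7, 3]), (7, [3, 7, 1]), (5, [3, 7, 0]), (7, [3, 7, 0]), (6, [3, 7, 0]), (8, []), (8, []), (8, []), (8, []), (8, []), (8, []), (8, []), (8, []), (8, []), (8, []), (8, []), (8, []), (8, []), (8, []), (8, []), (8, []), (8, []), (8, []), (6, [7, 7, 3, 0]), (5, [7, 7, 3, 0]), (7, [7, 7, 3, 0]), (5, [3, 7, 7, 0]), (7, [3, 7, 7, 0]), (6, [3, 7, 7, 0]), (7, [7, 3, 7, 0]), (6, [7, 3, 7, 0]), (5, [7, 3, 7, 0]), (8, []), (8, []), (8, []), (8, []), (8,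 []), (8, []), (8, []), (8, []), (8, []), (8, []), (8, []), (8, []), (8, []), (8, []), (8, []), (8, []), (8, []), (8, [])]]

/-- Words of orders 5, 7 and 11 with their certificates. -/
def primeWords : List (ℕ × List ℕ × List ℕ × List ℕ × List ℕ) := [
  (5, [7, 10, 6, 2, 0, 10, 0], [778, 271, 262671, 787205, 12336, 8208, 3264, 2112, 524814, 262919, 0, 0, 10480, 13408, 0, 0, 13440, 7360, 524804, 786700], [27648, 37888, 79872, 136192], [0, 0, 0, 0, 0, 0, 0, 0, 0, 0, 0, 0, 0, 0, 1, 2, 4, 8, 0, 0]),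
  (7, [6, 2, 5, 4, 10, 2, 10, 1, 2, 1, 1, 2, 3], [0, 0, 17795, 17718, 167, 17824, 674901, 222, 143347, 547441, 159347, 530246, 593863, 611625, 142957, 685570, 597831, 27248, 685440, 547440], [36791, 490073], [0, 0, 0, 0, 0, 0, 0, 0, 0, 0, 0, 0, 0, 0, 0, 1, 0, 0, 2, 0]),
  (11, [9, 7, 3, 2, 9, 1, 5, 10, 0], [554994, 305555, 959176, 643980, 843362, 554995, 807391, 320378, 972670, 621015, 318753, 816690, 423259, 778166, 907885, 753654, 1012232, 381188, 972734, 503529], [], [0, 0, 0, 0, 0, 0, 0, 0, 0, 0, 0, 0, 0, 0, 0, 0, 0, 0, 0, 0])]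

end Cfsg.Lib.UnitarySixModule
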