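import Cfsg.Agent.Lib.UnitarySixModule.Extra
import Cfsg.Agent.Lib.UnitarySixModule.OddData

/-!
# Fixed points of elements of odd prime order

Elements of order three are conjugate into a subgroup of order 729 of monomial elements; those of order 5, 7 and
11 are conjugate to powers of three words.
-/

set_option autoImplicit false
set_option linter.unusedSectionVars false
set_option maxRecDepth 100000

namespace Cfsg.Lib.UnitarySixModule

open Cfsg.Lib.CosetEnum

/-- A word of the Sylow 3-subgroup. -/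
def threeWord (k : ℕ) : List ℕ :=
  diagWord (k % 81) ++ ((List.replicate (k / 243) [0, 1]).flatten ++ (List.replicate (k / 81 % 3) [3, 4]).flatten)

/-- The entry of the table of classes. -/
def threeEntry (k : ℕ) : ℕ × List ℕ := colL (8, []) (colL [] threeTable (k / 81)) (k % 81)

theorem three_rels : relOk [0, 1, 0, 1, 0, 1] [] = true ∧ relOk [3, 4, 3, 4, 3, 4] [] = true ∧
    relOk [0, 1, 3, 4] [3, 4, 0, 1] = true := by decide +kernel

theorem three_distinct : (∀ e : Fin 81, e.1 ≠ 0 → wordMat (diagWord e.1) ≠ oneM) ∧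
    ∀ d : Fin 9, d.1 ≠ 0 → ∀ e : Fin 81, wordMat (threeWord (81 * d.1)) ≠ wordMat (diagWord e.1) := by
  decide +kernel

theorem three_class : ∀ k : Fin 729,
    mulM (mulM (wordMat (threeWord k.1)) (wordMat (threeWord k.1))) (wordMat (threeWord k.1)) ≠ oneM ∨
    k.1 = 0 ∨
    ((threeEntry k.1).1 < 8 ∧ (threeEntry k.1).2.all (fun g => Nat.ble g 10) = true ∧
      mulM (wordMat (threeEntry k.1).2) (wordMat (colL [] threeReps (threeEntry k.1).1)) =
        mulM (wordMat (threeWord k.1)) (wordMat (threeEntry k.1).2)) := by decide +kernel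

theorem three_cert : ∀ r : Fin 8,
    (colL [] threeReps r.1).all (fun g => Nat.ble g 10) = true ∧
    (colL ([], [], []) threeCerts r.1).2.2.length ≤ 20 ∧
    certOk 8 [wordMat (colL [] threeReps r.1)] [(colL ([], [], []) threeCerts r.1).1]
      (colL ([], [], []) threeCerts r.1).2.1 (colL ([], [], []) threeCerts r.1).2.2 = true := by decide +kernel

theorem three_letters : ∀ k : Fin 729, (threeWord k.1).all (fun g => Nat.ble g 10) = true := by decide +kernel

/-- The entry for one of the primes 5, 7, 11. -/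
def primeEntry (i : ℕ) : ℕ × List ℕ × List ℕ × List ℕ × List ℕ := colL (0, [], [], [], []) primeWords i

/-- A power of a matrix. -/
def powM (M : List ℕ) : ℕ → List ℕ
  | 0 => oneM
  | n + 1 => mulM M (powM M n)

theorem prime_cert : ∀ i : Fin 3,
    ((primeEntry i.1).2.1.all (fun g => Nat.ble g 10) = true ∧ (primeEntry i.1).2.2.2.2.length ≤ 20) ∧
    certOk 4 [wordMat (primeEntry i.1).2.1] [(primeEntry i.1).2.2.1] (primeEntry i.1).2.2.2.1
      (primeEntry i.1).2.2.2.2 = true ∧
    powM (wordMat (primeEntry i.1).2.1) (primeEntry i.1).1 = oneM ∧ wordMat (primeEntry i.1).2.1 ≠ oneM ∧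
    (primeEntry i.1).1 = [5, 7, 11].getD i.1 0 := by decide +kernel

theorem small_all : Small oneM = true := by decide +kernel

theorem small_mulM {M N : List ℕ} (hM : Small M = true) (hN : Small N = true) : Small (mulM M N) = true := by
  rw [Small, Bool.and_eq_true, List.all_eq_true] at hN ⊢
  refine ⟨by rw [mulM, List.length_map]; exact hN.1, fun y hy => ?_⟩
  rw [mulM, List.mem_map] at hy
  obtain ⟨z, -, rfl⟩ := hy
  exact Nat.ble_eq_true_of_le (Small.app_lt hM z)

theorem letters_lt {w : List ℕ} (h : w.all (fun g => Nat.ble g 10) = true) : ∀ g ∈ w, g < 11 := fun g hg => by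
  rw [List.all_eq_true] at h
  have := Nat.le_of_ble_eq_true (h g hg)
  omega

/-- The Sylow 3-subgroup element with a given number. -/
noncomputable def threeElt (k : ℕ) : Cfsg.PSU 6 GF4 2 := pword (threeWord k)

theorem threeElt_eq (k : ℕ) : threeElt k = pdiag (k % 81) * ((pword [0, 1]) ^ (k / 243) * (pword [3, 4]) ^ (k / 81 % 3)) := by
  have hflat : ∀ (w : List ℕ) (n : ℕ), pword (List.replicate n w).flatten = pword w ^ n := fun w n => by
    induction n with
    | zero => simp [pword_nil]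
    | succ n ih => rw [List.replicate_succ, List.flatten_cons, pword_append, ih, pow_succ']
  rw [threeElt, threeWord, pword_append, pword_append, hflat, hflat]
  rfl

section

variable {X : Type*} [Group X] [Finite X] {A : Subgroup X} {ι : Cfsg.PSU 6 GF4 2 →* X} (m : Model A ι)
  {b : ℕ → X} (c : Coord A b) (hb : ∀ g, g < 11 → Acts b (ι (pgen g)) (letterMat g))
include m c hb

theorem eq_one_of_mat {p : Cfsg.PSU 6 GF4 2} (h : Acts b (ι p) oneM) : p = 1 :=
  m.faithful p fun _ ha => c.commute_of_one h ha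

theorem eq_of_mats {p q : Cfsg.PSU 6 GF4 2} {M : List ℕ} (h1 : Acts b (ι p) M) (h2 : Acts b (ι q) M) : p = q := by
  refine inv_mul_eq_one.1 (eq_one_of_mat m c hb ⟨by simp [oneM], fun i hi => ?_⟩)
  have e : col oneM i = 2 ^ i := by
    rw [col_eq, oneM, List.getD_eq_getElem _ _ (by simpa using hi), List.getElem_map, List.getElem_range]
  rw [e, eval_two_pow c.toSys hi, map_mul, map_inv,
    show (ι p)⁻¹ * ι q * b i * ((ι p)⁻¹ * ι q)⁻¹ = (ι p)⁻¹ * (ι q * b i * (ι q)⁻¹) * ι p by group,
    h2.2 i hi, ← h1.2 i hi]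
  group

theorem word_ne_one {w : List ℕ} (hw : w.all (fun g => Nat.ble g 10) = true) (h : wordMat w ≠ oneM) :
    pword w ≠ 1 := by
  intro e
  obtain ⟨h1, h2⟩ := word_acts m c hb w (letters_lt hw)
  rw [e, map_one] at h1
  exact h (c.matrix_unique h1 (acts_one c.toSys) h2 small_all)

/-- The elements fixed by the image of an element. -/
noncomputable def fixCard (A : Subgroup X) (ι : Cfsg.PSU 6 GF4 2 →* X) (p : Cfsg.PSU 6 GF4 2) : ℕ :=
  Nat.card ↥(A ⊓ Subgroup.centralizer ({ι p} : Set X))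

theorem fixCard_word {w : List ℕ} (hw : w.all (fun g => Nat.ble g 10) = true) {f : ℕ} {L : List ℕ}
    {P π : List ℕ} (hlen : π.length ≤ 20) (hc : certOk f [wordMat w] [L] P π = true) :
    fixCard A ι (pword w) ≤ 2 ^ f := by
  refine c.card_fix_le (ks := [(ι (pword w), wordMat w)]) (Ls := [L]) (fun km hkm => ?_) hlen hc inf_le_left ?_
  · rw [List.mem_singleton] at hkm
    subst hkm
    exact word_acts m c hb w (letters_lt hw)
  · intro km hkm a ha
    rw [List.mem_singleton] at hkm
    subst hkm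
    show ι (pword w) * a * (ι (pword w))⁻¹ = a
    rw [← Subgroup.mem_centralizer_singleton_iff.1 ha.2, mul_inv_cancel_right]

theorem fixCard_conj (p q : Cfsg.PSU 6 GF4 2) : fixCard A ι (q * p * q⁻¹) ≤ fixCard A ι p := by
  refine Nat.card_le_card_of_injective
    (fun a => (⟨(ι q)⁻¹ * (a : X) * ι q, ?_, ?_⟩ : ↥(A ⊓ Subgroup.centralizer ({ι p} : Set X)))) ?_
  · have := m.normal q⁻¹ a a.2.1
    simpa [map_inv] using this
  · refine Subgroup.mem_centralizer_singleton_iff.2 ?_
    have h : (a : X) * (ι q * ι p * (ι q)⁻¹) = ι q * ι p * (ι q)⁻¹ * (a : X) := by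
      have h0 := Subgroup.mem_centralizer_singleton_iff.1 a.2.2
      simpa [map_mul, map_inv] using h0
    calc (ι q)⁻¹ * a * ι q * ι p = (ι q)⁻¹ * ((a : X) * (ι q * ι p * (ι q)⁻¹)) * ι q := by group
      _ = (ι q)⁻¹ * ((ι q * ι p * (ι q)⁻¹) * (a : X)) * ι q := by rw [h]
      _ = ι p * ((ι q)⁻¹ * a * ι q) := by group
  · intro a a' h
    have h' : (ι q)⁻¹ * (a : X) * ι q = (ι q)⁻¹ * (a' : X) * ι q :=
      congrArg (fun z : ↥(A ⊓ Subgroup.centralizer ({ι p} : Set X)) => (z : X)) h
    exact Subtype.ext (mul_left_cancel (mul_right_cancel h'))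

theorem fixCard_pow (p : Cfsg.PSU 6 GF4 2) (k : ℕ) : fixCard A ι p ≤ fixCard A ι (p ^ k) := by
  refine Subgroup.card_le_of_le fun a ha => ⟨ha.1, Subgroup.mem_centralizer_singleton_iff.2 ?_⟩
  rw [map_pow]
  exact (show Commute a (ι p) from Subgroup.mem_centralizer_singleton_iff.1 ha.2).pow_right k

theorem card_psu_factor : Nat.card (Cfsg.PSU 6 GF4 2) = 2 ^ 15 * 3 ^ 6 * 5 * 7 * 11 := by
  rw [GF4.card_psu.1]; norm_num

theorem fixCard_three {p : Cfsg.PSU 6 GF4 2} (hp : orderOf p = 3) : fixCard A ι p ≤ 2 ^ 8 := by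
  have : Fact (Nat.Prime 3) := ⟨Nat.prime_three⟩
  set s := pword [0, 1] with hs
  set t := pword [3, 4] with ht
  have hs3 : s ^ 3 = 1 := by
    rw [hs, show pword [0, 1] ^ 3 = pword [0, 1] * pword [0, 1] * pword [0, 1] by rw [pow_succ, pow_two],
      ← pword_append, ← pword_append]
    exact rel_sound three_rels.1
  have ht3 : t ^ 3 = 1 := by
    rw [ht, show pword [3, 4] ^ 3 = pword [3, 4] * pword [3, 4] * pword [3, 4] by rw [pow_succ, pow_two],
      ← pword_append, ← pword_append]
    exact rel_sound three_rels.2.1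
  have hst : Commute s t := by
    show s * t = t * s
    rw [hs, ht, ← pword_append, ← pword_append]
    exact rel_sound three_rels.2.2
  let f : Fin 729 → Cfsg.PSU 6 GF4 2 := fun k => threeElt k.1
  let S : Set (Cfsg.PSU 6 GF4 2) := Set.range f
  have hgen : ∀ g : ℕ, g < 5 → ∀ n, n < 81 → ∃ n', n' < 81 ∧ pgen g * pdiag n = pdiag n' * pgen g :=
    fun g hg n hn => ⟨sigma g n, sigma_lt hg hn, by rw [← pgen_conj_diag hg]; group⟩
  have hpush : ∀ w : List ℕ, (∀ g ∈ w, g < 5) → ∀ n, n < 81 → ∃ n', n' < 81 ∧ pword w * pdiag n = pdiag n' * pword w := by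
    intro w
    induction w with
    | nil => intro _ n hn; exact ⟨n, hn, by rw [pword_nil, one_mul, mul_one]⟩
    | cons g w ih =>
      intro hw n hn
      obtain ⟨n1, h1, e1⟩ := ih (fun x hx => hw x (List.mem_cons_of_mem _ hx)) n hn
      obtain ⟨n2, h2, e2⟩ := hgen g (hw g (List.mem_cons_self ..)) n1 h1
      refine ⟨n2, h2, ?_⟩
      rw [show g :: w = [g] ++ w from rfl, pword_append, mul_assoc, e1, ← mul_assoc,
        show pword [g] = pgen g from rfl, e2, mul_assoc]
  have hsn : ∀ i n, n < 81 → ∃ n', n' < 81 ∧ s ^ i * pdiag n = pdiag n' * s ^ i := by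
    intro i
    induction i with
    | zero => intro n hn; exact ⟨n, hn, by simp⟩
    | succ i ih =>
      intro n hn
      obtain ⟨n1, h1, e1⟩ := hpush [0, 1] (by decide) n hn
      obtain ⟨n2, h2, e2⟩ := ih n1 h1
      exact ⟨n2, h2, by rw [pow_succ, mul_assoc, e1, ← mul_assoc, e2, mul_assoc]⟩
  have htn : ∀ i n, n < 81 → ∃ n', n' < 81 ∧ t ^ i * pdiag n = pdiag n' * t ^ i := by
    intro i
    induction i with
    | zero => intro n hn; exact ⟨n, hn, by simp⟩
    | succ i ih =>
      intro n hn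
      obtain ⟨n1, h1, e1⟩ := hpush [3, 4] (by decide) n hn
      obtain ⟨n2, h2, e2⟩ := ih n1 h1
      exact ⟨n2, h2, by rw [pow_succ, mul_assoc, e1, ← mul_assoc, e2, mul_assoc]⟩
  have hmem : ∀ n i j : ℕ, n < 81 → pdiag n * (s ^ i * t ^ j) ∈ S := by
    intro n i j hn
    refine ⟨⟨n + 243 * (i % 3) + 81 * (j % 3), by omega⟩, ?_⟩
    show threeElt _ = _
    rw [threeElt_eq, show (n + 243 * (i % 3) + 81 * (j % 3)) % 81 = n by omega,
      show (n + 243 * (i % 3) + 81 * (j % 3)) / 243 = i % 3 by omega,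
      show (n + 243 * (i % 3) + 81 * (j % 3)) / 81 % 3 = j % 3 by omega, ← hs, ← ht,
      ← pow_eq_pow_mod i hs3, ← pow_eq_pow_mod j ht3]
  have hmul : ∀ x ∈ S, ∀ y ∈ S, x * y ∈ S := by
    rintro _ ⟨k, rfl⟩ _ ⟨l, rfl⟩
    show threeElt k.1 * threeElt l.1 ∈ S
    rw [threeElt_eq, threeElt_eq, ← hs, ← ht]
    obtain ⟨n1, h1, e1⟩ := htn (k.1 / 81 % 3) (l.1 % 81) (by omega)
    obtain ⟨n2, h2, e2⟩ := hsn (k.1 / 243) n1 h1
    have e : pdiag (k.1 % 81) * (s ^ (k.1 / 243) * t ^ (k.1 / 81 % 3)) *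
        (pdiag (l.1 % 81) * (s ^ (l.1 / 243) * t ^ (l.1 / 81 % 3))) =
        pdiag (addT (k.1 % 81) n2) * (s ^ (k.1 / 243 + l.1 / 243) * t ^ (k.1 / 81 % 3 + l.1 / 81 % 3)) := by
      rw [pdiag_add, pow_add, pow_add]
      calc pdiag (k.1 % 81) * (s ^ (k.1 / 243) * t ^ (k.1 / 81 % 3)) *
            (pdiag (l.1 % 81) * (s ^ (l.1 / 243) * t ^ (l.1 / 81 % 3)))
          = pdiag (k.1 % 81) * s ^ (k.1 / 243) * (t ^ (k.1 / 81 % 3) * pdiag (l.1 % 81)) *
              (s ^ (l.1 / 243) * t ^ (l.1 / 81 % 3)) := by group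
        _ = pdiag (k.1 % 81) * (s ^ (k.1 / 243) * pdiag n1) * (t ^ (k.1 / 81 % 3) * s ^ (l.1 / 243)) *
              t ^ (l.1 / 81 % 3) := by rw [e1]; group
        _ = pdiag (k.1 % 81) * (pdiag n2 * s ^ (k.1 / 243)) * (s ^ (l.1 / 243) * t ^ (k.1 / 81 % 3)) *
              t ^ (l.1 / 81 % 3) := by rw [e2, (hst.pow_pow _ _).eq]
        _ = _ := by group
    rw [e]
    exact hmem _ _ _ (addT_lt _ _)
  have hone : (1 : Cfsg.PSU 6 GF4 2) ∈ S := by
    have := hmem 0 0 0 (by norm_num)
    rwa [pdiag_zero, pow_zero, pow_zero, one_mul, one_mul] at this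
  have : Finite (Cfsg.PSU 6 GF4 2) := Nat.finite_of_card_ne_zero (by rw [GF4.card_psu.1]; norm_num)
  let M : Submonoid (Cfsg.PSU 6 GF4 2) :=
    { carrier := S, one_mem' := hone, mul_mem' := fun ha hb => hmul _ ha _ hb }
  let Q : Subgroup (Cfsg.PSU 6 GF4 2) :=
    { M with
      inv_mem' := by
        intro x hx
        show x⁻¹ ∈ S
        have e : x ^ (orderOf x - 1) = x⁻¹ := by
          refine eq_inv_of_mul_eq_one_left ?_
          rw [← pow_succ, show orderOf x - 1 + 1 = orderOf x by have := orderOf_pos x; omega, pow_orderOf_eq_one]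
        rw [← e]
        exact M.pow_mem hx _ }
  have hinj : Function.Injective f := by
    intro k l h
    change threeElt k.1 = threeElt l.1 at h
    rw [threeElt_eq, threeElt_eq, ← hs, ← ht] at h
    have hquot : k.1 / 81 = l.1 / 81 := by
      by_contra hne
      set i := k.1 / 243
      set j := k.1 / 81 % 3
      set i' := l.1 / 243
      set j' := l.1 / 81 % 3
      have hperm : s ^ (i + 2 * i') * t ^ (j + 2 * j') = pdiag (addT (negT (k.1 % 81)) (l.1 % 81)) := by
        have h1 : s ^ i * t ^ j = (pdiag (k.1 % 81))⁻¹ * pdiag (l.1 % 81) * (s ^ i' * t ^ j') := by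
          rw [mul_assoc, ← h, inv_mul_cancel_left]
        have hneg : (pdiag (k.1 % 81))⁻¹ = pdiag (negT (k.1 % 81)) := by
          refine (eq_inv_of_mul_eq_one_left ?_).symm
          rw [← pdiag_add, (add_neg_facts ⟨k.1 % 81, by omega⟩).1, pdiag_zero]
        rw [pdiag_add, ← hneg, pow_add, pow_add]
        calc s ^ i * s ^ (2 * i') * (t ^ j * t ^ (2 * j'))
            = s ^ i * (s ^ (2 * i') * t ^ j) * t ^ (2 * j') := by group
          _ = (s ^ i * t ^ j) * (s ^ (2 * i') * t ^ (2 * j')) := by rw [(hst.pow_pow _ _).eq]; group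
          _ = (pdiag (k.1 % 81))⁻¹ * pdiag (l.1 % 81) * (s ^ i' * t ^ j') * (s ^ (2 * i') * t ^ (2 * j')) := by rw [h1]
          _ = (pdiag (k.1 % 81))⁻¹ * pdiag (l.1 % 81) * (s ^ i' * (t ^ j' * s ^ (2 * i')) * t ^ (2 * j')) := by group
          _ = (pdiag (k.1 % 81))⁻¹ * pdiag (l.1 % 81) * (s ^ i' * (s ^ (2 * i') * t ^ j') * t ^ (2 * j')) := by
              rw [(hst.symm.pow_pow _ _).eq]
          _ = (pdiag (k.1 % 81))⁻¹ * pdiag (l.1 % 81) * ((s ^ 3) ^ i' * (t ^ 3) ^ j') := by
              rw [← pow_mul, ← pow_mul, show 3 * i' = i' + 2 * i' by omega, show 3 * j' = j' + 2 * j' by omega,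
                pow_add, pow_add]
              group
          _ = _ := by rw [hs3, ht3, one_pow, one_pow, one_mul, mul_one]
      let d : ℕ := 3 * ((i + 2 * i') % 3) + (j + 2 * j') % 3
      have hd : d < 9 := by show 3 * ((i + 2 * i') % 3) + (j + 2 * j') % 3 < 9; omega
      have hd0 : d ≠ 0 := by
        show 3 * ((i + 2 * i') % 3) + (j + 2 * j') % 3 ≠ 0
        intro h0
        apply hne
        have hk := k.2
        have hl := l.2
        have hi : i < 3 := Nat.div_lt_of_lt_mul (by omega)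
        have hi' : i' < 3 := Nat.div_lt_of_lt_mul (by omega)
        have hj : j < 3 := Nat.mod_lt _ (by omega)
        have hj' : j' < 3 := Nat.mod_lt _ (by omega)
        have h00 : (i + 2 * i') % 3 = 0 ∧ (j + 2 * j') % 3 = 0 := by omega
        have hii : i = i' := by have := h00.1; clear_value i i'; omega
        have hjj : j = j' := by have := h00.2; clear_value j j'; omega
        have ek : k.1 / 81 = 3 * i + j := by
          rw [show i = k.1 / 81 / 3 by show k.1 / 243 = _; rw [Nat.div_div_eq_div_mul]]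
          exact (Nat.div_add_mod _ 3).symm
        have el : l.1 / 81 = 3 * i' + j' := by
          rw [show i' = l.1 / 81 / 3 by show l.1 / 243 = _; rw [Nat.div_div_eq_div_mul]]
          exact (Nat.div_add_mod _ 3).symm
        rw [ek, el, hii, hjj]
      have e : threeElt (81 * d) = pdiag (addT (negT (k.1 % 81)) (l.1 % 81)) := by
        rw [threeElt_eq, show 81 * d % 81 = 0 by omega, pdiag_zero, one_mul,
          show 81 * d / 243 = (i + 2 * i') % 3 by
            show 81 * (3 * ((i + 2 * i') % 3) + (j + 2 * j') % 3) / 243 = _; omega,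
          show 81 * d / 81 % 3 = (j + 2 * j') % 3 by
            show 81 * (3 * ((i + 2 * i') % 3) + (j + 2 * j') % 3) / 81 % 3 = _; omega,
          ← hs, ← ht, ← pow_eq_pow_mod _ hs3, ← pow_eq_pow_mod _ ht3, hperm]
      obtain ⟨a1, a2⟩ := word_acts m c hb (threeWord (81 * d))
        (letters_lt (three_letters ⟨81 * d, by omega⟩))
      have hlt := addT_lt (negT (k.1 % 81)) (l.1 % 81)
      set e81 := addT (negT (k.1 % 81)) (l.1 % 81)
      have hw : diagWord e81 = threeWord e81 := by
        rw [threeWord, show e81 % 81 = e81 by omega, show e81 / 243 = 0 by omega,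
          show e81 / 81 % 3 = 0 by omega]
        simp
      obtain ⟨b1, b2⟩ := word_acts m c hb (diagWord e81)
        (letters_lt (hw ▸ three_letters ⟨e81, by omega⟩))
      change Acts b (ι (threeElt (81 * d))) _ at a1
      rw [e] at a1
      exact three_distinct.2 ⟨d, hd⟩ hd0 ⟨e81, hlt⟩ (c.matrix_unique a1 b1 a2 b2)
    rw [show k.1 / 243 = l.1 / 243 by omega, show k.1 / 81 % 3 = l.1 / 81 % 3 by omega, mul_left_inj] at h
    have h0 : pdiag (addT (negT (k.1 % 81)) (l.1 % 81)) = 1 := by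
      rw [pdiag_add, ← h, ← pdiag_add, (add_neg_facts ⟨k.1 % 81, by omega⟩).1, pdiag_zero]
    by_contra hne
    have hlt := addT_lt (negT (k.1 % 81)) (l.1 % 81)
    set e81 := addT (negT (k.1 % 81)) (l.1 % 81) with he81
    have he0 : e81 ≠ 0 := by
      intro h0'
      apply hne
      have h5 : addT (k.1 % 81) e81 = l.1 % 81 := by
        rw [he81, ← addT_assoc, (add_neg_facts ⟨k.1 % 81, by omega⟩).2.1,
          (add_neg_facts ⟨l.1 % 81, by omega⟩).2.2.1]
      rw [h0', (add_neg_facts ⟨k.1 % 81, by omega⟩).2.2.2] at h5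
      refine Fin.ext ?_
      dsimp only at h5
      omega
    have hw : diagWord e81 = threeWord e81 := by
      rw [threeWord, show e81 % 81 = e81 by omega, show e81 / 243 = 0 by omega, show e81 / 81 % 3 = 0 by omega]
      simp
    exact word_ne_one m c hb (hw ▸ three_letters ⟨e81, by omega⟩) (three_distinct.1 ⟨e81, hlt⟩ he0) h0
  have hcardQ : Nat.card Q = 729 := by
    show Nat.card ↥(Set.range f) = 729
    rw [Nat.card_range_of_injective hinj, Nat.card_fin]
  have hQp : IsPGroup 3 Q := IsPGroup.iff_card.2 ⟨6, by rw [hcardQ]; norm_num⟩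
  obtain ⟨Syl, hSyl⟩ := hQp.exists_le_sylow
  have hSQ : (Syl : Subgroup _) = Q := by
    refine (Subgroup.eq_of_le_of_card_ge hSyl (le_of_eq ?_)).symm
    have h3 : (Nat.card (Cfsg.PSU 6 GF4 2)).factorization 3 = 6 := by
      rw [card_psu_factor m c hb]
      rw [Nat.factorization_mul (by norm_num) (by norm_num), Nat.factorization_mul (by norm_num) (by norm_num),
        Nat.factorization_mul (by norm_num) (by norm_num), Nat.factorization_mul (by norm_num) (by norm_num)]
      rw [Nat.prime_two.factorization_pow, Nat.prime_three.factorization_pow,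
        (Nat.Prime.factorization (by norm_num : Nat.Prime 5)), (Nat.Prime.factorization (by norm_num : Nat.Prime 7)),
        (Nat.Prime.factorization (by norm_num : Nat.Prime 11))]
      simp
    rw [Syl.card_eq_multiplicity, h3, hcardQ]
    norm_num
  have hzp : IsPGroup 3 (Subgroup.zpowers p) := IsPGroup.iff_card.2 ⟨1, by rw [Nat.card_zpowers, hp, pow_one]⟩
  obtain ⟨Syl', hSyl'⟩ := hzp.exists_le_sylow
  obtain ⟨g, hg⟩ := MulAction.exists_smul_eq (Cfsg.PSU 6 GF4 2) Syl' Syl
  have hin : g * p * g⁻¹ ∈ Q := by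
    rw [← hSQ, ← hg]
    exact ⟨p, hSyl' (Subgroup.mem_zpowers p), rfl⟩
  obtain ⟨k, hk⟩ := hin
  refine le_trans ?_ (show fixCard A ι (g * p * g⁻¹) ≤ 2 ^ 8 from ?_)
  · have := fixCard_conj m c hb (g * p * g⁻¹) g⁻¹
    simpa [mul_assoc] using this
  rw [← hk]
  show fixCard A ι (threeElt k.1) ≤ 2 ^ 8
  obtain ⟨a1, a2⟩ := word_acts m c hb (threeWord k.1) (letters_lt (three_letters k))
  have hcube : threeElt k.1 ^ 3 = 1 := by
    change threeElt k.1 = g * p * g⁻¹ at hk
    rw [hk, conj_pow, show p ^ 3 = 1 by rw [← hp]; exact pow_orderOf_eq_one p, mul_one, mul_inv_cancel]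
  have hne : threeElt k.1 ≠ 1 := by
    change threeElt k.1 = g * p * g⁻¹ at hk
    rw [hk]
    intro h
    have : p = 1 := by simpa using h
    rw [this, orderOf_one] at hp
    norm_num at hp
  rcases three_class k with h | h | ⟨h1, h2, h3⟩
  · exfalso
    apply h
    have h5 := (a1.mul c.toSys a1).mul c.toSys a1
    rw [← map_mul, ← map_mul, show pword (threeWord k.1) * pword (threeWord k.1) * pword (threeWord k.1) =
      threeElt k.1 ^ 3 by rw [threeElt, pow_succ, pow_two]] at h5
    rw [hcube, map_one] at h5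
    exact c.matrix_unique h5 (acts_one c.toSys) (small_mulM (small_mulM a2 a2) a2) small_all
  · exfalso
    apply hne
    rw [threeElt_eq, h]
    simp [pdiag_zero]
  · obtain ⟨r1, r2, r3⟩ := three_cert ⟨_, h1⟩
    set w := (threeEntry k.1).2
    set rep := colL [] threeReps (threeEntry k.1).1
    obtain ⟨w1, w2⟩ := word_acts m c hb w (letters_lt h2)
    obtain ⟨q1, q2⟩ := word_acts m c hb rep (letters_lt r1)
    have e : pword w * pword rep = threeElt k.1 * pword w := by
      refine eq_of_mats m c hb (M := mulM (wordMat w) (wordMat rep)) ?_ ?_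
      · rw [map_mul]; exact w1.mul c.toSys q1
      · rw [map_mul, h3]; exact a1.mul c.toSys w1
    have : threeElt k.1 = pword w * pword rep * (pword w)⁻¹ := by rw [e]; group
    rw [this]
    exact (fixCard_conj m c hb _ _).trans (fixCard_word m c hb r1 r2 r3)

theorem fixCard_big {q : ℕ} (hq : q = 5 ∨ q = 7 ∨ q = 11) {p : Cfsg.PSU 6 GF4 2} (hp : orderOf p = q) :
    fixCard A ι p ≤ 2 ^ 4 := by
  obtain ⟨i, hi⟩ : ∃ i : Fin 3, [5, 7, 11].getD i.1 0 = q := by
    rcases hq with rfl | rfl | rfl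
    exacts [⟨0, rfl⟩, ⟨1, rfl⟩, ⟨2, rfl⟩]
  have hqp : q.Prime := by rcases hq with rfl | rfl | rfl <;> norm_num
  have : Fact q.Prime := ⟨hqp⟩
  obtain ⟨⟨hw, hlen⟩, hcert, hpow, hne, hq'⟩ := prime_cert i
  rw [hi] at hq'
  rw [hq'] at hpow
  set w := (primeEntry i.1).2.1
  obtain ⟨w1, w2⟩ := word_acts m c hb w (letters_lt hw)
  have hpw : ∀ n, Acts b (ι (pword w ^ n)) (powM (wordMat w) n) := fun n => by
    induction n with
    | zero => rw [pow_zero, map_one]; exact acts_one c.toSys
    | succ n ih => rw [pow_succ', map_mul]; exact w1.mul c.toSys ih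
  have h1 : pword w ^ q = 1 := eq_one_of_mat m c hb (hpow ▸ hpw q)
  have hord : orderOf (pword w) = q := orderOf_eq_prime h1 (word_ne_one m c hb hw hne)
  have : Finite (Cfsg.PSU 6 GF4 2) := Nat.finite_of_card_ne_zero (by rw [GF4.card_psu.1]; norm_num)
  have hfac : (Nat.card (Cfsg.PSU 6 GF4 2)).factorization q = 1 := by
    rw [card_psu_factor m c hb]
    rw [Nat.factorization_mul (by norm_num) (by norm_num), Nat.factorization_mul (by norm_num) (by norm_num),
      Nat.factorization_mul (by norm_num) (by norm_num), Nat.factorization_mul (by norm_num) (by norm_num)]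
    rw [Nat.prime_two.factorization_pow, Nat.prime_three.factorization_pow,
      (Nat.Prime.factorization (by norm_num : Nat.Prime 5)), (Nat.Prime.factorization (by norm_num : Nat.Prime 7)),
      (Nat.Prime.factorization (by norm_num : Nat.Prime 11))]
    rcases hq with rfl | rfl | rfl <;> simp
  have hsyl : ∀ x : Cfsg.PSU 6 GF4 2, orderOf x = q → ∃ S : Sylow q (Cfsg.PSU 6 GF4 2),
      (S : Subgroup _) = Subgroup.zpowers x := by
    intro x hx
    have hc : Nat.card (Subgroup.zpowers x) = q ^ (Nat.card (Cfsg.PSU 6 GF4 2)).factorization q := by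
      rw [Nat.card_zpowers, hx, hfac, pow_one]
    exact ⟨Sylow.ofCard _ hc, Sylow.coe_ofCard _ _⟩
  obtain ⟨S, hS⟩ := hsyl p hp
  obtain ⟨T, hT⟩ := hsyl (pword w) hord
  obtain ⟨g, hg⟩ := MulAction.exists_smul_eq (Cfsg.PSU 6 GF4 2) T S
  have hin : g * pword w * g⁻¹ ∈ Subgroup.zpowers p := by
    rw [← hS, ← hg]
    exact ⟨pword w, hT.symm ▸ Subgroup.mem_zpowers _, rfl⟩
  obtain ⟨k, hk⟩ := (isOfFinOrder_of_finite p).mem_powers_iff_mem_zpowers.2 hin
  change p ^ k = _ at hk
  refine (fixCard_pow m c hb p k).trans ?_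
  rw [hk]
  exact (fixCard_conj m c hb _ _).trans (fixCard_word m c hb hw hlen hcert)

end

end Cfsg.Lib.UnitarySixModule
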