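import Mathlib

/-!
# A normal elementary abelian subgroup with a complement in its normalizer

The frame for the statement about `2^20 : U₆(2)`: the projection of the normalizer to the complement and the
fixed points of parts of the complement.
-/

set_option autoImplicit false

namespace Cfsg.Lib.UnitarySixModule

variable {X : Type*} [Group X]

/-- The bounds for the fixed points of an elementary abelian subgroup of given rank, as exponents of two. -/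
def fixBound : ℕ → ℕ
  | 0 => 20
  | 1 => 14
  | 2 => 10
  | 3 => 8
  | 4 => 7
  | 5 => 7
  | 6 => 5
  | 7 => 3
  | 8 => 2
  | _ => 1

/-- A subgroup with an elementary abelian normal subgroup `A`, a complement `K` and a subgroup `K₀` of `K`. -/
structure Ctx (A K K0 : Subgroup X) : Prop where
  card_A : Nat.card A = 2 ^ 20
  comm : ∀ a ∈ A, ∀ b ∈ A, a * b = b * a
  invol : ∀ a ∈ A, a * a = 1
  normal : ∀ k ∈ K, ∀ a ∈ A, k * a * k⁻¹ ∈ A
  disjoint : A ⊓ K = ⊥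
  k0_le : K0 ≤ K
  two : ∀ k ∈ K, ∀ k' ∈ K, k ∉ K0 → k' ∉ K0 → k⁻¹ * k' ∈ K0

/-- What is needed about the action of `K` on `A`. -/
structure Facts (A K K0 : Subgroup X) : Prop extends Ctx A K K0 where
  small : ∀ R : Subgroup X, R ≤ K0 → (∀ a ∈ R, ∀ b ∈ R, a * b = b * a) → (∀ a ∈ R, a * a = 1) →
    ∀ r : ℕ, Nat.card R = 2 ^ r →
      r ≤ 9 ∧ Nat.card ↥(A ⊓ Subgroup.centralizer (R : Set X)) ≤ 2 ^ fixBound r
  three : ∀ k ∈ K0, orderOf k = 3 →
    Nat.card ↥(A ⊓ Subgroup.centralizer ({k} : Set X)) * 2 ^ 10 ≤ 2 ^ 20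
  seven : ∀ k ∈ K0, orderOf k = 7 →
    Nat.card ↥(A ⊓ Subgroup.centralizer ({k} : Set X)) * 2 ^ 4 ≤ 2 ^ 20
  moves : ∀ k ∈ K0, k ≠ 1 →
    Nat.card ↥(A ⊓ Subgroup.centralizer ({k} : Set X)) * 2 ^ 5 ≤ 2 ^ 20
  conj_k0 : ∀ k ∈ K, ∀ e ∈ K0, k * e * k⁻¹ ∈ K0
  rigid : ∀ k ∈ K, (∀ e ∈ K0, orderOf e = 3 → k * e = e * k) → k = 1
  nine : ∃ E : Subgroup X, E ≤ K0 ∧ Nat.card E = 9 ∧ (∀ a ∈ E, ∀ b ∈ E, a * b = b * a) ∧
    ∀ a ∈ E, a ^ 3 = 1
  card_K0 : Nat.card K0 = 9196830720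

namespace Ctx

variable {A K K0 : Subgroup X} (h : Ctx A K K0)
include h

theorem K_le_normalizer : K ≤ Subgroup.normalizer (A : Set X) := fun k hk => by
  rw [Subgroup.mem_normalizer_iff]
  refine fun a => ⟨fun ha => h.normal k hk a ha, fun ha => ?_⟩
  have := h.normal k⁻¹ (inv_mem hk) _ ha
  simpa [mul_assoc] using this

theorem exists_mul {x : X} (hx : x ∈ A ⊔ K) : ∃ a ∈ A, ∃ k ∈ K, a * k = x :=
  Set.mem_mul.1 (by rw [← Subgroup.coe_mul_of_right_le_normalizer_left A K h.K_le_normalizer]; exact hx)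

theorem eq_one_of_mem {x : X} (ha : x ∈ A) (hk : x ∈ K) : x = 1 := by
  have : x ∈ A ⊓ K := ⟨ha, hk⟩
  rw [h.disjoint] at this
  exact Subgroup.mem_bot.1 this

theorem unique {a a' k k' : X} (ha : a ∈ A) (ha' : a' ∈ A) (hk : k ∈ K) (hk' : k' ∈ K)
    (e : a * k = a' * k') : k = k' := by
  have e1 : a'⁻¹ * a = k' * k⁻¹ := by
    calc a'⁻¹ * a = a'⁻¹ * (a * k) * k⁻¹ := by group
      _ = a'⁻¹ * (a' * k') * k⁻¹ := by rw [e]
      _ = k' * k⁻¹ := by group
  have h2 : k' * k⁻¹ = 1 := h.eq_one_of_mem (e1 ▸ mul_mem (inv_mem ha') ha) (mul_mem hk' (inv_mem hk))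
  exact (mul_inv_eq_one.1 h2).symm

omit h in
/-- The component in `K`. -/
noncomputable def comp (_h : Ctx A K K0) (x : X) : X := by
  classical exact if hx : ∃ k, k ∈ K ∧ ∃ a ∈ A, a * k = x then hx.choose else 1

theorem comp_eq {a k : X} (ha : a ∈ A) (hk : k ∈ K) : h.comp (a * k) = k := by
  classical
  have hx : ∃ k', k' ∈ K ∧ ∃ a' ∈ A, a' * k' = a * k := ⟨k, hk, a, ha, rfl⟩
  rw [comp, dif_pos hx]
  obtain ⟨h1, a', ha', e⟩ := hx.choose_spec
  exact h.unique ha' ha h1 hk e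

theorem comp_mem (x : X) : h.comp x ∈ K := by
  classical
  unfold comp
  split_ifs with hx
  · exact hx.choose_spec.1
  · exact one_mem _

/-- The projection of the normalizer onto the complement. -/
noncomputable def proj : ↥(A ⊔ K) →* ↥K where
  toFun x := ⟨h.comp x, h.comp_mem x⟩
  map_one' := Subtype.ext (by
    show h.comp (1 : X) = 1
    calc h.comp (1 : X) = h.comp (1 * 1) := by rw [mul_one]
      _ = 1 := h.comp_eq (one_mem _) (one_mem _))
  map_mul' := by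
    rintro ⟨x, hx⟩ ⟨y, hy⟩
    obtain ⟨a, ha, k, hk, rfl⟩ := h.exists_mul hx
    obtain ⟨b, hb, l, hl, rfl⟩ := h.exists_mul hy
    refine Subtype.ext ?_
    show h.comp (a * k * (b * l)) = h.comp (a * k) * h.comp (b * l)
    rw [h.comp_eq ha hk, h.comp_eq hb hl,
      show a * k * (b * l) = a * (k * b * k⁻¹) * (k * l) by group]
    exact h.comp_eq (mul_mem ha (h.normal k hk b hb)) (mul_mem hk hl)

theorem proj_ker : h.proj.ker = A.subgroupOf (A ⊔ K) := by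
  ext ⟨x, hx⟩
  obtain ⟨a, ha, k, hk, rfl⟩ := h.exists_mul hx
  rw [MonoidHom.mem_ker, Subgroup.mem_subgroupOf, Subtype.ext_iff]
  show h.comp (a * k) = 1 ↔ a * k ∈ A
  rw [h.comp_eq ha hk, Subgroup.mul_mem_cancel_left _ ha]
  exact ⟨fun e => e ▸ one_mem _, fun e => h.eq_one_of_mem e hk⟩

/-- The image in `K` of a subgroup of `A ⊔ K`. -/
noncomputable def img (L : Subgroup X) : Subgroup X :=
  ((L.subgroupOf (A ⊔ K)).map h.proj).map K.subtype

theorem img_le (L : Subgroup X) : h.img L ≤ K := Subgroup.map_subtype_le _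

theorem mem_img {L : Subgroup X} (hL : L ≤ A ⊔ K) {k : X} :
    k ∈ h.img L ↔ k ∈ K ∧ ∃ a ∈ A, a * k ∈ L := by
  constructor
  · rintro ⟨_, ⟨⟨x, hx⟩, hxL, rfl⟩, rfl⟩
    obtain ⟨a, ha, l, hl, rfl⟩ := h.exists_mul hx
    show h.comp (a * l) ∈ K ∧ ∃ a' ∈ A, a' * h.comp (a * l) ∈ L
    rw [h.comp_eq ha hl]
    exact ⟨hl, a, ha, hxL⟩
  · rintro ⟨hk, a, ha, hak⟩
    exact ⟨_, ⟨⟨a * k, hL hak⟩, hak, rfl⟩, h.comp_eq ha hk⟩

theorem card_img [Finite X] {L : Subgroup X} (hL : L ≤ A ⊔ K) :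
    Nat.card L = Nat.card ↥(A ⊓ L) * Nat.card (h.img L) := by
  have h1 := Subgroup.relIndex_ker (K := L.subgroupOf (A ⊔ K)) h.proj
  rw [h.proj_ker, Subgroup.relIndex_subgroupOf hL] at h1
  have h2 : Nat.card (h.img L) = A.relIndex L := by
    rw [h1]
    exact (Nat.card_congr (((L.subgroupOf (A ⊔ K)).map h.proj).equivMapOfInjective K.subtype
      K.subtype_injective).toEquiv).symm
  have h3 := Subgroup.card_mul_index (A.subgroupOf L)
  have h4 : Nat.card (A.subgroupOf L) = Nat.card ↥(A ⊓ L) :=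
    Nat.card_congr ⟨fun x => ⟨x.1.1, ⟨x.2, x.1.2⟩⟩, fun x => ⟨⟨x.1, x.2.2⟩, x.2.1⟩, fun _ => rfl,
      fun _ => rfl⟩
  rw [h4] at h3
  rw [h2]
  exact h3.symm

theorem commute_comp {a k b : X} (ha : a ∈ A) (hb : b ∈ A) :
    a * k * b = b * (a * k) ↔ k * b = b * k := by
  have e : b * (a * k) = a * (b * k) := by rw [← mul_assoc, ← mul_assoc, h.comm b hb a ha]
  rw [e, mul_assoc, mul_right_inj]

theorem inv_eq {a : X} (ha : a ∈ A) : a⁻¹ = a :=
  inv_eq_of_mul_eq_one_right (h.invol a ha)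

end Ctx

theorem card_pow_two [Finite X] {R : Subgroup X} (hi : ∀ a ∈ R, a * a = 1) :
    ∃ r : ℕ, Nat.card R = 2 ^ r := by
  have hp : IsPGroup 2 R := fun x => ⟨1, Subtype.ext (by simpa [pow_two] using hi x x.2)⟩
  exact hp.exists_card_eq

end Cfsg.Lib.UnitarySixModule
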