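import Cfsg.Agent.Lib.UnitarySixModule.Unipotent
import Cfsg.Agent.Lib.UnitarySixModule.Setup

/-!
# Fixed points of elementary abelian subgroups of the unipotent group

The leading parts of an elementary abelian subgroup form one of finitely many commuting configurations, each of
which kills all but a few leading vectors of the module.
-/

set_option autoImplicit false
set_option linter.unusedSectionVars false
set_option maxRecDepth 100000

namespace Cfsg.Lib.UnitarySixModule

/-- The possible sets of nonzero leading codes in a block. -/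
def blockOptions (q : ℕ) : List (List ℕ) :=
  if Nat.beq (blockSize q) 1 then [[], [1]] else [[], [1], [2], [3], [1, 2, 3]]

/-- The rank of a set of leading codes. -/
def optRank : List ℕ → ℕ
  | [] => 0
  | [_] => 1
  | _ => 2

/-- The vectors living in one degree. -/
def atVals (m : ℕ) : List ℕ :=
  match (List.range 20).filter (fun i => Nat.beq (col gradeDeg i) m) with
  | [i] => [0, 2 ^ i]
  | [i, j] => [0, 2 ^ i, 2 ^ j, Nat.xor (2 ^ i) (2 ^ j)]
  | _ => []

/-- Two leading parts commute. -/
def commOk (a b : ℕ × ℕ) : Bool :=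
  mulM (psiMat a.1 a.2) (psiMat b.1 b.2) == mulM (psiMat b.1 b.2) (psiMat a.1 a.2)

/-- The number of the leading vectors of degree `m` killed by a configuration. -/
def killed (acc : List (ℕ × ℕ)) (m : ℕ) : ℕ :=
  ((atVals m).filter fun w => acc.all fun a => Nat.beq (app (psiMat a.1 a.2) w) 0).length

/-- The bound for one configuration. -/
def leafOk (acc : List (ℕ × ℕ)) (n : ℕ) : Bool :=
  Nat.ble n 9 && Nat.ble ((gradeLevels.map (killed acc)).prod) (2 ^ fixBound n)

/-- The search over all configurations. -/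
def search : ℕ → List (ℕ × ℕ) → ℕ → Bool
  | 0, acc, n => leafOk acc n
  | k + 1, acc, n => (blockOptions (8 - k)).all fun o =>
      let new := o.map fun c => (8 - k, c)
      !(new.all fun a => (new ++ acc).all fun b => commOk a b) || search k (new ++ acc) (n + optRank o)

theorem search_ok : search 9 [] 0 = true := by decide +kernel

/-- The configuration given by a choice of an option in each block, blocks from the top. -/
def configOf (o : ℕ → List ℕ) : ℕ → List (ℕ × ℕ) → List (ℕ × ℕ)
  | 0, acc => acc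
  | k + 1, acc => configOf o k ((o (8 - k)).map (fun c => (8 - k, c)) ++ acc)

/-- The rank of a choice. -/
def rankOf (o : ℕ → List ℕ) : ℕ → ℕ → ℕ
  | 0, n => n
  | k + 1, n => rankOf o k (n + optRank (o (8 - k)))

theorem mem_configOf (o : ℕ → List ℕ) : ∀ (k : ℕ) (acc : List (ℕ × ℕ)) (a : ℕ × ℕ), k ≤ 9 →
    (a ∈ configOf o k acc ↔ a ∈ acc ∨ (9 - k ≤ a.1 ∧ a.1 < 9 ∧ a.2 ∈ o a.1)) := by
  intro k
  induction k with
  | zero =>
    intro acc a _
    exact ⟨Or.inl, fun h => h.elim id fun h => absurd h.1 (by omega)⟩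
  | succ k ih =>
    intro acc a hk
    rw [configOf, ih _ _ (by omega), List.mem_append, List.mem_map]
    constructor
    · rintro ((⟨c, hc, rfl⟩ | h) | ⟨h1, h2, h3⟩)
      · exact Or.inr ⟨by show 9 - (k + 1) ≤ 8 - k; omega, by show 8 - k < 9; omega, hc⟩
      · exact Or.inl h
      · exact Or.inr ⟨by omega, h2, h3⟩
    · rintro (h | ⟨h1, h2, h3⟩)
      · exact Or.inl (Or.inr h)
      · rcases eq_or_ne a.1 (8 - k) with e | e
        · exact Or.inl (Or.inl ⟨a.2, e ▸ h3, by rw [← e]⟩)
        · exact Or.inr ⟨by omega, h2, h3⟩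

theorem search_sound (o : ℕ → List ℕ) : ∀ (k : ℕ) (acc : List (ℕ × ℕ)) (n : ℕ), k ≤ 9 →
    search k acc n = true → (∀ q, q < 9 → o q ∈ blockOptions q) →
    (∀ a ∈ configOf o k acc, ∀ b ∈ configOf o k acc, commOk a b = true) →
    leafOk (configOf o k acc) (rankOf o k n) = true := by
  intro k
  induction k with
  | zero => intro acc n _ h _ _; exact h
  | succ k ih =>
    intro acc n hk h ho hcomm
    rw [search, List.all_eq_true] at h
    have h1 := h (o (8 - k)) (ho _ (by omega))
    simp only [Bool.or_eq_true] at h1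
    rw [configOf, rankOf]
    refine ih _ _ (by omega) (h1.resolve_left ?_) ho hcomm
    rw [Bool.not_eq_true', Bool.not_eq_false, List.all_eq_true]
    intro a ha
    rw [List.all_eq_true]
    intro b hb
    have hsub : ∀ c, c ∈ (o (8 - k)).map (fun c => (8 - k, c)) ++ acc → c ∈ configOf o (k + 1) acc := fun c hc => by
      rw [configOf, mem_configOf o k _ c (by omega)]
      exact Or.inl hc
    exact hcomm a (hsub a (List.mem_append_left _ ha)) b (hsub b hb)

theorem rank_bound : ∀ n : Fin 10, ∀ m : Fin 10, n.1 ≤ m.1 → fixBound m.1 ≤ fixBound n.1 := by decide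

theorem level_facts : gradeLevels.length = 14 ∧ (∀ i : Fin 14,
    geMask (col gradeLevels i.1) = Nat.xor (atMask (col gradeLevels i.1))
      (if i.1 = 13 then 0 else geMask (col gradeLevels (i.1 + 1))) ∧
    atVals (col gradeLevels i.1) ≠ []) ∧ geMask (col gradeLevels 0) = 2 ^ 20 - 1 := by decide +kernel

theorem psi_col : ∀ q : Fin 9, ∀ c : Fin 4, ∀ i : Fin 20,
    app (psiMat q.1 c.1) (2 ^ i.1) = col (psiMat q.1 c.1) i.1 := by decide +kernel

theorem land_two_pow_cases (v i : ℕ) : Nat.land v (2 ^ i) = 0 ∨ Nat.land v (2 ^ i) = 2 ^ i := by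
  rcases h : v.testBit i
  · refine Or.inl (Nat.eq_of_testBit_eq fun j => ?_)
    show (v &&& 2 ^ i).testBit j = _
    rw [Nat.testBit_and, Nat.testBit_two_pow]
    rcases eq_or_ne i j with rfl | hne <;> simp [*]
  · refine Or.inr (Nat.eq_of_testBit_eq fun j => ?_)
    show (v &&& 2 ^ i).testBit j = _
    rw [Nat.testBit_and, Nat.testBit_two_pow]
    rcases eq_or_ne i j with rfl | hne <;> simp [*]

theorem xor_cancel (a b c : ℕ) (h : Nat.xor a c = Nat.xor b c) : a = b := by
  have h' := congrArg (fun z => z ^^^ c) (h : a ^^^ c = b ^^^ c)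
  simpa [Nat.xor_assoc] using h'

theorem land_xor_left (v a b : ℕ) : Nat.land v (Nat.xor a b) = Nat.xor (Nat.land v a) (Nat.land v b) := by
  show v &&& (a ^^^ b) = (v &&& a) ^^^ (v &&& b)
  exact Nat.eq_of_testBit_eq fun i => by
    simp only [Nat.testBit_and, Nat.testBit_xor]
    cases v.testBit i <;> cases a.testBit i <;> cases b.testBit i <;> rfl

theorem atMask_bits : ∀ i : Fin 14,
    let m := col gradeLevels i.1
    let l := (List.range 20).filter (fun j => Nat.beq (col gradeDeg j) m)
    (l.length = 1 ∧ atMask m = 2 ^ col l 0) ∨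
      (l.length = 2 ∧ atMask m = Nat.xor (2 ^ col l 0) (2 ^ col l 1)) := by decide +kernel

theorem mem_atVals (i : Fin 14) (v : ℕ) :
    Nat.land v (atMask (col gradeLevels i.1)) ∈ atVals (col gradeLevels i.1) := by
  have h := atMask_bits i
  dsimp only at h
  rw [atVals]
  rcases h with ⟨h1, h2⟩ | ⟨h1, h2⟩
  · obtain ⟨a, ha⟩ := List.length_eq_one_iff.1 h1
    rw [ha] at h2 ⊢
    simp only [h2, col]
    rcases land_two_pow_cases v a with e | e <;> rw [e] <;> simp
  · obtain ⟨a, c, ha⟩ := List.length_eq_two.1 h1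
    rw [ha] at h2 ⊢
    simp only [h2, col]
    rw [land_xor_left]
    rcases land_two_pow_cases v a with e | e <;> rcases land_two_pow_cases v c with e' | e' <;> rw [e, e']
    · exact List.mem_cons_self ..
    · rw [show Nat.xor 0 (2 ^ c) = 2 ^ c from Nat.zero_xor _]; simp
    · rw [show Nat.xor (2 ^ a) 0 = 2 ^ a from Nat.xor_zero _]; simp
    · simp

section

variable {X : Type*} [Group X] [Finite X] {A : Subgroup X} {b : ℕ → X} {g : ℕ → X} (r : Roots A b g)
include r

theorem comm_lead {q q' c d : ℕ} (hq : q < 9) (hq' : q' < 9) (hc : c < 4) (hd : d < 4) {x y : X}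
    (hx : HasLead b q c x) (hy : HasLead b q' d y) (hxy : x * y = y * x) : commOk (q, c) (q', d) = true := by
  obtain ⟨M, hM, hMs, hMg⟩ := hx
  obtain ⟨N, hN, hNs, hNg⟩ := hy
  have hlen : ∀ q c, (psiMat q c).length = 20 := fun q c => by simp [psiMat]
  have hs : ∀ M N : List ℕ, Small M = true → Small N = true → Small (mulM M N) = true := by
    intro M N hM hN
    rw [Small, Bool.and_eq_true, List.all_eq_true] at hN ⊢
    refine ⟨by rw [mulM, List.length_map]; exact hN.1, fun y hy => ?_⟩
    rw [mulM, List.mem_map] at hy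
    obtain ⟨z, -, rfl⟩ := hy
    exact Nat.ble_eq_true_of_le (Small.app_lt hM z)
  have heq : mulM M N = mulM N M :=
    r.matrix_unique (hM.mul r.toSys hN) (hxy.symm ▸ hN.mul r.toSys hM) (hs M N hMs hNs) (hs N M hNs hMs)
  show (mulM (psiMat q c) (psiMat q' d) == mulM (psiMat q' d) (psiMat q c)) = true
  rw [beq_iff_eq]
  refine List.ext_getElem (by simp [mulM, hlen]) fun i h1 h2 => ?_
  have hi : i < 20 := by simpa [mulM, hlen] using h1
  simp only [mulM, List.getElem_map]
  have e1 : (psiMat q' d)[i]'(by rw [hlen]; exact hi) = app (psiMat q' d) (2 ^ i) := by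
    rw [show app (psiMat q' d) (2 ^ i) = col (psiMat q' d) i from psi_col ⟨q', hq'⟩ ⟨d, hd⟩ ⟨i, hi⟩, col_eq,
      List.getD_eq_getElem _ _ (by rw [hlen]; exact hi)]
  have e2 : (psiMat q c)[i]'(by rw [hlen]; exact hi) = app (psiMat q c) (2 ^ i) := by
    rw [show app (psiMat q c) (2 ^ i) = col (psiMat q c) i from psi_col ⟨q, hq⟩ ⟨c, hc⟩ ⟨i, hi⟩, col_eq,
      List.getD_eq_getElem _ _ (by rw [hlen]; exact hi)]
  rw [e1, e2]
  set m := col gradeDeg i
  have hat : Nat.land (2 ^ i) (atMask m) = 2 ^ i ∧ Above m (2 ^ i) := by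
    have : ∀ i : Fin 20, Nat.land (2 ^ i.1) (atMask (col gradeDeg i.1)) = 2 ^ i.1 ∧
        Nat.land (2 ^ i.1) (geMask (col gradeDeg i.1)) = 2 ^ i.1 := by decide +kernel
    exact ⟨(this ⟨i, hi⟩).1, Nat.pow_lt_pow_right (by norm_num) hi, (this ⟨i, hi⟩).2⟩
  obtain ⟨a1, a2⟩ := hMg m _ hat.2
  obtain ⟨b1, b2⟩ := hNg m _ hat.2
  rw [hat.1] at a2 b2
  obtain ⟨-, c2⟩ := hMg _ _ b1
  obtain ⟨-, d2⟩ := hNg _ _ a1
  rw [b2] at c2
  rw [a2] at d2
  rw [← c2, ← d2, show m + blockDeg q + blockDeg q' = m + blockDeg q' + blockDeg q by omega]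
  congr 1
  have key : ∀ P Q : List ℕ, Q.length ≤ 20 → ∀ v, delta P (delta Q v) =
      Nat.xor (Nat.xor (app (mulM P Q) v) v) (Nat.xor (app P v) (app Q v)) := by
    intro P Q hQ v
    rw [app_mulM hQ, delta, delta, app_xor]
    generalize app P (app Q v) = p
    generalize app P v = u
    generalize app Q v = w
    show p ^^^ u ^^^ (w ^^^ v) = p ^^^ v ^^^ (u ^^^ w)
    simp [Nat.xor_comm, Nat.xor_left_comm]
  rw [key M N hN.1.le, key N M hM.1.le, heq]
  congr 1
  exact Nat.xor_comm _ _

theorem elementary_bound {R : Subgroup X} (hR : R ≤ tail g 0) (hRc : ∀ x ∈ R, ∀ y ∈ R, x * y = y * x)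
    {n : ℕ} (hn : Nat.card R = 2 ^ n) :
    n ≤ 9 ∧ Nat.card ↥(A ⊓ Subgroup.centralizer (R : Set X)) ≤ 2 ^ fixBound n := by
  classical
  let P : ℕ → ℕ → Prop := fun q c => ∃ x ∈ R ⊓ tail g (blockStart q), HasLead b q c x
  have hP0 : ∀ q, q < 9 → P q 0 := fun q hq =>
    ⟨1, one_mem _, oneM, acts_one r.toSys, by decide +kernel, good_one⟩
  have hk4 : ∀ q, q < 9 → 2 ^ blockSize q ≤ 4 := fun q hq =>
    Nat.pow_le_pow_right (by norm_num) (block_facts ⟨q, hq⟩).2.2.1
  have hPx : ∀ q, q < 9 → ∀ c d, c < 4 → d < 4 → P q c → P q d → P q (Nat.xor c d) := by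
    rintro q hq c d hc hd ⟨x, hx, hxl⟩ ⟨y, hy, hyl⟩
    exact ⟨x * y, mul_mem hx hy, lead_mul r hq hc hd hxl hyl⟩
  let o : ℕ → List ℕ := fun q =>
    if Nat.beq (blockSize q) 1 then (if P q 1 then [1] else [])
    else if P q 1 then (if P q 2 then [1, 2, 3] else [1]) else if P q 2 then [2] else if P q 3 then [3] else []
  have ho : ∀ q, q < 9 → o q ∈ blockOptions q := by
    intro q _
    simp only [o, blockOptions]
    split_ifs <;> simp
  have hoP : ∀ q, q < 9 → ∀ c, c ∈ o q → P q c ∧ c < 2 ^ blockSize q := by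
    intro q hq c hc
    have hk1 := (block_facts ⟨q, hq⟩).2.1
    have hk2 := (block_facts ⟨q, hq⟩).2.2.1
    dsimp only at hk1 hk2
    rcases Nat.eq_or_lt_of_le hk1 with hone | htwo
    · simp only [o, ← hone, show Nat.beq 1 1 = true from rfl, if_true] at hc
      rw [← hone]
      split_ifs at hc with h1
      · rw [List.mem_singleton] at hc; subst hc; exact ⟨h1, by norm_num⟩
      · simp at hc
    · have hs : blockSize q = 2 := by omega
      simp only [o, hs, show Nat.beq 2 1 = false from rfl, Bool.false_eq_true, if_false] at hc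
      rw [hs]
      split_ifs at hc with h1 h2 h2 h3
      · rcases (by simpa using hc : c = 1 ∨ c = 2 ∨ c = 3) with rfl | rfl | rfl
        · exact ⟨h1, by norm_num⟩
        · exact ⟨h2, by norm_num⟩
        · exact ⟨hPx q hq 1 2 (by norm_num) (by norm_num) h1 h2, by norm_num⟩
      · rw [List.mem_singleton] at hc; subst hc; exact ⟨h1, by norm_num⟩
      · rw [List.mem_singleton] at hc; subst hc; exact ⟨h2, by norm_num⟩
      · rw [List.mem_singleton] at hc; subst hc; exact ⟨h3, by norm_num⟩
      · simp at hc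
  have hcount : ∀ q, q < 9 → ∀ c, c < 2 ^ blockSize q → P q c → c = 0 ∨ c ∈ o q := by
    intro q hq c hc hPc
    have hk1 := (block_facts ⟨q, hq⟩).2.1
    have hk2 := (block_facts ⟨q, hq⟩).2.2.1
    dsimp only at hk1 hk2
    rcases Nat.eq_or_lt_of_le hk1 with hone | htwo
    · rw [← hone] at hc
      simp only [o, ← hone, show Nat.beq 1 1 = true from rfl, if_true]
      interval_cases c
      · exact Or.inl rfl
      · exact Or.inr (by simp [hPc])
    · have hs : blockSize q = 2 := by omega
      rw [hs] at hc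
      simp only [o, hs, show Nat.beq 2 1 = false from rfl, Bool.false_eq_true, if_false]
      interval_cases c
      · exact Or.inl rfl
      · exact Or.inr (by simp only [if_pos hPc]; split_ifs <;> simp)
      · exact Or.inr (by simp only [if_pos hPc]; split_ifs <;> simp)
      · refine Or.inr ?_
        split_ifs with h1 h2 h2
        · simp
        · exact absurd (by simpa using hPx q hq 1 3 (by norm_num) (by norm_num) h1 hPc) h2
        · exact absurd (by simpa using hPx q hq 2 3 (by norm_num) (by norm_num) h2 hPc) h1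
        · simp
  -- the order of `R`
  have hstep : ∀ q, q < 9 → Nat.card ↥(R ⊓ tail g (blockStart q)) ≤
      2 ^ optRank (o q) * Nat.card ↥(R ⊓ tail g (blockStart (q + 1))) := by
    intro q hq
    let codes : Finset ℕ := insert 0 (o q).toFinset
    have hcodes : codes.card ≤ 2 ^ optRank (o q) := by
      refine (Finset.card_insert_le _ _).trans ?_
      have h := ho q hq
      rw [blockOptions] at h
      split_ifs at h <;> simp only [List.mem_cons, List.not_mem_nil, or_false] at h
      · rcases h with e | e <;> rw [e] <;> simp [optRank]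
      · rcases h with e | e | e | e | e <;> rw [e] <;> simp [optRank]
    have hx : ∀ x : ↥(R ⊓ tail g (blockStart q)), ∃ c, c < 2 ^ blockSize q ∧ HasLead b q c (x : X) ∧ c ∈ codes := by
      intro x
      obtain ⟨c, hc, hl, -⟩ := exists_lead r hq x.2.2
      refine ⟨c, hc, hl, ?_⟩
      rcases hcount q hq c hc ⟨x, x.2, hl⟩ with h | h
      · simp [codes, h]
      · simp [codes, h]
    choose code hcode1 hcode2 hcode3 using hx
    have hrep : ∀ c : codes, ∃ y ∈ R ⊓ tail g (blockStart q), HasLead b q c.1 y ∧ c.1 < 2 ^ blockSize q := by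
      rintro ⟨c, hc⟩
      rcases Finset.mem_insert.1 hc with rfl | h
      · obtain ⟨y, hy, hy'⟩ := hP0 q hq
        exact ⟨y, hy, hy', by positivity⟩
      · obtain ⟨⟨y, hy, hy'⟩, hlt⟩ := hoP q hq c (List.mem_toFinset.1 h)
        exact ⟨y, hy, hy', hlt⟩
    choose rep hrep1 hrep2 hrep3 using hrep
    have hlow : ∀ x : ↥(R ⊓ tail g (blockStart q)),
        rep ⟨code x, hcode3 x⟩ * (x : X) ∈ R ⊓ tail g (blockStart (q + 1)) := by
      intro x
      refine ⟨mul_mem (hrep1 _).1 x.2.1, ?_⟩
      obtain ⟨c, hc, hl, hzero⟩ := exists_lead r hq (mul_mem (hrep1 ⟨code x, hcode3 x⟩).2 x.2.2)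
      have h4 := hk4 q hq
      have h2 := lead_mul r hq (c := code x) (d := code x) (by have := hcode1 x; omega) (by have := hcode1 x; omega)
        (hrep2 ⟨code x, hcode3 x⟩) (hcode2 x)
      rw [show Nat.xor (code x) (code x) = 0 from Nat.xor_self _] at h2
      exact hzero (lead_unique r hq hc (by positivity) hl h2)
    let F : ↥(R ⊓ tail g (blockStart q)) → codes × ↥(R ⊓ tail g (blockStart (q + 1))) :=
      fun x => (⟨code x, hcode3 x⟩, ⟨_, hlow x⟩)
    have hF : Function.Injective F := by
      intro x y h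
      obtain ⟨h1, h2⟩ := Prod.mk.inj h
      have h3 : rep ⟨code x, hcode3 x⟩ * (x : X) = rep ⟨code y, hcode3 y⟩ * (y : X) := congrArg Subtype.val h2
      rw [h1] at h3
      exact Subtype.ext (mul_left_cancel h3)
    refine (Nat.card_le_card_of_injective F hF).trans ?_
    rw [Nat.card_prod, Nat.card_eq_finsetCard]
    exact Nat.mul_le_mul hcodes le_rfl
  have hR2 : ∀ k, k ≤ 9 → ∀ m, 2 ^ m * Nat.card ↥(R ⊓ tail g (blockStart (9 - k))) ≤
      2 ^ rankOf o k m := by
    intro k
    induction k with
    | zero =>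
      intro _ m
      rw [Nat.sub_zero, show blockStart 9 = 15 from rfl, tail_top, inf_bot_eq, Subgroup.card_bot, mul_one, rankOf]
    | succ k ih =>
      intro hk m
      rw [show 9 - (k + 1) = 8 - k by omega, rankOf]
      have h1 := hstep (8 - k) (by omega)
      rw [show 8 - k + 1 = 9 - k by omega] at h1
      calc 2 ^ m * Nat.card ↥(R ⊓ tail g (blockStart (8 - k)))
          ≤ 2 ^ m * (2 ^ optRank (o (8 - k)) * Nat.card ↥(R ⊓ tail g (blockStart (9 - k)))) :=
            Nat.mul_le_mul le_rfl h1
        _ = 2 ^ (m + optRank (o (8 - k))) * Nat.card ↥(R ⊓ tail g (blockStart (9 - k))) := by rw [pow_add, mul_assoc]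
        _ ≤ _ := ih (by omega) _
  have hnle : n ≤ rankOf o 9 0 := by
    have h := hR2 9 le_rfl 0
    rw [pow_zero, one_mul, show blockStart (9 - 9) = 0 from rfl, inf_eq_left.2 hR, hn] at h
    exact (Nat.pow_le_pow_iff_right (by norm_num)).1 h
  -- the configuration
  set cfg := configOf o 9 [] with hcfg
  have hmem : ∀ a ∈ cfg, a.1 < 9 ∧ P a.1 a.2 ∧ a.2 < 4 := by
    intro a ha
    rw [hcfg, mem_configOf o 9 [] a le_rfl] at ha
    obtain ⟨-, h2, h3⟩ := ha.resolve_left List.not_mem_nil
    obtain ⟨hP, hlt⟩ := hoP a.1 h2 a.2 h3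
    exact ⟨h2, hP, lt_of_lt_of_le hlt (hk4 a.1 h2)⟩
  have hleaf := search_sound o 9 [] 0 le_rfl search_ok ho (fun a ha a' ha' => by
    obtain ⟨q1, ⟨x, hx, hxl⟩, hc1⟩ := hmem a ha
    obtain ⟨q2, ⟨y, hy, hyl⟩, hc2⟩ := hmem a' ha'
    exact comm_lead r q1 q2 hc1 hc2 hxl hyl (hRc x hx.1 y hy.1))
  rw [leafOk, Bool.and_eq_true] at hleaf
  have h9 : rankOf o 9 0 ≤ 9 := Nat.le_of_ble_eq_true hleaf.1
  refine ⟨hnle.trans h9, ?_⟩
  set D := A ⊓ Subgroup.centralizer (R : Set X) with hD
  let T : ℕ → Type := fun i => {v : Fin (2 ^ 20) // eval b v.1 ∈ D ∧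
    Nat.land v.1 (if i = 14 then 0 else geMask (col gradeLevels i)) = v.1}
  have hv2 : ∀ i, i < 14 → ∀ v : T i, Nat.land v.1.1 (geMask (col gradeLevels i)) = v.1.1 := by
    intro i hi v
    have h : Nat.land v.1.1 (if i = 14 then 0 else geMask (col gradeLevels i)) = v.1.1 := v.2.2
    revert h
    generalize v.1.1 = u
    intro h
    rwa [if_neg (by omega : ¬ i = 14)] at h
  have hfixlead : ∀ i, i < 14 → ∀ v : T i,
      Nat.land v.1.1 (atMask (col gradeLevels i)) ∈
        (atVals (col gradeLevels i)).filter (fun w => cfg.all fun a => Nat.beq (app (psiMat a.1 a.2) w) 0) := by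
    intro i hi v
    rw [List.mem_filter]
    refine ⟨mem_atVals ⟨i, hi⟩ _, ?_⟩
    rw [List.all_eq_true]
    intro a ha
    obtain ⟨hq, ⟨x, hx, M, hM, hMs, hMg⟩, -⟩ := hmem a ha
    have habove : Above (col gradeLevels i) v.1.1 := ⟨v.1.2, hv2 i hi v⟩
    have hfix : app M v.1.1 = v.1.1 := r.fix_of_commute hM hMs v.1.2 (by
      rw [Subgroup.mem_centralizer_iff.1 v.2.1.2 x hx.1, mul_inv_cancel_right])
    have hz : delta M v.1.1 = 0 := by rw [delta, hfix]; exact Nat.xor_self _
    have h := (hMg _ _ habove).2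
    rw [hz, zero_land'] at h
    rw [← h]
    rfl
  have hlevel : ∀ i, i < 14 → Nat.card (T i) ≤ killed cfg (col gradeLevels i) * Nat.card (T (i + 1)) := by
    intro i hi
    let W : List ℕ := (atVals (col gradeLevels i)).filter (fun w => cfg.all fun a => Nat.beq (app (psiMat a.1 a.2) w) 0)
    let Ws : Finset ℕ := W.toFinset
    have hW : Ws.card ≤ killed cfg (col gradeLevels i) := List.toFinset_card_le W
    have hrep : ∀ w : Ws, (∃ v : T i, Nat.land v.1.1 (atMask (col gradeLevels i)) = w.1) → T i :=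
      fun w h => h.choose
    let pick : T i → T i := fun v =>
      (⟨v, rfl⟩ : ∃ u : T i, Nat.land u.1.1 (atMask (col gradeLevels i)) =
        Nat.land v.1.1 (atMask (col gradeLevels i))).choose
    have hpick : ∀ v : T i, Nat.land (pick v).1.1 (atMask (col gradeLevels i)) =
        Nat.land v.1.1 (atMask (col gradeLevels i)) := fun v =>
      (⟨v, rfl⟩ : ∃ u : T i, Nat.land u.1.1 (atMask (col gradeLevels i)) =
        Nat.land v.1.1 (atMask (col gradeLevels i))).choose_spec
    have hpickeq : ∀ v v' : T i, Nat.land v.1.1 (atMask (col gradeLevels i)) =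
        Nat.land v'.1.1 (atMask (col gradeLevels i)) → pick v = pick v' := by
      intro v v' h
      simp only [pick, h]
    have hnext : ∀ v : T i,
        eval b (Nat.xor v.1.1 (pick v).1.1) ∈ D ∧
        Nat.land (Nat.xor v.1.1 (pick v).1.1) (if i + 1 = 14 then 0 else geMask (col gradeLevels (i + 1))) =
          Nat.xor v.1.1 (pick v).1.1 := by
      intro v
      refine ⟨?_, ?_⟩
      · rw [eval_xor r.toSys]
        exact mul_mem v.2.1 (pick v).2.1
      · have h1 := hv2 i hi v
        have h2 := hv2 i hi (pick v)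
        have hmask : geMask (col gradeLevels i) = Nat.xor (atMask (col gradeLevels i))
            (if i = 13 then 0 else geMask (col gradeLevels (i + 1))) := (level_facts.2.1 ⟨i, hi⟩).1
        have e : (if i + 1 = 14 then 0 else geMask (col gradeLevels (i + 1))) =
            (if i = 13 then 0 else geMask (col gradeLevels (i + 1))) := by
          by_cases h : i = 13
          · rw [if_pos h, if_pos (by omega)]
          · rw [if_neg h, if_neg (by omega)]
        rw [e, land_xor]
        have h3 : ∀ u, Nat.land u (geMask (col gradeLevels i)) = u →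
            Nat.land u (if i = 13 then 0 else geMask (col gradeLevels (i + 1))) =
              Nat.xor u (Nat.land u (atMask (col gradeLevels i))) := by
          intro u hu
          conv_rhs => arg 1; rw [← hu, hmask, land_xor_left]
          generalize Nat.land u (atMask (col gradeLevels i)) = p
          generalize Nat.land u (if i = 13 then 0 else geMask (col gradeLevels (i + 1))) = t
          show t = p ^^^ t ^^^ p
          rw [Nat.xor_comm p t, Nat.xor_assoc, Nat.xor_self, Nat.xor_zero]
        rw [h3 _ h1, h3 _ h2, hpick v, xor_four,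
          show Nat.xor (Nat.land v.1.1 (atMask (col gradeLevels i))) (Nat.land v.1.1 (atMask (col gradeLevels i))) = 0
            from Nat.xor_self _]
        exact Nat.xor_zero _
    let G : T i → Ws × T (i + 1) := fun v =>
      (⟨_, List.mem_toFinset.2 (hfixlead i hi v)⟩,
        ⟨⟨Nat.xor v.1.1 (pick v).1.1, Nat.xor_lt_two_pow v.1.2 (pick v).1.2⟩, hnext v⟩)
    have hG : Function.Injective G := by
      intro v v' h
      obtain ⟨h1, h2⟩ := Prod.mk.inj h
      have e1 := hpickeq v v' (congrArg Subtype.val h1)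
      have e2 : Nat.xor v.1.1 (pick v).1.1 = Nat.xor v'.1.1 (pick v').1.1 :=
        congrArg (fun u : T (i + 1) => u.1.1) h2
      rw [e1] at e2
      exact Subtype.ext (Fin.ext (xor_cancel _ _ _ e2))
    have : Finite (T (i + 1)) := Subtype.finite
    refine (Nat.card_le_card_of_injective G hG).trans ?_
    rw [Nat.card_prod, Nat.card_eq_finsetCard]
    exact Nat.mul_le_mul hW le_rfl
  have hTtop : Nat.card (T 14) ≤ 1 := by
    have hsub : ∀ v v' : T 14, v = v' := by
      intro v v'
      have h0 : ∀ v : T 14, v.1.1 = 0 := fun v => by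
        have h : Nat.land v.1.1 (if 14 = 14 then 0 else geMask (col gradeLevels 14)) = v.1.1 := v.2.2
        revert h
        generalize v.1.1 = u
        intro h
        rw [if_pos rfl, land_zero'] at h
        exact h.symm
      exact Subtype.ext (Fin.ext ((h0 v).trans (h0 v').symm))
    have : Subsingleton (T 14) := ⟨hsub⟩
    exact Finite.card_le_one_iff_subsingleton.2 this
  have hprod : ∀ j, j ≤ 14 → Nat.card (T (14 - j)) ≤
      ((gradeLevels.drop (14 - j)).map (killed cfg)).prod := by
    intro j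
    induction j with
    | zero =>
      intro _
      rw [Nat.sub_zero, List.drop_of_length_le (by rw [level_facts.1]), List.map_nil, List.prod_nil]
      exact hTtop
    | succ j ih =>
      intro hj
      have h1 := hlevel (14 - (j + 1)) (by omega)
      rw [show 14 - (j + 1) + 1 = 14 - j by omega] at h1
      have hl : 14 - (j + 1) < gradeLevels.length := by rw [level_facts.1]; omega
      rw [List.drop_eq_getElem_cons hl, List.map_cons, List.prod_cons, show 14 - (j + 1) + 1 = 14 - j by omega,
        ← List.getD_eq_getElem gradeLevels 0 hl, ← col_eq]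
      exact h1.trans (Nat.mul_le_mul le_rfl (ih (by omega)))
  have hDT : Nat.card D ≤ Nat.card (T 0) := by
    have hf : ∀ d : ↥D, ∃ v : T 0, eval b v.1.1 = (d : X) := by
      intro d
      obtain ⟨v, hv, he⟩ := r.spans d d.2.1
      refine ⟨⟨⟨v, hv⟩, by rw [he]; exact d.2, ?_⟩, he⟩
      rw [if_neg (by norm_num), level_facts.2.2]
      show v &&& (2 ^ 20 - 1) = v
      rw [Nat.and_two_pow_sub_one_eq_mod, Nat.mod_eq_of_lt hv]
    choose f hf' using hf
    have : Finite (T 0) := Subtype.finite
    exact Nat.card_le_card_of_injective f fun d d' h => Subtype.ext (by rw [← hf' d, ← hf' d', h])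
  have hfin := hDT.trans (by simpa using hprod 14 le_rfl)
  refine hfin.trans ((Nat.le_of_ble_eq_true hleaf.2).trans (Nat.pow_le_pow_right (by norm_num) ?_))
  exact rank_bound ⟨n, by omega⟩ ⟨rankOf o 9 0, by omega⟩ hnle

end

end Cfsg.Lib.UnitarySixModule
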