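import Cfsg.Agent.Lib.UnitarySixModule.Induction
import Cfsg.Agent.Lib.UnitarySixModule.Table
import Cfsg.Agent.Lib.UnitarySixModule.Odd
import Cfsg.Agent.Lib.Linear.PSUSimple
import Cfsg.Agent.Lib.MinusSix.Main

/-!
# The module of `2^20 : U₆(2)` from a minimal normal subgroup

A faithful module of order `2 ^ 20` for `U₆(2)` satisfies the assumptions of the fusion argument.
-/

set_option autoImplicit false
set_option linter.unusedSectionVars false
set_option maxRecDepth 100000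

namespace Cfsg.Lib.UnitarySixModule

open Cfsg.Lib.CosetEnum

theorem nine_facts : ∀ i j : Fin 9, addT i.1 j.1 < 9 ∧ negT i.1 < 9 ∧ addT i.1 j.1 = addT j.1 i.1 ∧
    addT i.1 (negT i.1) = 0 ∧ addT i.1 (addT i.1 i.1) = 0 ∧ (addT (negT i.1) j.1 = 0 → i.1 = j.1) := by
  decide +kernel

theorem psu_isSimple : IsSimpleGroup (Cfsg.PSU 6 GF4 2) :=
  Cfsg.Lib.Linear.Herm.psu_simple (q := 2) GF4.card_eq (by norm_num)

section

variable {X : Type*} [Group X] [Finite X] {A K : Subgroup X} {ι : Cfsg.PSU 6 GF4 2 →* X}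

theorem psu_finite : Finite (Cfsg.PSU 6 GF4 2) :=
  Nat.finite_of_card_ne_zero (by rw [GF4.card_psu.1]; norm_num)

theorem Model.injective (m : Model A ι) : Function.Injective ι := by
  refine (injective_iff_map_eq_one ι).2 fun p hp => m.faithful p fun a _ => ?_
  rw [hp, one_mul, inv_one, mul_one]

variable (m : Model A ι)
include m

theorem exists_nine : ∃ E : Subgroup X, E ≤ ι.range ∧ Nat.card E = 9 ∧
    (∀ a ∈ E, ∀ b ∈ E, a * b = b * a) ∧ ∀ a ∈ E, a ^ 3 = 1 := by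
  obtain ⟨b, c, hb⟩ := exists_frame m
  let E : Subgroup (Cfsg.PSU 6 GF4 2) :=
    { carrier := Set.range fun n : Fin 9 => pdiag n.1
      one_mem' := ⟨0, pdiag_zero⟩
      mul_mem' := by
        rintro _ _ ⟨i, rfl⟩ ⟨j, rfl⟩
        exact ⟨⟨_, (nine_facts i j).1⟩, pdiag_add _ _⟩
      inv_mem' := by
        rintro _ ⟨i, rfl⟩
        refine ⟨⟨_, (nine_facts i i).2.1⟩, ?_⟩
        refine eq_inv_of_mul_eq_one_right ?_
        rw [← pdiag_add, (nine_facts i i).2.2.2.1, pdiag_zero] }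
  refine ⟨E.map ι, Subgroup.map_le_range _ _, ?_, ?_, ?_⟩
  · rw [← Nat.card_congr (E.equivMapOfInjective ι m.injective).toEquiv]
    show Nat.card ↥(Set.range fun n : Fin 9 => pdiag n.1) = 9
    rw [Nat.card_range_of_injective (fun i j h => ?_), Nat.card_fin]
    refine Fin.ext ((nine_facts i j).2.2.2.2.2 ?_)
    have hlt : addT (negT i.1) j.1 < 9 := (nine_facts ⟨_, (nine_facts i j).2.1⟩ j).1
    by_contra hne
    have h1 : pdiag (addT (negT i.1) j.1) = 1 := by
      rw [pdiag_add, ← show pdiag i.1 = pdiag j.1 from h, ← pdiag_add,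
        (nine_facts ⟨_, (nine_facts i j).2.1⟩ i).2.2.1, (nine_facts i i).2.2.2.1, pdiag_zero]
    refine word_ne_one m c hb ?_ (three_distinct.1 ⟨_, by omega⟩ hne) h1
    have hall : ∀ n : Fin 9, (diagWord n.1).all (fun g => Nat.ble g 10) = true := by decide +kernel
    exact hall ⟨_, hlt⟩
  · rintro _ ⟨_, ⟨i, rfl⟩, rfl⟩ _ ⟨_, ⟨j, rfl⟩, rfl⟩
    rw [← map_mul, ← map_mul, ← pdiag_add, ← pdiag_add, (nine_facts i j).2.2.1]
  · rintro _ ⟨_, ⟨i, rfl⟩, rfl⟩
    show ι (pdiag i.1) ^ 3 = 1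
    rw [← map_pow, pow_succ', pow_two, ← pdiag_add, ← pdiag_add, (nine_facts i i).2.2.2.2.1, pdiag_zero, map_one]

theorem exists_roots : ∃ (b : ℕ → X) (g : ℕ → X), Roots A b g ∧ tail g 0 ≤ ι.range := by
  obtain ⟨b, c, hb⟩ := exists_frame m
  let g : ℕ → X := fun j => ι (pword (colL [] rootWords j))
  have hg : Subgroup.closure (g '' {j | j < 15}) ≤ ι.range := by
    rw [Subgroup.closure_le]
    rintro _ ⟨j, -, rfl⟩
    exact ⟨_, rfl⟩
  refine ⟨gbasis b, g, ⟨coord_gbasis c, fun j hj => ?_, fun x hx h1 => ?_⟩, (tail_le_zero 0).trans hg⟩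
  · obtain ⟨h1, h2, h3⟩ := root_change ⟨j, hj⟩
    refine acts_change c (word_acts m c hb _ (letters_lt h1)).1 ?_ fun i hi => h2 ⟨i, hi⟩
    rw [Small, Bool.and_eq_true] at h3
    exact Nat.eq_of_beq_eq_true h3.1
  · obtain ⟨p, rfl⟩ := hg hx
    rw [m.faithful p fun a ha => (coord_gbasis c).commute_of_one h1 ha, map_one]

theorem small_bound {R : Subgroup X} (hR : R ≤ ι.range) (hc : ∀ a ∈ R, ∀ b ∈ R, a * b = b * a)
    (hi : ∀ a ∈ R, a * a = 1) {r : ℕ} (hr : Nat.card R = 2 ^ r) :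
    r ≤ 9 ∧ Nat.card ↥(A ⊓ Subgroup.centralizer (R : Set X)) ≤ 2 ^ fixBound r := by
  have := psu_finite
  have : Fact (Nat.Prime 2) := ⟨Nat.prime_two⟩
  obtain ⟨b, g, ro, hg⟩ := exists_roots m
  have hinj := m.injective
  set P := (tail g 0).comap ι with hP
  have hPp : IsPGroup 2 P := (isTwoGroup ro).comap_of_injective ι hinj
  obtain ⟨S, hS⟩ := hPp.exists_le_sylow
  have hPS : (S : Subgroup _) = P := by
    refine (Subgroup.eq_of_le_of_card_ge hS ?_).symm
    have h2 : (Nat.card (Cfsg.PSU 6 GF4 2)).factorization 2 = 15 := by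
      rw [GF4.card_psu.1, show 9196830720 = 2 ^ 15 * 280665 by norm_num,
        Nat.factorization_mul (by norm_num) (by norm_num), Nat.prime_two.factorization_pow]
      simp [Nat.factorization_eq_zero_of_not_dvd (show ¬(2 : ℕ) ∣ 280665 by norm_num)]
    have hPc : Nat.card P = Nat.card (tail g 0) := by
      rw [← Subgroup.map_comap_eq_self hg]
      exact Nat.card_congr (P.equivMapOfInjective ι hinj).toEquiv
    rw [S.card_eq_multiplicity, h2, hPc]
    exact card_ge ro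
  set R' := R.comap ι
  have hR' : IsPGroup 2 R' := fun x => ⟨1, Subtype.ext (hinj (by
    show ι (x.1 ^ 2 ^ 1) = ι 1
    rw [pow_one, pow_two, map_mul, map_one]
    exact hi _ x.2))⟩
  obtain ⟨S', hS'⟩ := hR'.exists_le_sylow
  obtain ⟨q, hq⟩ := MulAction.exists_smul_eq (Cfsg.PSU 6 GF4 2) S' S
  set R2 := R.map (MulAut.conj (ι q)).toMonoidHom
  have hR2 : R2 ≤ tail g 0 := by
    rintro _ ⟨x, hx, rfl⟩
    obtain ⟨p, rfl⟩ := hR hx
    show ι q * ι p * (ι q)⁻¹ ∈ tail g 0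
    rw [← map_inv, ← map_mul, ← map_mul]
    show q * p * q⁻¹ ∈ P
    rw [← hPS, ← hq]
    exact ⟨p, hS' hx, rfl⟩
  have hc2 : ∀ a ∈ R2, ∀ b ∈ R2, a * b = b * a := by
    rintro _ ⟨x, hx, rfl⟩ _ ⟨y, hy, rfl⟩
    rw [← map_mul, ← map_mul, hc x hx y hy]
  have hcard : Nat.card R2 = 2 ^ r := by
    rw [← hr]
    exact (Nat.card_congr (R.equivMapOfInjective _ (MulAut.conj (ι q)).injective).toEquiv).symm
  obtain ⟨h1, h2⟩ := elementary_bound ro hR2 hc2 hcard
  refine ⟨h1, le_trans ?_ h2⟩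
  refine Nat.card_le_card_of_injective
    (fun a => (⟨ι q * (a : X) * (ι q)⁻¹, m.normal q a a.2.1, ?_⟩ : ↥(A ⊓ Subgroup.centralizer (R2 : Set X)))) ?_
  · rintro _ ⟨x, hx, rfl⟩
    show ι q * x * (ι q)⁻¹ * (ι q * a * (ι q)⁻¹) = ι q * a * (ι q)⁻¹ * (ι q * x * (ι q)⁻¹)
    calc _ = ι q * (x * a) * (ι q)⁻¹ := by group
      _ = ι q * (a * x) * (ι q)⁻¹ := by rw [a.2.2 x hx]
      _ = _ := by group
  · intro a a' h
    have h' : ι q * (a : X) * (ι q)⁻¹ = ι q * (a' : X) * (ι q)⁻¹ :=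
      congrArg (fun z : ↥(A ⊓ Subgroup.centralizer (R2 : Set X)) => (z : X)) h
    exact Subtype.ext (mul_left_cancel (mul_right_cancel h'))

theorem fix_bounds (k : X) (hk : k ∈ ι.range) :
    (orderOf k = 3 → Nat.card ↥(A ⊓ Subgroup.centralizer ({k} : Set X)) * 2 ^ 10 ≤ 2 ^ 20) ∧
    (orderOf k = 7 → Nat.card ↥(A ⊓ Subgroup.centralizer ({k} : Set X)) * 2 ^ 4 ≤ 2 ^ 20) ∧
    (k ≠ 1 → Nat.card ↥(A ⊓ Subgroup.centralizer ({k} : Set X)) * 2 ^ 5 ≤ 2 ^ 20) := by
  have := psu_finite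
  obtain ⟨b, c, hb⟩ := exists_frame m
  obtain ⟨p, rfl⟩ := hk
  rw [show orderOf (ι p) = orderOf p from orderOf_injective ι m.injective p]
  refine ⟨fun h => ?_, fun h => ?_, fun hne => ?_⟩
  · show fixCard A ι p * 2 ^ 10 ≤ 2 ^ 20
    have := fixCard_three m c hb h
    omega
  · show fixCard A ι p * 2 ^ 4 ≤ 2 ^ 20
    have := fixCard_big m c hb (Or.inr (Or.inl rfl)) h
    omega
  show fixCard A ι p * 2 ^ 5 ≤ 2 ^ 20
  have hp : p ≠ 1 := fun h => hne (by rw [h, map_one])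
  obtain ⟨r, hr, hrd⟩ := Nat.exists_prime_and_dvd (mt orderOf_eq_one_iff.1 hp)
  obtain ⟨j, hj⟩ := hrd
  have hord : orderOf (p ^ j) = r := by
    have hj0 : j ≠ 0 := by
      rintro rfl
      have := orderOf_pos p
      omega
    rw [orderOf_pow' p hj0, hj, Nat.gcd_mul_left_left, Nat.mul_div_cancel _ (Nat.pos_of_ne_zero hj0)]
  refine le_trans (Nat.mul_le_mul_right _ (fixCard_pow m c hb p j)) ?_
  have hdvd : r ∣ 2 ^ 15 * 3 ^ 6 * 5 * 7 * 11 := by
    rw [← card_psu_factor m c hb, ← hord]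
    exact orderOf_dvd_natCard _
  have hpr : ∀ {a : ℕ}, a.Prime → r ∣ a → r = a := fun ha h => (Nat.prime_dvd_prime_iff_eq hr ha).1 h
  rcases (Nat.Prime.dvd_mul hr).1 hdvd with h | h
  rotate_left
  · have := fixCard_big m c hb (Or.inr (Or.inr rfl)) (hord.trans (hpr (by norm_num) h))
    omega
  rcases (Nat.Prime.dvd_mul hr).1 h with h | h
  rotate_left
  · have := fixCard_big m c hb (Or.inr (Or.inl rfl)) (hord.trans (hpr (by norm_num) h))
    omega
  rcases (Nat.Prime.dvd_mul hr).1 h with h | h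
  rotate_left
  · have := fixCard_big m c hb (Or.inl rfl) (hord.trans (hpr (by norm_num) h))
    omega
  rcases (Nat.Prime.dvd_mul hr).1 h with h | h
  rotate_left
  · have := fixCard_three m c hb (hord.trans (hpr (by norm_num) (hr.dvd_of_dvd_pow h)))
    omega
  have h2 : orderOf (ι (p ^ j)) = 2 := by
    rw [orderOf_injective ι m.injective]
    exact hord.trans (hpr Nat.prime_two (hr.dvd_of_dvd_pow h))
  have hi : ∀ a ∈ Subgroup.zpowers (ι (p ^ j)), a * a = 1 := by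
    rintro _ ⟨n, rfl⟩
    show ι (p ^ j) ^ n * ι (p ^ j) ^ n = 1
    have hsq : ι (p ^ j) * ι (p ^ j) = 1 := by
      rw [← pow_two]; have := pow_orderOf_eq_one (ι (p ^ j)); rwa [h2] at this
    rw [← (Commute.refl (ι (p ^ j))).mul_zpow, hsq, one_zpow]
  have := (small_bound m (R := Subgroup.zpowers (ι (p ^ j))) (Subgroup.zpowers_le.2 ⟨_, rfl⟩) (fun a ha a' ha' => by
    obtain ⟨n, rfl⟩ := ha
    obtain ⟨n', rfl⟩ := ha'
    exact (Commute.refl _).zpow_zpow n n') hi (r := 1) (by rw [Nat.card_zpowers, h2, pow_one])).2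
  rw [show fixBound 1 = 14 from rfl, Subgroup.zpowers_eq_closure, Subgroup.centralizer_closure] at this
  show Nat.card ↥(A ⊓ Subgroup.centralizer ({ι (p ^ j)} : Set X)) * 2 ^ 5 ≤ 2 ^ 20
  omega

theorem commutes_range {k : X} (h : ∀ e ∈ ι.range, orderOf e = 3 → k * e = e * k) :
    ∀ e ∈ ι.range, k * e = e * k := by
  have := psu_finite
  have := psu_isSimple
  let N : Subgroup (Cfsg.PSU 6 GF4 2) := Subgroup.closure {p | orderOf p = 3}
  have hN : N.Normal := by
    refine Subgroup.Normal.mk fun n hn q => ?_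
    induction hn using Subgroup.closure_induction with
    | mem x hx =>
      refine Subgroup.subset_closure ?_
      show orderOf (q * x * q⁻¹) = 3
      rw [show q * x * q⁻¹ = (MulAut.conj q).toMonoidHom x from rfl,
        orderOf_injective _ (MulAut.conj q).injective]
      exact hx
    | one => simp
    | mul x y _ _ hx hy => rw [show q * (x * y) * q⁻¹ = q * x * q⁻¹ * (q * y * q⁻¹) by group]; exact mul_mem hx hy
    | inv x _ hx => rw [show q * x⁻¹ * q⁻¹ = (q * x * q⁻¹)⁻¹ by group]; exact inv_mem hx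
  have hne : N ≠ ⊥ := by
    have : Fact (Nat.Prime 3) := ⟨Nat.prime_three⟩
    obtain ⟨p, hp⟩ := exists_prime_orderOf_dvd_card' (G := Cfsg.PSU 6 GF4 2) 3
      (by rw [GF4.card_psu.1]; norm_num)
    intro hb
    have : p ∈ N := Subgroup.subset_closure hp
    rw [hb, Subgroup.mem_bot] at this
    rw [this, orderOf_one] at hp
    norm_num at hp
  have hT := (IsSimpleGroup.eq_bot_or_eq_top_of_normal N hN).resolve_left hne
  rintro _ ⟨p, rfl⟩
  have hle : N ≤ (Subgroup.centralizer ({k} : Set X)).comap ι := by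
    rw [Subgroup.closure_le]
    intro x hx
    exact Subgroup.mem_centralizer_singleton_iff.2
      (h _ ⟨x, rfl⟩ (by rw [orderOf_injective ι m.injective]; exact hx)).symm
  exact (Subgroup.mem_centralizer_singleton_iff.1 (hle (hT ▸ Subgroup.mem_top p))).symm

end

section

variable {X : Type*} [Group X] [Finite X]

/-- A minimal normal 2-subgroup is elementary abelian. -/
theorem elementary_abelian {A H : Subgroup X} {n : ℕ} (hA : Nat.card A = 2 ^ (n + 1))
    (hAH : ∀ h ∈ H, ∀ a ∈ A, h * a * h⁻¹ ∈ A)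
    (hmin : ∀ B : Subgroup X, B ≤ A → (∀ h ∈ H, ∀ b ∈ B, h * b * h⁻¹ ∈ B) → B = ⊥ ∨ B = A) :
    (∀ a ∈ A, ∀ b ∈ A, a * b = b * a) ∧ ∀ a ∈ A, a * a = 1 := by
  have : Fact (Nat.Prime 2) := ⟨Nat.prime_two⟩
  have hnt : Nontrivial A := Finite.one_lt_card_iff_nontrivial.1 (by rw [hA]; exact Nat.one_lt_two_pow (by omega))
  have hp : IsPGroup 2 A := IsPGroup.iff_card.2 ⟨_, hA⟩
  have hcomm : ∀ a ∈ A, ∀ b ∈ A, a * b = b * a := by
    rcases hmin (A ⊓ Subgroup.centralizer (A : Set X)) inf_le_left (fun h hh b hb => ⟨hAH h hh b hb.1, fun a ha => by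
      have e := hb.2 (h⁻¹ * a * h) (by simpa using hAH h⁻¹ (inv_mem hh) a ha)
      calc a * (h * b * h⁻¹) = h * ((h⁻¹ * a * h) * b) * h⁻¹ := by group
        _ = h * (b * (h⁻¹ * a * h)) * h⁻¹ := by rw [e]
        _ = h * b * h⁻¹ * a := by group⟩) with h | h
    · exfalso
      have := hp.center_nontrivial
      obtain ⟨⟨z, hz⟩, hz1⟩ := exists_ne (1 : Subgroup.center A)
      have : (z : X) ∈ A ⊓ Subgroup.centralizer (A : Set X) :=
        ⟨z.2, fun a ha => congrArg Subtype.val (Subgroup.mem_center_iff.1 hz ⟨a, ha⟩)⟩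
      rw [h, Subgroup.mem_bot] at this
      exact hz1 (Subtype.ext (Subtype.ext this))
    · intro a ha b hb
      exact (h.ge hb).2 a ha
  refine ⟨hcomm, ?_⟩
  let B : Subgroup X :=
    { carrier := {a | a ∈ A ∧ a * a = 1}
      one_mem' := ⟨one_mem A, mul_one 1⟩
      mul_mem' := fun {a b} ha hb => ⟨mul_mem ha.1 hb.1, by
        calc a * b * (a * b) = a * (b * a) * b := by group
          _ = (a * a) * (b * b) := by rw [hcomm b hb.1 a ha.1]; group
          _ = 1 := by rw [ha.2, hb.2, mul_one]⟩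
      inv_mem' := fun {a} ha => ⟨inv_mem ha.1, by rw [← mul_inv_rev, ha.2, inv_one]⟩ }
  rcases hmin B (fun a ha => ha.1) (fun h hh b hb => ⟨hAH h hh b hb.1, by
    rw [show h * b * h⁻¹ * (h * b * h⁻¹) = h * (b * b) * h⁻¹ by group, hb.2, mul_one, mul_inv_cancel]⟩) with h | h
  · exfalso
    obtain ⟨a, ha⟩ := exists_prime_orderOf_dvd_card' (G := A) 2 (by rw [hA]; exact dvd_pow_self 2 (by omega))
    have : (a : X) ∈ B := ⟨a.2, by
      rw [← Subgroup.coe_mul, ← pow_two, ← ha, pow_orderOf_eq_one, Subgroup.coe_one]⟩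
    rw [h, Subgroup.mem_bot] at this
    rw [Subtype.ext (show (a : X) = (1 : A).1 from this), orderOf_one] at ha
    norm_num at ha
  · exact fun a ha => (h.ge ha).2

end

end Cfsg.Lib.UnitarySixModule
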