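import Cfsg.Agent.Lib.UnitarySixModule.Extra
import Cfsg.Agent.Lib.UnitarySixModule.RootData

/-!
# Matrices that raise the degree and their leading parts
-/

set_option autoImplicit false
set_option linter.unusedSectionVars false
set_option maxRecDepth 100000

namespace Cfsg.Lib.UnitarySixModule

/-- The mask of the first `n` coordinates with a property. -/
def maskOf (p : ℕ → Bool) : ℕ → ℕ
  | 0 => 0
  | n + 1 => Nat.xor (maskOf p n) (if p n then 2 ^ n else 0)

theorem testBit_maskOf (p : ℕ → Bool) : ∀ n i : ℕ, (maskOf p n).testBit i = (decide (i < n) && p i)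
  | 0, i => by simp [maskOf]
  | n + 1, i => by
    show ((maskOf p n) ^^^ (if p n then 2 ^ n else 0)).testBit i = _
    rw [Nat.testBit_xor, testBit_maskOf p n i]
    rcases lt_trichotomy i n with h | h | h
    · split_ifs <;> simp [Nat.testBit_two_pow, h, h.ne', Nat.lt_succ_of_lt h]
    · subst h
      split_ifs with hp <;> simp [Nat.testBit_two_pow, hp]
    · split_ifs <;> simp [Nat.testBit_two_pow, h.ne, not_lt.2 h.le, Nat.not_lt.2 h]

/-- The coordinates of degree at least `m`. -/
def geMask (m : ℕ) : ℕ := maskOf (fun i => Nat.ble m (col gradeDeg i)) 20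

/-- The coordinates of degree `m`. -/
def atMask (m : ℕ) : ℕ := maskOf (fun i => Nat.beq (col gradeDeg i) m) 20

/-- The matrix less the identity, on a vector. -/
def delta (M : List ℕ) (v : ℕ) : ℕ := Nat.xor (app M v) v

/-- The degree of a block of root elements. -/
def blockDeg (q : ℕ) : ℕ := (colL (0, 0, 0) rootBlocks q).1

/-- The first root element of a block. -/
def blockStart (q : ℕ) : ℕ := if Nat.ble 9 q then 15 else (colL (0, 0, 0) rootBlocks q).2.1

/-- The number of root elements in a block. -/
def blockSize (q : ℕ) : ℕ := (colL (0, 0, 0) rootBlocks q).2.2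

/-- A combination of the leading parts of a block. -/
def psiMat (q c : ℕ) : List ℕ :=
  (List.range 20).map fun j =>
    Nat.xor (if bit c 0 then col (colL [] rootLead (blockStart q)) j else 0)
      (if bit c 1 then col (colL [] rootLead (blockStart q + 1)) j else 0)

theorem land_xor (a b m : ℕ) : Nat.land (Nat.xor a b) m = Nat.xor (Nat.land a m) (Nat.land b m) := by
  show (a ^^^ b) &&& m = (a &&& m) ^^^ (b &&& m)
  exact Nat.eq_of_testBit_eq fun i => by
    simp only [Nat.testBit_and, Nat.testBit_xor]
    cases a.testBit i <;> cases b.testBit i <;> cases m.testBit i <;> rfl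

theorem land_assoc' (a b c : ℕ) : Nat.land (Nat.land a b) c = Nat.land a (Nat.land b c) := Nat.and_assoc a b c

theorem land_lt {v : ℕ} (hv : v < 2 ^ 20) (m : ℕ) : Nat.land v m < 2 ^ 20 :=
  lt_of_le_of_lt Nat.and_le_left hv

theorem land_zero' (a : ℕ) : Nat.land a 0 = 0 := Nat.and_zero a

theorem zero_land' (a : ℕ) : Nat.land 0 a = 0 := Nat.zero_and a

theorem deg_lt : ∀ i : Fin 20, col gradeDeg i.1 < 43 := by decide +kernel

theorem geMask_big {m : ℕ} (hm : 43 ≤ m) : geMask m = 0 := by
  refine Nat.eq_of_testBit_eq fun i => ?_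
  rw [geMask, testBit_maskOf, Nat.zero_testBit]
  by_cases hi : i < 20
  · have hd : col gradeDeg i < 43 := deg_lt ⟨i, hi⟩
    have hf : Nat.ble m (col gradeDeg i) = false := by
      rw [Bool.eq_false_iff]
      intro h
      have := Nat.le_of_ble_eq_true h
      omega
    simp [hf]
  · simp [hi]

theorem ge_and_ge {m m' : ℕ} (h : m ≤ m') : Nat.land (geMask m') (geMask m) = geMask m' := by
  refine Nat.eq_of_testBit_eq fun i => ?_
  show (geMask m' &&& geMask m).testBit i = _
  rw [Nat.testBit_and, geMask, geMask, testBit_maskOf, testBit_maskOf]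
  by_cases hi : i < 20 <;> by_cases hc : m' ≤ col gradeDeg i <;>
    simp [Nat.ble_eq, hi, hc]
  all_goals omega

theorem ge_and_at {m m' : ℕ} (h : m < m') : Nat.land (geMask m') (atMask m) = 0 := by
  refine Nat.eq_of_testBit_eq fun i => ?_
  show (geMask m' &&& atMask m).testBit i = _
  rw [Nat.testBit_and, geMask, atMask, testBit_maskOf, testBit_maskOf, Nat.zero_testBit]
  by_cases hi : i < 20 <;> by_cases hc : m' ≤ col gradeDeg i <;>
    simp [Nat.ble_eq, beq_eq, hi, hc]
  omega

theorem at_and_ge (m : ℕ) : Nat.land (atMask m) (geMask m) = atMask m := by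
  refine Nat.eq_of_testBit_eq fun i => ?_
  show (atMask m &&& geMask m).testBit i = _
  rw [Nat.testBit_and, geMask, atMask, testBit_maskOf, testBit_maskOf]
  by_cases hi : i < 20 <;> by_cases hc : col gradeDeg i = m <;>
    simp [Nat.ble_eq, beq_eq, hi, hc]

/-- The vector has degree at least `m`. -/
def Above (m v : ℕ) : Prop := v < 2 ^ 20 ∧ Nat.land v (geMask m) = v

theorem Above.mono {m m' v : ℕ} (hv : Above m' v) (h : m ≤ m') : Above m v :=
  ⟨hv.1, by rw [← hv.2, land_assoc', ge_and_ge h]⟩

theorem Above.at_zero {m m' v : ℕ} (hv : Above m' v) (h : m < m') : Nat.land v (atMask m) = 0 := by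
  rw [← hv.2, land_assoc', ge_and_at h, land_zero']

theorem Above.land {m v : ℕ} (hv : v < 2 ^ 20) : Above m (Nat.land v (geMask m)) :=
  ⟨land_lt hv _, by rw [land_assoc', ge_and_ge le_rfl]⟩

theorem Above.xor {m v w : ℕ} (hv : Above m v) (hw : Above m w) : Above m (Nat.xor v w) :=
  ⟨Nat.xor_lt_two_pow hv.1 hw.1, by rw [land_xor, hv.2, hw.2]⟩

theorem Above.atPart {m v : ℕ} (hv : v < 2 ^ 20) : Above m (Nat.land v (atMask m)) :=
  ⟨land_lt hv _, by rw [land_assoc', at_and_ge]⟩

theorem delta_xor (M : List ℕ) (v w : ℕ) : delta M (Nat.xor v w) = Nat.xor (delta M v) (delta M w) := by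
  rw [delta, app_xor, delta, delta]; exact xor_four _ _ _ _

theorem delta_zero (M : List ℕ) : delta M 0 = 0 := by rw [delta, app_zero]; rfl

/-- The matrix raises the degree by that of block `q`, with leading part the combination `c`. -/
def Good (q c : ℕ) (M : List ℕ) : Prop :=
  ∀ m v, Above m v → Above (m + blockDeg q) (delta M v) ∧
    Nat.land (delta M v) (atMask (m + blockDeg q)) = app (psiMat q c) (Nat.land v (atMask m))

/-- The check of `Good` on the basis. -/
def goodOk (q c : ℕ) (M : List ℕ) : Bool :=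
  Small M && (List.range 43).all fun m => (List.range 20).all fun j =>
    let v := Nat.land (2 ^ j) (geMask m)
    Nat.beq (Nat.land (delta M v) (geMask (m + blockDeg q))) (delta M v) &&
      Nat.beq (Nat.land (delta M v) (atMask (m + blockDeg q))) (app (psiMat q c) (Nat.land v (atMask m)))

theorem good_of_ok {q c : ℕ} {M : List ℕ} (h : goodOk q c M = true) : Good q c M := by
  rw [goodOk, Bool.and_eq_true] at h
  obtain ⟨hs, h⟩ := h
  rintro m v ⟨hv, hvm⟩
  by_cases hm : 43 ≤ m
  · rw [geMask_big hm, land_zero'] at hvm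
    subst hvm
    rw [delta_zero]
    refine ⟨⟨by norm_num, zero_land' _⟩, ?_⟩
    rw [zero_land', zero_land', app_zero]
  rw [List.all_eq_true] at h
  have hm' := h m (List.mem_range.2 (by omega))
  rw [List.all_eq_true] at hm'
  have key : ∀ i, i < 20 →
      Nat.land (delta M (Nat.land (2 ^ i) (geMask m))) (geMask (m + blockDeg q)) =
          delta M (Nat.land (2 ^ i) (geMask m)) ∧
        Nat.land (delta M (Nat.land (2 ^ i) (geMask m))) (atMask (m + blockDeg q)) =
          app (psiMat q c) (Nat.land (Nat.land (2 ^ i) (geMask m)) (atMask m)) := fun i hi => by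
    have := hm' i (List.mem_range.2 hi)
    simp only [Bool.and_eq_true] at this
    exact ⟨Nat.eq_of_beq_eq_true this.1, Nat.eq_of_beq_eq_true this.2⟩
  have h1 := linear_ext (g := fun v => Nat.land (delta M (Nat.land v (geMask m))) (geMask (m + blockDeg q)))
    (h := fun v => delta M (Nat.land v (geMask m)))
    (fun a b => by rw [land_xor, delta_xor, land_xor]) (fun a b => by rw [land_xor, delta_xor])
    20 (fun i hi => (key i hi).1) v hv
  have h2 := linear_ext (g := fun v => Nat.land (delta M (Nat.land v (geMask m))) (atMask (m + blockDeg q)))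
    (h := fun v => app (psiMat q c) (Nat.land (Nat.land v (geMask m)) (atMask m)))
    (fun a b => by rw [land_xor, delta_xor, land_xor]) (fun a b => by rw [land_xor, land_xor, app_xor])
    20 (fun i hi => (key i hi).2) v hv
  simp only [hvm] at h1 h2
  exact ⟨⟨Nat.xor_lt_two_pow (Small.app_lt hs v) hv, h1⟩, h2⟩

theorem psi_lt : ∀ q : Fin 9, ∀ c : Fin 4, (psiMat q.1 c.1).all (fun m => Nat.ble (m + 1) (2 ^ 20)) = true := by
  decide +kernel

theorem psi_xor_ok : ∀ q : Fin 9, ∀ c d : Fin 4,
    psiMat q.1 (Nat.xor c.1 d.1) =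
      (List.range 20).map (fun j => Nat.xor (col (psiMat q.1 c.1) j) (col (psiMat q.1 d.1) j)) := by decide +kernel

theorem app_pointwise : ∀ (f g : ℕ → ℕ) (v : ℕ),
    app ((List.range 20).map fun j => Nat.xor (f j) (g j)) v =
      Nat.xor (app ((List.range 20).map f) v) (app ((List.range 20).map g) v) := by
  intro f g v
  have key : ∀ (L : List ℕ) (o : ℕ), appAux (L.map fun j => Nat.xor (f j) (g j)) o v 0 =
      Nat.xor (appAux (L.map f) o v 0) (appAux (L.map g) o v 0) := by
    intro L
    induction L with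
    | nil => intro o; exact (Nat.xor_zero 0).symm
    | cons a L ih =>
      intro o
      simp only [List.map_cons, appAux]
      rw [appAux_acc, appAux_acc (L.map f), appAux_acc (L.map g), ih]
      split_ifs
      · rw [show Nat.xor 0 (Nat.xor (f a) (g a)) = Nat.xor (f a) (g a) from Nat.zero_xor _,
          show Nat.xor 0 (f a) = f a from Nat.zero_xor _, show Nat.xor 0 (g a) = g a from Nat.zero_xor _]
        exact xor_four _ _ _ _
      · exact xor_four 0 0 _ _
  exact key _ 0

theorem psi_xor {q c d : ℕ} (hq : q < 9) (hc : c < 4) (hd : d < 4) (v : ℕ) :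
    app (psiMat q (Nat.xor c d)) v = Nat.xor (app (psiMat q c) v) (app (psiMat q d) v) := by
  have hcols : ∀ c, (List.range 20).map (col (psiMat q c)) = psiMat q c := by
    intro c
    refine List.ext_getElem (by simp [psiMat]) fun i h1 h2 => ?_
    rw [List.getElem_map, List.getElem_range, col_eq, List.getD_eq_getElem _ _ h2]
  rw [show psiMat q (Nat.xor c d) = _ from psi_xor_ok ⟨q, hq⟩ ⟨c, hc⟩ ⟨d, hd⟩, app_pointwise, hcols, hcols]

theorem psi_zero (q v : ℕ) : app (psiMat q 0) v = 0 := by
  have e : psiMat q 0 = List.replicate 20 0 := by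
    refine List.ext_getElem (by simp [psiMat]) fun i h1 h2 => ?_
    simp [psiMat, bit_zero]
  rw [e]
  have key : ∀ (n o : ℕ), appAux (List.replicate n 0) o v 0 = 0 := by
    intro n
    induction n with
    | zero => intro o; rfl
    | succ n ih =>
      intro o
      rw [List.replicate_succ, appAux]
      simpa using ih (o + 1)
  exact key 20 0

theorem deg_mono : ∀ q : Fin 9, ∀ r : Fin 9, q.1 < r.1 → blockDeg q.1 < blockDeg r.1 := by decide +kernel

theorem deg_pos : ∀ q : Fin 9, 0 < blockDeg q.1 := by decide +kernel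

theorem Good.weaken {q r c : ℕ} {M : List ℕ} (hq : q < r) (hr : r < 9) (h : Good r c M) : Good q 0 M := by
  intro m v hv
  have hd := deg_mono ⟨q, by omega⟩ ⟨r, hr⟩ hq
  change blockDeg q < blockDeg r at hd
  obtain ⟨h1, -⟩ := h m v hv
  exact ⟨h1.mono (by omega), by rw [h1.at_zero (by omega), psi_zero]⟩

theorem good_one {q : ℕ} : Good q 0 oneM := by
  intro m v hv
  have he : app oneM v = v := by
    refine linear_ext (g := app oneM) (h := fun x => x) (app_xor oneM) (fun x y => rfl) 20 (fun i hi => ?_) v hv.1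
    have : ∀ j : Fin 20, app oneM (2 ^ (j : ℕ)) = 2 ^ (j : ℕ) := by decide +kernel
    exact this ⟨i, hi⟩
  have hd : delta oneM v = 0 := by rw [delta, he]; exact Nat.xor_self v
  rw [hd]
  exact ⟨⟨by norm_num, zero_land' _⟩, by rw [zero_land', psi_zero]⟩

theorem Good.mul {q c d : ℕ} {M N : List ℕ} (hq : q < 9) (hc : c < 4) (hd : d < 4) (hN : N.length = 20)
    (hM : Good q c M) (hN' : Good q d N) : Good q (Nat.xor c d) (mulM M N) := by
  intro m v hv
  have hpos := deg_pos ⟨q, hq⟩
  change 0 < blockDeg q at hpos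
  obtain ⟨a1, a2⟩ := hM m v hv
  obtain ⟨b1, b2⟩ := hN' m v hv
  obtain ⟨c1, c2⟩ := hM _ _ b1
  have he : delta (mulM M N) v = Nat.xor (delta M (delta N v)) (Nat.xor (delta M v) (delta N v)) := by
    have hsplit : app N v = Nat.xor (delta N v) v := by
      show app N v = app N v ^^^ v ^^^ v
      rw [Nat.xor_assoc, Nat.xor_self, Nat.xor_zero]
    show Nat.xor (app (mulM M N) v) v = _
    rw [app_mulM hN.le, hsplit, app_xor]
    show Nat.xor (Nat.xor (app M (delta N v)) (app M v)) v =
      Nat.xor (Nat.xor (app M (delta N v)) (delta N v)) (Nat.xor (Nat.xor (app M v) v) (delta N v))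
    generalize app M (delta N v) = p
    generalize delta N v = r
    generalize app M v = u
    show p ^^^ u ^^^ v = p ^^^ r ^^^ (u ^^^ v ^^^ r)
    simp [Nat.xor_assoc, Nat.xor_comm, Nat.xor_left_comm]
  rw [he]
  refine ⟨(c1.mono (by omega)).xor (a1.xor b1), ?_⟩
  rw [land_xor, land_xor, a2, b2, c1.at_zero (by omega), psi_xor hq hc hd]
  exact Nat.zero_xor _

end Cfsg.Lib.UnitarySixModule
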