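import Cfsg.Agent.Lib.UnitarySixModule.Transitive

/-!
# The descending induction

Centralisers of all subgroups of `A` lie in the normalizer: the transitive case needs `2 ^ d - 1` to divide
the order of the centraliser in `K` of a subgroup of index `2 ^ d`, and for hyperplanes a subgroup normalised
by a group of order nine is used.
-/

set_option autoImplicit false
set_option linter.unusedSectionVars false

namespace Cfsg.Lib.UnitarySixModule

variable {X : Type*} [Group X]

theorem dvd_card_of_finite (n : ℕ) :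
    n < 21 → 1 ≤ n → (2 ^ n - 1) ∣ 2 * 9196830720 → n = 1 ∨ n = 2 ∨ n = 3 ∨ n = 4 ∨ n = 6 := by
  intro h1 h2 h3
  interval_cases n <;> simp_all (config := { decide := true })

namespace Step

variable [Finite X] {A K K0 H B : Subgroup X} (t : Step A K K0 H B)
include t

theorem card_K_dvd : Nat.card K ∣ 2 * 9196830720 := by
  have h1 := Subgroup.card_mul_index (K0.subgroupOf K)
  rw [Nat.card_congr (Subgroup.subgroupOfEquivOfLe t.k0_le).toEquiv, t.card_K0] at h1
  have h2 : (K0.subgroupOf K).index ∣ 2 := by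
    change K0.relIndex K ∣ 2
    rw [Subgroup.relIndex_dvd_two_iff]
    by_cases hex : ∃ x ∈ K, x ∉ K0
    · obtain ⟨x, hx, hx0⟩ := hex
      refine ⟨x⁻¹, inv_mem hx, fun b hb => ?_⟩
      by_cases hb0 : b ∈ K0
      · exact Or.inr hb0
      · left
        have := t.two b⁻¹ (inv_mem hb) x⁻¹ (inv_mem hx) (fun h => hb0 (by simpa using inv_mem h))
          (fun h => hx0 (by simpa using inv_mem h))
        simpa using this
    · push Not at hex
      exact ⟨1, one_mem _, fun b hb => Or.inr (hex b hb)⟩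
  rw [← h1, mul_comm 2]
  exact Nat.mul_dvd_mul_left _ h2

theorem orbit_dvd {a : X} (ha : a ∈ A) (haB : a ∉ B)
    (htrans : ∀ b ∈ A, b ∉ B → ∃ m ∈ Subgroup.centralizer (B : Set X) ⊓ H, m * a * m⁻¹ * b⁻¹ ∈ B) :
    (Nat.card A / Nat.card B - 1) ∣ Nat.card ↥(K ⊓ Subgroup.centralizer (B : Set X)) := by
  set M := Subgroup.centralizer (B : Set X) ⊓ H with hM
  let B' := B.subgroupOf A
  have hnormal : B'.Normal := ⟨fun n hn z => by
    rwa [show z * n * z⁻¹ = n from Subtype.ext (by
      show (z : X) * n * (z : X)⁻¹ = n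
      rw [t.comm _ z.2 _ n.2, mul_inv_cancel_right])]⟩
  have hBconj : ∀ m ∈ M, ∀ x : X, x ∈ B → m * x * m⁻¹ = x := fun m hm x hx => by
    rw [← Subgroup.mem_centralizer_iff.1 hm.1 x hx, mul_inv_cancel_right]
  let St : Subgroup ↥M :=
    { carrier := {m | (m : X) * a * (m : X)⁻¹ * a⁻¹ ∈ B}
      one_mem' := by simp
      mul_mem' := by
        intro m n hm hn
        show (m : X) * n * a * ((m : X) * n)⁻¹ * a⁻¹ ∈ B
        have : (m : X) * n * a * ((m : X) * n)⁻¹ * a⁻¹ =
            ((m : X) * ((n : X) * a * (n : X)⁻¹ * a⁻¹) * (m : X)⁻¹) * ((m : X) * a * (m : X)⁻¹ * a⁻¹) := by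
          group
        rw [this, hBconj m m.2 _ hn]
        exact mul_mem hn hm
      inv_mem' := by
        intro m hm
        show (m : X)⁻¹ * a * ((m : X)⁻¹)⁻¹ * a⁻¹ ∈ B
        have h1 : ((m : X) * a * (m : X)⁻¹ * a⁻¹)⁻¹ ∈ B := B.inv_mem hm
        have h2 := hBconj (m⁻¹ : ↥M) (m⁻¹ : ↥M).2 _ h1
        have e : (m : X)⁻¹ * a * ((m : X)⁻¹)⁻¹ * a⁻¹ =
            (m : X)⁻¹ * ((m : X) * a * (m : X)⁻¹ * a⁻¹)⁻¹ * ((m : X)⁻¹)⁻¹ := by group
        rw [e]
        rw [Subgroup.coe_inv] at h2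
        rw [h2]
        exact h1 }
  let f0 : ↥M → ↥A ⧸ B' := fun m => ((⟨(m : X) * a * (m : X)⁻¹, t.normal_H m.2.2 ha⟩ : ↥A) : ↥A ⧸ B')
  have hf0 : ∀ m n : ↥M, f0 m = f0 n ↔ m⁻¹ * n ∈ St := by
    intro m n
    rw [QuotientGroup.eq, Subgroup.mem_subgroupOf]
    show ((m : X) * a * (m : X)⁻¹)⁻¹ * ((n : X) * a * (n : X)⁻¹) ∈ B ↔
      (m : X)⁻¹ * n * a * ((m : X)⁻¹ * n)⁻¹ * a⁻¹ ∈ B
    have e1 : (m : X)⁻¹ * n * a * ((m : X)⁻¹ * n)⁻¹ * a⁻¹ =
        (m : X)⁻¹ * (((n : X) * a * (n : X)⁻¹) * ((m : X) * a * (m : X)⁻¹)⁻¹) * m := by group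
    have hna := t.normal_H n.2.2 ha
    have hma := t.normal_H m.2.2 ha
    rw [e1, t.comm _ hna _ (inv_mem hma)]
    constructor
    · intro h
      have := hBconj (m⁻¹ : ↥M) (m⁻¹ : ↥M).2 _ h
      rw [Subgroup.coe_inv, inv_inv] at this
      rwa [this]
    · intro h
      have h2 := hBconj m m.2 _ h
      have e2 : ∀ w : X, (m : X) * ((m : X)⁻¹ * w * m) * (m : X)⁻¹ = w := fun w => by group
      rw [e2] at h2
      rw [h2]
      exact h
  let F : ↥M ⧸ St → {q : ↥A ⧸ B' // q ≠ 1} :=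
    Quotient.lift (fun m : ↥M => (⟨f0 m, fun h => haB (by
      have h1 : ((m : X) * a * (m : X)⁻¹) ∈ B :=
        Subgroup.mem_subgroupOf.1 ((QuotientGroup.eq_one_iff _).1 h)
      have h2 := hBconj (m⁻¹ : ↥M) (m⁻¹ : ↥M).2 _ h1
      rw [Subgroup.coe_inv, inv_inv, show (m : X)⁻¹ * ((m : X) * a * (m : X)⁻¹) * m = a by group] at h2
      exact h2 ▸ h1)⟩ : {q : ↥A ⧸ B' // q ≠ 1}))
      (fun m n h => Subtype.ext ((hf0 m n).2 (QuotientGroup.leftRel_apply.1 h)))
  have hbij : Function.Bijective F := by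
    constructor
    · intro x y
      induction x using Quotient.inductionOn with
      | h m =>
        induction y using Quotient.inductionOn with
        | h n => intro h; exact QuotientGroup.eq.2 ((hf0 m n).1 (congrArg Subtype.val h))
    · rintro ⟨q, hq⟩
      induction q using QuotientGroup.induction_on with
      | H b =>
        have hbB : (b : X) ∉ B := fun h => hq ((QuotientGroup.eq_one_iff _).2 h)
        obtain ⟨m, hm, hmb⟩ := htrans b b.2 hbB
        refine ⟨Quotient.mk'' ⟨m, hm⟩, Subtype.ext ?_⟩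
        show f0 ⟨m, hm⟩ = (b : ↥A ⧸ B')
        rw [QuotientGroup.eq, Subgroup.mem_subgroupOf]
        show (m * a * m⁻¹)⁻¹ * (b : X) ∈ B
        have h1 := inv_mem hmb
        rw [mul_inv_rev, inv_inv, t.comm _ b.2 _ (inv_mem (t.normal_H hm.2 ha))] at h1
        exact h1
  have hindex : St.index = Nat.card A / Nat.card B - 1 := by
    rw [Subgroup.index_eq_card, Nat.card_eq_of_bijective F hbij]
    classical
    have := Fintype.ofFinite (↥A ⧸ B')
    rw [Nat.card_eq_fintype_card, Fintype.card_subtype_compl, Fintype.card_subtype_eq,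
      ← Nat.card_eq_fintype_card]
    congr 1
    have h1 := Subgroup.card_mul_index B'
    rw [Nat.card_congr (Subgroup.subgroupOfEquivOfLe t.B_le).toEquiv, Subgroup.index_eq_card] at h1
    exact (Nat.div_eq_of_eq_mul_right Nat.card_pos h1.symm).symm
  have hMA : A ≤ M := le_inf t.A_le_cent t.A_le
  have hASt : A.subgroupOf M ≤ St := by
    intro m hm
    show (m : X) * a * (m : X)⁻¹ * a⁻¹ ∈ B
    rw [t.comm _ (Subgroup.mem_subgroupOf.1 hm) a ha, mul_inv_cancel_right, mul_inv_cancel]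
    exact one_mem _
  have hML : M ≤ A ⊔ K := by rw [t.hsup]; exact inf_le_right
  have himg : t.toCtx.img M ≤ K ⊓ Subgroup.centralizer (B : Set X) := by
    intro k hk
    obtain ⟨hkK, c, hc, hck⟩ := (t.toCtx.mem_img hML).1 hk
    refine ⟨hkK, ?_⟩
    have := mul_mem (inv_mem (t.A_le_cent hc)) hck.1
    simpa using this
  have hdvd : St.index ∣ Nat.card (t.toCtx.img M) := by
    have h1 := t.toCtx.card_img hML
    rw [inf_eq_left.2 hMA] at h1
    have h2 := Subgroup.card_mul_index (A.subgroupOf M)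
    rw [Nat.card_congr (Subgroup.subgroupOfEquivOfLe hMA).toEquiv, h1] at h2
    rw [← Nat.eq_of_mul_eq_mul_left Nat.card_pos h2]
    exact Subgroup.index_dvd_of_le hASt
  rw [← hindex]
  exact hdvd.trans (Subgroup.card_dvd_of_le himg)

theorem fix_of_le {k : X} (hk : k ∈ K ⊓ Subgroup.centralizer (B : Set X)) :
    Nat.card B ≤ Nat.card ↥(A ⊓ Subgroup.centralizer ({k} : Set X)) :=
  Subgroup.card_le_of_le (le_inf t.B_le fun b hb =>
    Subgroup.mem_centralizer_singleton_iff.2 (Subgroup.mem_centralizer_iff.1 hk.2 b hb))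

theorem mem_K0_of_odd {k : X} (hk : k ∈ K) (hodd : Odd (orderOf k)) : k ∈ K0 := by
  by_contra h0
  obtain ⟨j, hj⟩ := hodd
  have h2 : k ^ 2 ∈ K0 := by
    have := t.two k⁻¹ (inv_mem hk) k hk (fun h => h0 (by simpa using inv_mem h)) h0
    rwa [inv_inv, ← pow_two] at this
  apply h0
  have h3 : k = (k ^ 2) ^ (j + 1) := by
    rw [← pow_mul, show 2 * (j + 1) = orderOf k + 1 by omega, pow_succ, pow_orderOf_eq_one, one_mul]
  rw [h3]
  exact pow_mem h2 _

theorem exists_prime_element {p : ℕ} (hp : p.Prime) (hodd : Odd p)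
    (hdvd : p ∣ Nat.card ↥(K ⊓ Subgroup.centralizer (B : Set X))) :
    ∃ k ∈ K0, k ∈ K ⊓ Subgroup.centralizer (B : Set X) ∧ orderOf k = p := by
  have : Fact p.Prime := ⟨hp⟩
  obtain ⟨⟨k, hk⟩, hord⟩ := exists_prime_orderOf_dvd_card' p hdvd
  rw [Subgroup.orderOf_mk] at hord
  exact ⟨k, t.mem_K0_of_odd hk.1 (hord ▸ hodd), hk, hord⟩

/-- The case of a hyperplane. -/
theorem le_of_index_two (hB2 : Nat.card A = 2 * Nat.card B) : Subgroup.centralizer (B : Set X) ≤ H := by
  obtain ⟨E, hE0, hE9, hEc, hEx⟩ := t.nine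
  have hEH : E ≤ H := hE0.trans t.K0_le
  let Bs : ↥E → Subgroup X := fun e => B.map (MulAut.conj (e : X)).toMonoidHom
  set B1 := A ⊓ ⨅ e, Bs e with hB1
  have hB1B : B1 ≤ B := by
    intro z hz
    obtain ⟨b, hb, hbz⟩ := (Subgroup.mem_iInf.1 hz.2) (1 : ↥E)
    have : b = z := by simpa using hbz
    exact this ▸ hb
  have hB1norm : E ≤ Subgroup.normalizer (B1 : Set X) := by
    have key : ∀ e ∈ E, ∀ z ∈ B1, e * z * e⁻¹ ∈ B1 := by
      intro e he z hz
      refine ⟨t.normal_H (hEH he) hz.1, Subgroup.mem_iInf.2 fun f => ?_⟩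
      obtain ⟨b, hb, hbz⟩ := (Subgroup.mem_iInf.1 hz.2) (⟨e, he⟩⁻¹ * f)
      refine ⟨b, hb, ?_⟩
      change (⟨e, he⟩⁻¹ * f : ↥E) * b * ((⟨e, he⟩⁻¹ * f : ↥E) : X)⁻¹ = z at hbz
      show (f : X) * b * (f : X)⁻¹ = e * z * e⁻¹
      rw [← hbz, Subgroup.coe_mul, Subgroup.coe_inv]
      group
    intro e he
    rw [Subgroup.mem_normalizer_iff]
    refine fun z => ⟨key e he z, fun hz => ?_⟩
    have := key e⁻¹ (inv_mem he) _ hz
    simpa [mul_assoc] using this
  have hbound : Nat.card A ≤ 2 ^ 9 * Nat.card B1 := by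
    have hfin : ∀ S : Finset ↥E, Nat.card A ≤ 2 ^ S.card * Nat.card ↥(A ⊓ ⨅ e ∈ S, Bs e) := by
      intro S
      classical
      induction S using Finset.induction_on with
      | empty => simp
      | insert e S heS ih =>
        have hBe : Bs e ≤ A := by
          rintro _ ⟨b, hb, rfl⟩
          exact t.normal_H (hEH e.2) (t.B_le hb)
        have hcard : Nat.card A = 2 * Nat.card (Bs e) := by
          rw [hB2, Nat.card_congr (B.equivMapOfInjective (MulAut.conj (e : X)).toMonoidHom (MulAut.conj (e : X)).injective).toEquiv]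
        set U := A ⊓ ⨅ x ∈ S, Bs x with hU
        have h4 : (Bs e).relIndex U ≤ 2 := by
          refine (Subgroup.relIndex_le_of_le_right (inf_le_left : U ≤ A)
            Subgroup.FiniteIndex.index_ne_zero).trans (le_of_eq ?_)
          have h5 := Subgroup.card_mul_index ((Bs e).subgroupOf A)
          rw [Nat.card_congr (Subgroup.subgroupOfEquivOfLe hBe).toEquiv, hcard, mul_comm 2] at h5
          exact Nat.eq_of_mul_eq_mul_left Nat.card_pos h5
        have h6 := Subgroup.card_mul_index ((Bs e).subgroupOf U)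
        have h7 : Nat.card ((Bs e).subgroupOf U) ≤ Nat.card ↥(A ⊓ ⨅ x ∈ insert e S, Bs x) := by
          refine Nat.card_le_card_of_injective
            (fun z => (⟨(z.1 : X), z.1.2.1, ?_⟩ : ↥(A ⊓ ⨅ x ∈ insert e S, Bs x))) ?_
          · rw [Finset.iInf_insert]
            exact ⟨z.2, z.1.2.2⟩
          · intro p q hpq
            exact Subtype.ext (Subtype.ext (congrArg (fun z : ↥(A ⊓ ⨅ x ∈ insert e S, Bs x) => (z : X)) hpq :))
        rw [Finset.card_insert_of_notMem heS, pow_succ, mul_assoc, mul_comm 2]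
        refine ih.trans (Nat.mul_le_mul le_rfl ?_)
        rw [← h6]
        exact Nat.mul_le_mul h7 h4
    classical
    have := Fintype.ofFinite ↥E
    have h8 := hfin Finset.univ
    rw [Finset.card_univ, ← Nat.card_eq_fintype_card, hE9] at h8
    refine h8.trans_eq ?_
    rw [hB1]
    congr 3
    simp
  set C1 := Subgroup.centralizer (B1 : Set X) with hC1
  have hnormC1 : E ≤ Subgroup.normalizer (C1 : Set X) := by
    intro e he
    have hn := hB1norm he
    rw [Subgroup.mem_normalizer_iff] at hn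
    have key : ∀ f : X, (∀ z, z ∈ B1 ↔ f * z * f⁻¹ ∈ B1) → ∀ c ∈ C1, f * c * f⁻¹ ∈ C1 := by
      intro f hf c hc
      refine Subgroup.mem_centralizer_iff.2 fun z hz => ?_
      have hz' : f⁻¹ * z * f ∈ B1 := by
        rw [hf]
        simpa [mul_assoc] using hz
      have := Subgroup.mem_centralizer_iff.1 hc _ hz'
      calc z * (f * c * f⁻¹) = f * ((f⁻¹ * z * f) * c) * f⁻¹ := by group
        _ = f * (c * (f⁻¹ * z * f)) * f⁻¹ := by rw [this]
        _ = f * c * f⁻¹ * z := by group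
    rw [Subgroup.mem_normalizer_iff]
    refine fun c => ⟨key e hn c, fun hc => ?_⟩
    have := key e⁻¹ (fun z => by rw [hn (e⁻¹ * z * e⁻¹⁻¹)]; simp [mul_assoc]) _ hc
    simpa [mul_assoc] using this
  have h3' : ¬ 3 ∣ Nat.card C1 := by
    intro h3
    have : Fact (Nat.Prime 3) := ⟨Nat.prime_three⟩
    set L := C1 ⊔ E with hL
    have hE3 : IsPGroup 3 (E.subgroupOf L) := by
      refine IsPGroup.of_equiv ?_ (Subgroup.subgroupOfEquivOfLe le_sup_right).symm
      exact IsPGroup.iff_card.2 ⟨2, by rw [hE9]; norm_num⟩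
    obtain ⟨P, hP⟩ := hE3.exists_le_sylow
    obtain ⟨e, he1⟩ : ∃ e : ↥E, e ≠ 1 := by
      have : Nontrivial ↥E := Finite.one_lt_card_iff_nontrivial.1 (by rw [hE9]; norm_num)
      exact exists_ne 1
    have he3 : orderOf (e : X) = 3 := orderOf_eq_prime (hEx _ e.2) fun h => he1 (Subtype.ext h)
    have hPH : (P : Subgroup ↥L).map L.subtype ≤ H :=
      t.three_le (P.2.map L.subtype)
        ⟨⟨e, le_sup_right (a := C1) e.2⟩, hP (Subgroup.mem_subgroupOf.2 e.2), rfl⟩ (hEH e.2) he3
    obtain ⟨⟨y, hy⟩, hy3⟩ := exists_prime_orderOf_dvd_card' 3 h3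
    rw [Subgroup.orderOf_mk] at hy3
    have hyL : y ∈ L := le_sup_left (b := E) hy
    have hyp : IsPGroup 3 (Subgroup.zpowers (⟨y, hyL⟩ : ↥L)) :=
      IsPGroup.iff_card.2 ⟨1, by rw [Nat.card_zpowers, Subgroup.orderOf_mk, hy3, pow_one]⟩
    obtain ⟨Q, hQ⟩ := hyp.exists_le_sylow
    obtain ⟨l, hl⟩ := MulAction.exists_smul_eq ↥L Q P
    have hz : (l : X) * y * (l : X)⁻¹ ∈ H := by
      refine hPH ⟨l * ⟨y, hyL⟩ * l⁻¹, ?_, rfl⟩
      rw [← hl]
      exact ⟨⟨y, hyL⟩, hQ (Subgroup.mem_zpowers _), rfl⟩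
    have hzC1 : (l : X) * y * (l : X)⁻¹ ∈ C1 := by
      have hln : (l : X) ∈ Subgroup.normalizer (C1 : Set X) :=
        (sup_le Subgroup.le_normalizer hnormC1 : L ≤ _) l.2
      exact (Subgroup.mem_normalizer_iff.1 hln y).1 hy
    set z := (l : X) * y * (l : X)⁻¹ with hzdef
    have hz3 : orderOf z = 3 := by
      rw [hzdef, ← hy3]
      exact MulEquiv.orderOf_eq (MulAut.conj (l : X)) y
    have hzL : z ∈ A ⊔ K := by rw [t.hsup]; exact hz
    obtain ⟨b, hb, k, hk, hbk⟩ := t.toCtx.exists_mul hzL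
    have hkfix : B1 ≤ A ⊓ Subgroup.centralizer ({k} : Set X) := by
      intro c hc
      refine ⟨hc.1, Subgroup.mem_centralizer_singleton_iff.2 ((t.toCtx.commute_comp hb hc.1).1 ?_).symm⟩
      rw [hbk]
      exact (Subgroup.mem_centralizer_iff.1 hzC1 c hc).symm
    have hk3 : orderOf k = 3 := by
      refine orderOf_eq_prime ?_ ?_
      · have h1 : (⟨z, hzL⟩ : ↥(A ⊔ K)) ^ 3 = 1 := Subtype.ext (by
          simp [← hz3, pow_orderOf_eq_one])
        have h2 := congrArg t.toCtx.proj h1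
        rw [map_pow, map_one] at h2
        have h4 : ((t.toCtx.proj ⟨z, hzL⟩ : ↥K) : X) = k := by
          show t.toCtx.comp z = k
          rw [← hbk, t.toCtx.comp_eq hb hk]
        rw [← h4, ← Subgroup.coe_pow, h2, Subgroup.coe_one]
      · intro hk1
        rw [hk1, mul_one] at hbk
        have : orderOf z ∣ 2 := orderOf_dvd_of_pow_eq_one (by rw [← hbk, pow_two, t.invol b hb])
        rw [hz3] at this
        norm_num at this
    have h4 := t.three k (t.mem_K0_of_odd hk (by rw [hk3]; decide)) hk3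
    have h5 := Subgroup.card_le_of_le hkfix
    have h6 := t.card_A
    omega
  exact le_trans (Subgroup.centralizer_le (SetLike.coe_subset_coe.2 hB1B))
    (t.le_of_nine hEH hE9 hEc hEx hnormC1 h3')

/-- The induction step. -/
theorem centralizer_le : Subgroup.centralizer (B : Set X) ≤ H := by
  obtain ⟨b, hb20, hb⟩ : ∃ b ≤ 20, Nat.card B = 2 ^ b := by
    have := Subgroup.card_dvd_of_le t.B_le
    rw [t.card_A] at this
    exact (Nat.dvd_prime_pow Nat.prime_two).1 this
  by_cases hB20 : b = 20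
  · have : B = A := Subgroup.eq_of_le_of_card_ge t.B_le (by rw [hb, hB20, t.card_A])
    rw [this]
    exact t.centralizer_A_le
  by_cases hB19 : b = 19
  · exact t.le_of_index_two (by rw [hb, hB19, t.card_A]; norm_num)
  rcases t.le_or_transitive with h | ⟨a, ha, haB, htr⟩
  · exact h
  exfalso
  have hdvd := t.orbit_dvd ha haB htr
  rw [t.card_A, hb, Nat.pow_div hb20 (by norm_num)] at hdvd
  have hd2 := hdvd.trans ((Subgroup.card_dvd_of_le inf_le_left).trans t.card_K_dvd)
  have hfix : ∀ k ∈ K ⊓ Subgroup.centralizer (B : Set X),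
      2 ^ b ≤ Nat.card ↥(A ⊓ Subgroup.centralizer ({k} : Set X)) := fun k hk => hb ▸ t.fix_of_le hk
  have hcases := dvd_card_of_finite (20 - b) (by omega) (by omega) hd2
  have three_case : 3 ∣ (2 ^ (20 - b) - 1) → 11 ≤ b → False := fun h hb11 => by
    obtain ⟨k, hk0, hk, hord⟩ := t.exists_prime_element Nat.prime_three (by decide) (h.trans hdvd)
    have h4 := t.three k hk0 hord
    have h5 : (2 : ℕ) ^ 11 ≤ 2 ^ b := Nat.pow_le_pow_right (by norm_num) hb11
    have := hfix k hk
    omega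
  rcases hcases with h | h | h | h | h
  · omega
  · exact three_case (by rw [h]; decide) (by omega)
  · obtain ⟨k, hk0, hk, hord⟩ := t.exists_prime_element (p := 7) (by norm_num) (by decide)
      ((show 7 ∣ 2 ^ (20 - b) - 1 by rw [h]; decide).trans hdvd)
    have h4 := t.seven k hk0 hord
    have h5 : (2 : ℕ) ^ 17 ≤ 2 ^ b := Nat.pow_le_pow_right (by norm_num) (by omega)
    have := hfix k hk
    omega
  · exact three_case (by rw [h]; decide) (by omega)
  · exact three_case (by rw [h]; decide) (by omega)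

end Step

theorem Situation.eq_top [Finite X] {A K K0 H : Subgroup X} (s : Situation A K K0 H) : H = ⊤ := by
  have key : ∀ B : Subgroup X, B ≤ A → Subgroup.centralizer (B : Set X) ≤ H := by
    intro B
    induction B using WellFoundedGT.induction with
    | ind B ih =>
      intro hBA
      exact Step.centralizer_le (B := B) { toSituation := s, B_le := hBA, above := fun B' h h' => ih B' h h' }
  refine eq_top_iff.2 ((?_ : (⊤ : Subgroup X) ≤ _).trans (key ⊥ bot_le))
  intro x _
  simp [Subgroup.mem_centralizer_iff]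

end Cfsg.Lib.UnitarySixModule
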