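import Cfsg.Agent.Lib.UnitarySixModule.Projection

/-!
# The ten lines

A faithful module of order `2 ^ 20` over PSU(6, 2) is the product of the ten projections of the orbit of ten
characters, each of order four.
-/

set_option autoImplicit false
set_option linter.unusedSectionVars false
set_option maxRecDepth 100000

namespace Cfsg.Lib.UnitarySixModule

open Cfsg.Lib.CosetEnum

theorem ofRows_ne : (ofRows (wordRows [5, 0]) 0 1 == ofRows (wordRows [0, 5]) 0 1) = false := by
  decide +kernel

theorem pdiag_one_ne : pdiag 1 ≠ 1 := by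
  intro h
  have e : diagWord 1 = [5] := by decide
  rw [pdiag, e, pword] at h
  have hc : suOf (expand [5]) ∈ Subgroup.center (Cfsg.SU 6 GF4 2) := (QuotientGroup.eq_one_iff _).1 h
  have h1 := Subgroup.mem_center_iff.1 hc (suOf (expand [0]))
  rw [← suOf_append, ← suOf_append] at h1
  have h2 := congrArg (fun z : Cfsg.SU 6 GF4 2 => (z.1 : Matrix (Fin 6) (Fin 6) GF4)) h1
  rw [show expand [0] ++ expand [5] = expand [0, 5] from rfl, show expand [5] ++ expand [0] = expand [5, 0] from rfl,
    word_mat, word_mat] at h2
  have h3 := ofRows_ne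
  rw [h2, beq_self_eq_true] at h3
  exact Bool.noConfusion h3

theorem path_ok : ∀ o : Fin 3, ∀ i : Fin (colL [] orbitPaths o.1).length, i.1 = 0 ∨
    ∃ j : Fin (colL [] orbitPaths o.1).length, j.1 < i.1 ∧
      (colL [] orbitPaths o.1)[i].2.1 < 5 ∧
      (colL [] orbitPaths o.1)[j].1 = (colL [] orbitPaths o.1)[i].2.2 ∧
      col (colL [] moveTable (colL [] orbitPaths o.1)[i].2.1) (colL [] orbitPaths o.1)[i].2.2 =
        (colL [] orbitPaths o.1)[i].1 := by decide +kernel

theorem orbit_nodup : ∀ o : Fin 3, (orbitChars o.1).Nodup := by decide +kernel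

theorem orbit_len : (orbitChars 0).length = 10 ∧ (orbitChars 1).length = 15 ∧ (orbitChars 2).length = 15 ∧
    (orbitChars 0).head? = some 9 := by decide +kernel

variable {V : Type*} [CommGroup V] (φ : Cfsg.PSU 6 GF4 2 →* MulAut V) (hinvol : ∀ v : V, v * v = 1)

/-- A character with trivial projection. -/
def Vanishes (c : ℕ) : Prop := ∀ v : V, pc φ c v = 1

theorem vanishes_move {g : ℕ} (hg : g < 5) {c : ℕ} (hc : c ∈ allChars) :
    Vanishes φ (col (colL [] moveTable g) c) ↔ Vanishes φ c := by
  constructor
  · intro h v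
    have := pgen_pc φ hg hc v
    rw [h] at this
    exact (φ (pgen g)).injective (this.trans (map_one _).symm)
  · intro h v
    have := pgen_pc φ hg hc ((φ (pgen g)).symm v)
    rw [h, map_one, MulEquiv.apply_symm_apply] at this
    exact this.symm

theorem vanishes_orbit {o : Fin 3} {c d : ℕ} (hc : c ∈ orbitChars o.1) (hd : d ∈ orbitChars o.1)
    (h : Vanishes φ c) : Vanishes φ d := by
  set L := colL [] orbitPaths o.1 with hL
  have key : ∀ (n : ℕ) (hn : n < L.length) (h00 : 0 < L.length),
      (Vanishes φ (L[n]'hn).1 ↔ Vanishes φ (L[0]'h00).1) := by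
    intro n
    induction n using Nat.strong_induction_on with
    | _ n ih =>
      intro hn h00
      rcases path_ok o ⟨n, hn⟩ with h0 | ⟨j, hj, hg, hjp, hm⟩
      · simp only at h0
        subst h0
        exact Iff.rfl
      · have hp : (L[n]).2.2 ∈ orbitChars o.1 := by
          rw [orbitChars, List.mem_map]
          exact ⟨L[j.1], List.getElem_mem _, hjp⟩
        have e1 := vanishes_move φ hg (orbit_sub hp)
        simp only [Fin.getElem_fin] at hm e1
        rw [hm] at e1
        rw [e1, ← ih j.1 hj j.2 h00]
        simp only [Fin.getElem_fin] at hjp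
        rw [hjp]
  rw [orbitChars, List.mem_map] at hc hd
  obtain ⟨x, hx, rfl⟩ := hc
  obtain ⟨y, hy, rfl⟩ := hd
  obtain ⟨i, hi, rfl⟩ := List.getElem_of_mem hx
  obtain ⟨j, hj, rfl⟩ := List.getElem_of_mem hy
  have h00 : 0 < L.length := lt_of_le_of_lt (Nat.zero_le i) hi
  exact (key j hj h00).2 ((key i hi h00).1 h)

/-- A projection as an endomorphism. -/
noncomputable def pcHom (c : ℕ) : V →* V where
  toFun := pc φ c
  map_one' := proj_one φ _
  map_mul' := proj_mul φ _

include hinvol in
theorem four_le [Finite V] {c : ℕ} (hc : c ∈ allChars) (h : ¬ Vanishes φ c) :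
    4 ≤ Nat.card (pcHom φ c).range := by
  unfold Vanishes at h
  push Not at h
  obtain ⟨v, hv⟩ := h
  obtain ⟨h1, hlt⟩ := unit_ok c hc
  set w := pc φ c v with hw
  set t := unitOf c with ht
  have hrel := pc_three φ hinvol hc v
  rw [← hw, ← ht] at hrel
  have hdouble : dact φ (addT t t) w = dact φ t (dact φ t w) := dact_add φ t t w
  have hne1 : dact φ t w ≠ w := by
    intro e
    rw [hdouble, e, e, hinvol, one_mul] at hrel
    exact hv hrel
  have hne2 : dact φ (addT t t) w ≠ w := by
    intro e
    rw [e, mul_comm w (dact φ t w), mul_assoc, hinvol, mul_one] at hrel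
    exact hv ((φ (pdiag t)).injective (hrel.trans (map_one _).symm))
  have hne3 : dact φ t w ≠ dact φ (addT t t) w := by
    intro e
    rw [hdouble] at e
    exact hne1 ((φ (pdiag t)).injective e).symm
  have hne0 : ∀ s, dact φ s w ≠ 1 := fun s e => hv ((φ (pdiag s)).injective (e.trans (map_one _).symm))
  have m0 : w ∈ (pcHom φ c).range := ⟨v, rfl⟩
  have hpw : ∀ s, s < 81 → dact φ s w ∈ (pcHom φ c).range := by
    intro s hs
    refine ⟨dact φ s v, ?_⟩
    show pc φ c (dact φ s v) = dact φ s w
    rw [hw, pc, pc, proj, proj]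
    show _ = φ (pdiag s) (∏ t : Fin 81, if supp c t.1 then dact φ t.1 v else 1)
    rw [map_prod]
    refine Finset.prod_congr rfl fun r _ => ?_
    split_ifs
    · show dact φ r.1 (dact φ s v) = dact φ s (dact φ r.1 v)
      rw [← dact_add, ← dact_add]
      congr 1
      simp only [addT]
      congr 1 <;> ring
    · exact (map_one _).symm
  classical
  have := Fintype.ofFinite (pcHom φ c).range
  rw [Nat.card_eq_fintype_card]
  let f : Fin 4 → (pcHom φ c).range := ![1, ⟨w, m0⟩, ⟨_, hpw t hlt⟩, ⟨_, hpw (addT t t) (addT_lt _ _)⟩]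
  have hw1 : w ≠ 1 := hv
  have hf : Function.Injective f := by
    intro i j hij
    have h' := congrArg Subtype.val hij
    fin_cases i <;> fin_cases j <;> simp [f] at h' ⊢
    all_goals first
      | exact hw1 h'
      | exact hw1 h'.symm
      | exact hne0 _ h'
      | exact hne0 _ h'.symm
      | exact hne1 h'
      | exact hne1 h'.symm
      | exact hne2 h'
      | exact hne2 h'.symm
      | exact hne3 h'
      | exact hne3 h'.symm
  simpa using Fintype.card_le_of_injective f hf

include hinvol in
theorem pow_four_le [Finite V] {o : Fin 3} (h : ∀ c ∈ orbitChars o.1, ¬ Vanishes φ c) :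
    4 ^ (orbitChars o.1).length ≤ Nat.card V ∧
      (Nat.card V ≤ 4 ^ (orbitChars o.1).length →
        (∀ c ∈ orbitChars o.1, Nat.card (pcHom φ c).range = 4) ∧
          ∀ x : V, ∃ f : Fin (orbitChars o.1).length → V,
            x = ∏ i, pc φ ((orbitChars o.1).get i) (f i)) := by
  classical
  have := Fintype.ofFinite V
  set L := orbitChars o.1 with hL
  let T := (i : Fin L.length) → (pcHom φ (L.get i)).range
  let F : T → V := fun f => ∏ i, (f i : V)
  have hinj : Function.Injective F := by
    intro f g hfg
    funext j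
    refine Subtype.ext ?_
    have hval : ∀ f : T, pc φ (L.get j) (F f) = (f j : V) := by
      intro f
      show pcHom φ (L.get j) (∏ i, (f i : V)) = (f j : V)
      rw [map_prod, Finset.prod_eq_single j]
      · obtain ⟨v, hv⟩ := (f j).2
        rw [← hv]
        exact pc_pc φ hinvol (orbit_sub (List.get_mem L j)) v
      · intro i _ hij
        obtain ⟨v, hv⟩ := (f i).2
        rw [← hv]
        exact pc_orth φ hinvol (List.get_mem L i) (List.get_mem L j)
          (fun e => hij ((orbit_nodup o).injective_get e)) v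
      · intro hh; exact absurd (Finset.mem_univ j) hh
    rw [← hval f, ← hval g, hfg]
  have h4 : ∀ i : Fin L.length, 4 ≤ Fintype.card (pcHom φ (L.get i)).range := fun i => by
    rw [← Nat.card_eq_fintype_card]
    exact four_le φ hinvol (orbit_sub (List.get_mem L i)) (h _ (List.get_mem L i))
  have hle := Fintype.card_le_of_injective F hinj
  rw [show Fintype.card T = ∏ i, Fintype.card (pcHom φ (L.get i)).range from Fintype.card_pi] at hle
  have hprod : 4 ^ L.length ≤ ∏ i, Fintype.card (pcHom φ (L.get i)).range := by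
    have := Finset.prod_le_prod' (s := Finset.univ) (f := fun _ : Fin L.length => 4) fun i _ => h4 i
    simpa using this
  refine ⟨by rw [Nat.card_eq_fintype_card]; exact hprod.trans hle, fun hup => ?_⟩
  rw [Nat.card_eq_fintype_card] at hup
  refine ⟨fun c hc => ?_, fun x => ?_⟩
  · obtain ⟨i, rfl⟩ := List.get_of_mem hc
    rw [Nat.card_eq_fintype_card]
    by_contra hne
    have hlt : ∏ _j : Fin L.length, 4 < ∏ j, Fintype.card (pcHom φ (L.get j)).range :=
      Finset.prod_lt_prod (fun j _ => by norm_num) (fun j _ => h4 j)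
        ⟨i, Finset.mem_univ _, lt_of_le_of_ne (h4 i) (Ne.symm hne)⟩
    rw [Finset.prod_const, Finset.card_univ, Fintype.card_fin] at hlt
    omega
  · have hc : Fintype.card T = Fintype.card V := by
      rw [show Fintype.card T = ∏ i, Fintype.card (pcHom φ (L.get i)).range from Fintype.card_pi]
      omega
    obtain ⟨f, rfl⟩ := ((Fintype.bijective_iff_injective_and_card F).2 ⟨hinj, hc⟩).2 x
    exact ⟨fun i => (f i).2.choose, Finset.prod_congr rfl fun i _ => (f i).2.choose_spec.symm⟩

include hinvol in
theorem decomposition [Finite V] (hφ : Function.Injective φ) (hcard : Nat.card V = 2 ^ 20) :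
    Nat.card (pcHom φ 9).range = 4 ∧ ∀ v : V, ((orbitChars 0).map fun c => pc φ c v).prod = v := by
  obtain ⟨l0, l1, l2, hhead⟩ := orbit_len
  have hbig : ∀ o : Fin 3, o.1 ≠ 0 → ∀ c ∈ orbitChars o.1, Vanishes φ c := by
    intro o ho c hc
    by_contra hv
    have h := (pow_four_le φ hinvol (o := o) fun d hd hd' => hv (vanishes_orbit φ hd hc hd')).1
    rw [hcard] at h
    fin_cases o
    · exact ho rfl
    · change 4 ^ (orbitChars 1).length ≤ _ at h; rw [l1] at h; norm_num at h
    · change 4 ^ (orbitChars 2).length ≤ _ at h; rw [l2] at h; norm_num at h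
  have hten : ∀ c ∈ orbitChars 0, ¬ Vanishes φ c := by
    intro c hc hv
    apply pdiag_one_ne
    apply hφ
    rw [map_one]
    refine MulEquiv.ext fun v => ?_
    have hall : ∀ d ∈ allChars, pc φ d v = 1 := by
      intro d hd
      simp only [allChars, List.mem_append] at hd
      rcases hd with (h | h) | h
      · exact vanishes_orbit φ (o := 0) hc h hv v
      · exact hbig 1 (by decide) d h v
      · exact hbig 2 (by decide) d h v
    have ht := total φ hinvol v
    rw [List.prod_eq_one (by
      intro x hx
      obtain ⟨d, hd, rfl⟩ := List.mem_map.1 hx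
      exact hall d hd), mul_one] at ht
    show φ (pdiag 1) v = v
    conv_lhs => rw [← ht]
    conv_rhs => rw [← ht]
    exact dact_proj φ (1 : Fin 81) suppAll v
  obtain ⟨-, hup⟩ := pow_four_le φ hinvol (o := 0) hten
  obtain ⟨hfour, hspan⟩ := hup (by
    change _ ≤ 4 ^ (orbitChars 0).length
    rw [l0, hcard]; norm_num)
  have h9 : (9 : ℕ) ∈ orbitChars 0 := by decide +kernel
  refine ⟨hfour 9 h9, fun v => ?_⟩
  have hall : proj φ suppAll v = 1 := by
    obtain ⟨f, rfl⟩ := hspan v
    let P : V →* V := { toFun := proj φ suppAll, map_one' := proj_one φ _, map_mul' := proj_mul φ _ }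
    show P (∏ i, pc φ ((orbitChars (0 : Fin 3).1).get i) (f i)) = 1
    rw [map_prod]
    refine Finset.prod_eq_one fun i _ => ?_
    obtain ⟨-, -, -, e1, e2⟩ := self_ok _ (orbit_sub (o := 0) (List.get_mem _ i))
    exact proj_pc_one φ hinvol (orbit_sub (o := 0) (List.get_mem _ i)) suppAll (f i) e1 e2
  have ht := total φ hinvol v
  rw [hall, one_mul, allChars, List.map_append, List.map_append, List.prod_append, List.prod_append,
    List.prod_eq_one (l := (orbitChars 1).map _) (by
      intro x hx
      obtain ⟨d, hd, rfl⟩ := List.mem_map.1 hx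
      exact hbig 1 (by decide) d hd v),
    List.prod_eq_one (l := (orbitChars 2).map _) (by
      intro x hx
      obtain ⟨d, hd, rfl⟩ := List.mem_map.1 hx
      exact hbig 2 (by decide) d hd v), mul_one, mul_one] at ht
  exact ht

end Cfsg.Lib.UnitarySixModule
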