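import Cfsg.Agent.Lib.UnitarySixModule.Glue

/-!
# `2^20 : U₆(2)` is not a strongly 3-embedded normalizer
-/

set_option autoImplicit false
set_option linter.unusedSectionVars false

namespace Cfsg.Lib.UnitarySixModule

open Cfsg.Lib.CosetEnum

theorem psu_center_trivial {p : Cfsg.PSU 6 GF4 2} (h : ∀ q, p * q = q * p) : p = 1 := by
  have := psu_finite
  have := psu_isSimple
  rcases IsSimpleGroup.eq_bot_or_eq_top_of_normal (Subgroup.center (Cfsg.PSU 6 GF4 2)) inferInstance with h0 | h0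
  · have : p ∈ Subgroup.center (Cfsg.PSU 6 GF4 2) := Subgroup.mem_center_iff.2 fun q => (h q).symm
    rwa [h0, Subgroup.mem_bot] at this
  · exfalso
    have : Fact (Nat.Prime 2) := ⟨Nat.prime_two⟩
    obtain ⟨t, ht⟩ := exists_prime_orderOf_dvd_card' (G := Cfsg.PSU 6 GF4 2) 2 (by rw [GF4.card_psu.1]; norm_num)
    have hn : (Subgroup.zpowers t).Normal := Subgroup.Normal.mk fun n hn g => by
      rw [show g * n * g⁻¹ = n by
        rw [Subgroup.mem_center_iff.1 (h0 ▸ Subgroup.mem_top n : n ∈ Subgroup.center _) g, mul_inv_cancel_right]]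
      exact hn
    rcases IsSimpleGroup.eq_bot_or_eq_top_of_normal _ hn with h1 | h1
    · have := congrArg (fun K : Subgroup (Cfsg.PSU 6 GF4 2) => Nat.card K) h1
      simp only [Nat.card_zpowers, ht, Subgroup.card_bot] at this
      omega
    · have := congrArg (fun K : Subgroup (Cfsg.PSU 6 GF4 2) => Nat.card K) h1
      simp only [Nat.card_zpowers, ht, Subgroup.card_top, GF4.card_psu.1] at this
      omega

variable {X : Type*} [Group X] [Finite X]

theorem card_closure_pair {a b : X} (ha : a * a = 1) (hb : b * b = 1) (hab : a * b = b * a) :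
    Nat.card ↥(Subgroup.closure ({a, b} : Set X)) ≤ 4 := by
  have hle : Subgroup.zpowers b ≤ Subgroup.normalizer ((Subgroup.zpowers a : Subgroup X) : Set X) := by
    rw [Subgroup.zpowers_le, Subgroup.mem_normalizer_iff]
    intro h
    constructor
    · rintro ⟨n, rfl⟩
      exact ⟨n, by show a ^ n = _; rw [← ((show Commute a b from hab).zpow_left n).eq, mul_inv_cancel_right]⟩
    · rintro ⟨n, hn⟩
      refine ⟨n, ?_⟩
      show a ^ n = h
      calc a ^ n = b⁻¹ * (a ^ n * b) := by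
            rw [((show Commute a b from hab).zpow_left n).eq, inv_mul_cancel_left]
        _ = h := by rw [show a ^ n = b * h * b⁻¹ from hn]; group
  have e : Subgroup.closure ({a, b} : Set X) = Subgroup.zpowers a ⊔ Subgroup.zpowers b := by
    rw [Subgroup.zpowers_eq_closure, Subgroup.zpowers_eq_closure, ← Subgroup.closure_union, Set.singleton_union]
  have h2 : ∀ x : X, x * x = 1 → Nat.card (Subgroup.zpowers x) ≤ 2 := fun x hx => by
    rw [Nat.card_zpowers]
    exact orderOf_le_of_pow_eq_one (by norm_num) (by rw [pow_two, hx])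
  rw [e]
  show Nat.card ((Subgroup.zpowers a ⊔ Subgroup.zpowers b : Subgroup X) : Set X) ≤ 4
  rw [Subgroup.coe_mul_of_right_le_normalizer_left _ _ hle]
  exact (Set.natCard_mul_le).trans (Nat.mul_le_mul (h2 a ha) (h2 b hb))

theorem facts_of_model {A K K0 H : Subgroup X} (hA : Nat.card A = 2 ^ 20) (hH : H = Subgroup.normalizer (A : Set X))
    (hAK : A ⊓ K = ⊥) (hHAK : A ⊔ K = H)
    (hmin : ∀ B : Subgroup X, B ≤ A → (∀ h ∈ H, ∀ b ∈ B, h * b * h⁻¹ ∈ B) → B = ⊥ ∨ B = A)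
    (hK0 : K0 ≤ K) (e : Cfsg.PSU 6 GF4 2 ≃* K0)
    (htwo : ∀ k ∈ K, ∀ k' ∈ K, k ∉ K0 → k' ∉ K0 → k⁻¹ * k' ∈ K0)
    (hconj : ∀ k ∈ K, ∀ x ∈ K0, k * x * k⁻¹ ∈ K0)
    (hcent : ∀ k ∈ K, (∀ x ∈ K0, k * x = x * k) → k = 1) : Facts A K K0 := by
  have := psu_finite
  have := psu_isSimple
  have hAH : ∀ h ∈ H, ∀ a ∈ A, h * a * h⁻¹ ∈ A := by
    intro h hh a ha
    rw [hH, Subgroup.mem_normalizer_iff] at hh
    exact (hh a).1 ha
  obtain ⟨hcomm, hinv⟩ := elementary_abelian (n := 19) hA hAH hmin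
  have hKH : K ≤ H := hHAK ▸ le_sup_right
  let ι : Cfsg.PSU 6 GF4 2 →* X := K0.subtype.comp e.toMonoidHom
  have hrange : ι.range = K0 := by
    refine le_antisymm (fun x ⟨p, hp⟩ => hp ▸ (e p).2) (fun x hx => ⟨e.symm ⟨x, hx⟩, ?_⟩)
    show (e (e.symm ⟨x, hx⟩) : X) = x
    rw [e.apply_symm_apply]
  have hnorm : ∀ g, ∀ a ∈ A, ι g * a * (ι g)⁻¹ ∈ A := fun g a ha => hAH _ (hKH (hK0 (e g).2)) a ha
  let N : Subgroup (Cfsg.PSU 6 GF4 2) := (Subgroup.centralizer (A : Set X)).comap ι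
  have hNn : N.Normal := Subgroup.Normal.mk fun n hn g a ha => by
    have e1 := hn ((ι g)⁻¹ * a * ι g) (by simpa using hnorm g⁻¹ a ha)
    show a * ι (g * n * g⁻¹) = ι (g * n * g⁻¹) * a
    rw [map_mul, map_mul, map_inv]
    calc a * (ι g * ι n * (ι g)⁻¹) = ι g * ((ι g)⁻¹ * a * ι g * ι n) * (ι g)⁻¹ := by group
      _ = ι g * (ι n * ((ι g)⁻¹ * a * ι g)) * (ι g)⁻¹ := by rw [e1]
      _ = ι g * ι n * (ι g)⁻¹ * a := by group
  have hNbot : N = ⊥ := by
    refine (IsSimpleGroup.eq_bot_or_eq_top_of_normal N hNn).resolve_right fun hT => ?_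
    have hfix : ∀ x ∈ K0, ∀ a ∈ A, a * x = x * a := by
      intro x hx a ha
      obtain ⟨p, rfl⟩ := hrange.ge hx
      exact (hT ▸ Subgroup.mem_top p : p ∈ N) a ha
    have : Nontrivial A := Finite.one_lt_card_iff_nontrivial.1 (by rw [hA]; norm_num)
    obtain ⟨⟨a, ha⟩, ha1⟩ := exists_ne (1 : A)
    obtain ⟨t, htK, ht⟩ : ∃ t ∈ K, ∀ k ∈ K, k ∉ K0 → t ∉ K0 := by
      by_cases hex : ∃ k ∈ K, k ∉ K0
      · obtain ⟨t, htK, ht⟩ := hex
        exact ⟨t, htK, fun _ _ _ => ht⟩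
      · exact ⟨1, one_mem _, fun k hk hk' => absurd ⟨k, hk, hk'⟩ hex⟩
    set b := t * a * t⁻¹ with hb
    have hbA : b ∈ A := hAH t (hKH htK) a ha
    set B := Subgroup.closure ({a, b} : Set X)
    have hBA : B ≤ A := (Subgroup.closure_le A).2 fun x hx => by
      rcases hx with rfl | rfl
      exacts [ha, hbA]
    have hBinv : ∀ h ∈ H, ∀ y ∈ B, h * y * h⁻¹ ∈ B := by
      intro h hh y hy
      have hgen : ∀ x ∈ ({a, b} : Set X), h * x * h⁻¹ ∈ B := by
        have hctx : Ctx A K K0 := ⟨hA, hcomm, hinv, fun k hk a ha => hAH k (hKH hk) a ha, hAK, hK0, htwo⟩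
        obtain ⟨a', ha', k, hk, rfl⟩ := hctx.exists_mul (hHAK.symm ▸ hh : h ∈ A ⊔ K)
        have hred : ∀ x ∈ A, a' * k * x * (a' * k)⁻¹ = k * x * k⁻¹ := by
          intro x hx
          rw [show a' * k * x * (a' * k)⁻¹ = a' * (k * x * k⁻¹) * a'⁻¹ by group,
            hcomm a' ha' _ (hAH k (hKH hk) x hx), mul_inv_cancel_right]
        have hk0 : ∀ k ∈ K0, ∀ x ∈ A, k * x * k⁻¹ = x := fun k hk x hx => by
          rw [← hfix k hk x hx, mul_inv_cancel_right]
        rintro x (rfl | rfl)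
        · rw [hred x ha]
          by_cases hk' : k ∈ K0
          · rw [hk0 k hk' x ha]; exact Subgroup.subset_closure (Set.mem_insert _ _)
          · have h1 := htwo t htK k hk (ht k hk hk') hk'
            rw [show k * x * k⁻¹ = t * ((t⁻¹ * k) * x * (t⁻¹ * k)⁻¹) * t⁻¹ by group, hk0 _ h1 x ha]
            exact Subgroup.subset_closure (Set.mem_insert_of_mem _ rfl)
        · rw [hred _ hbA]
          by_cases hk' : k ∈ K0
          · rw [hk0 k hk' _ hbA]; exact Subgroup.subset_closure (Set.mem_insert_of_mem _ rfl)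
          · have hki : k⁻¹ ∉ K0 := fun h => hk' (by simpa using inv_mem h)
            have h1 := htwo k⁻¹ (inv_mem hk) t htK hki (ht k hk hk')
            rw [inv_inv] at h1
            rw [hb, show k * (t * a * t⁻¹) * k⁻¹ = (k * t) * a * (k * t)⁻¹ by group, hk0 _ h1 a ha]
            exact Subgroup.subset_closure (Set.mem_insert _ _)
      have : B ≤ B.comap (MulAut.conj h).toMonoidHom := (Subgroup.closure_le _).2 hgen
      exact this hy
    have hc4 : Nat.card B ≤ 4 := card_closure_pair (hinv a ha) (hinv b hbA) (hcomm a ha b hbA)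
    rcases hmin B hBA hBinv with h | h
    · have : a ∈ B := Subgroup.subset_closure (Set.mem_insert _ _)
      rw [h, Subgroup.mem_bot] at this
      exact ha1 (Subtype.ext this)
    · rw [h, hA] at hc4
      norm_num at hc4
  have m : Model A ι := ⟨hA, hcomm, hinv, hnorm, fun g hg => by
    have : g ∈ N := fun a ha => by
      nth_rw 1 [← hg a ha]
      rw [inv_mul_cancel_right]
    rwa [hNbot, Subgroup.mem_bot] at this⟩
  exact
    { card_A := hA
      comm := hcomm
      invol := hinv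
      normal := fun k hk a ha => hAH k (hKH hk) a ha
      disjoint := hAK
      k0_le := hK0
      two := htwo
      small := fun R hR hc hi r hr => small_bound m (hrange ▸ hR) hc hi hr
      three := fun k hk => (fix_bounds m k (hrange ▸ hk)).1
      seven := fun k hk => (fix_bounds m k (hrange ▸ hk)).2.1
      moves := fun k hk => (fix_bounds m k (hrange ▸ hk)).2.2
      conj_k0 := hconj
      rigid := fun k hk h => hcent k hk fun x hx =>
        commutes_range m (fun y hy => h y (hrange ▸ hy)) x (hrange ▸ hx)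
      nine := hrange ▸ exists_nine m
      card_K0 := by rw [← Nat.card_congr e.toEquiv, GF4.card_psu.1] }

/-- The normalizer is the whole group or meets a conjugate in order divisible by three. -/
theorem eq_top_or_exists {A H K : Subgroup X} (hA : Nat.card A = 2 ^ 20)
    (hH : H = Subgroup.normalizer (A : Set X)) (hAK : A ⊓ K = ⊥) (hHAK : A ⊔ K = H)
    {F : Type*} [Field F] [Fintype F] (hF : Fintype.card F = 4)
    (hK : Nonempty (K ≃* Cfsg.PSU 6 F 2) ∨
      ∃ K₀ : Subgroup K, K₀.Normal ∧ K₀.index = 2 ∧ Nonempty (K₀ ≃* Cfsg.PSU 6 F 2) ∧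
        Subgroup.centralizer (K₀ : Set K) = ⊥)
    (hmin : ∀ B : Subgroup X, B ≤ A → (∀ h ∈ H, ∀ b ∈ B, h * b * h⁻¹ ∈ B) → B = ⊥ ∨ B = A) :
    H = ⊤ ∨ ∃ g : X, g ∉ H ∧ 3 ∣ Nat.card ↥(H ⊓ H.map (MulAut.conj g).toMonoidHom) := by
  by_contra hcon
  rw [not_or, not_exists] at hcon
  obtain ⟨hne, hstrong⟩ := hcon
  obtain ⟨u⟩ := Cfsg.Lib.MinusSix.psu_congr (FiniteField.ringEquivOfCardEq (K := F) (K' := GF4)
    (by rw [hF, GF4.card_eq])) 6 2
  suffices ∃ K0 : Subgroup X, Facts A K K0 by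
    obtain ⟨K0, f⟩ := this
    exact hne (Situation.eq_top (K0 := K0)
      { toFacts := f, hH := hH, hsup := hHAK, strong := fun g hg h3 => hstrong g ⟨hg, h3⟩ })
  rcases hK with ⟨⟨v⟩⟩ | ⟨K₀, hn, hi, ⟨v⟩, hc⟩
  · refine ⟨K, facts_of_model hA hH hAK hHAK hmin le_rfl (u.symm.trans v.symm)
      (fun k hk _ _ h => absurd hk h) (fun k hk x hx => mul_mem (mul_mem hk hx) (inv_mem hk))
      fun k hk h => ?_⟩
    have h1 : u (v ⟨k, hk⟩) = 1 := psu_center_trivial fun q => by
      obtain ⟨⟨x, hx⟩, rfl⟩ := (v.trans u).surjective q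
      show u (v ⟨k, hk⟩) * u (v ⟨x, hx⟩) = u (v ⟨x, hx⟩) * u (v ⟨k, hk⟩)
      rw [← map_mul, ← map_mul, ← map_mul, ← map_mul]
      exact congrArg _ (congrArg _ (Subtype.ext (h x hx)))
    exact congrArg Subtype.val (show (⟨k, hk⟩ : K) = 1 from (v.trans u).injective (by rw [map_one]; exact h1))
  · refine ⟨K₀.map K.subtype, facts_of_model hA hH hAK hHAK hmin (Subgroup.map_subtype_le _)
      ((u.symm.trans v.symm).trans (K₀.equivMapOfInjective K.subtype K.subtype_injective)) ?_ ?_ ?_⟩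
    · intro k hk k' hk' h h'
      refine ⟨⟨k, hk⟩⁻¹ * ⟨k', hk'⟩, (Subgroup.mul_mem_iff_of_index_two hi).2 ⟨fun hm => ?_, fun hm => ?_⟩, rfl⟩
      · exact absurd ⟨⟨k, hk⟩, inv_mem_iff.1 hm, rfl⟩ h
      · exact absurd ⟨⟨k', hk'⟩, hm, rfl⟩ h'
    · rintro k hk _ ⟨x, hx, rfl⟩
      exact ⟨⟨k, hk⟩ * x * ⟨k, hk⟩⁻¹, hn.conj_mem x hx _, rfl⟩
    · intro k hk h
      have : (⟨k, hk⟩ : K) ∈ Subgroup.centralizer (K₀ : Set K) :=
        fun x hx => Subtype.ext (h x ⟨x, hx, rfl⟩).symm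
      rw [hc, Subgroup.mem_bot] at this
      exact congrArg Subtype.val this

end Cfsg.Lib.UnitarySixModule
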