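import Cfsg.Agent.Lib.UnitarySixModule.Lines

/-!
# A basis in which the monomial letters act by known matrices
-/

set_option autoImplicit false
set_option linter.unusedSectionVars false
set_option maxRecDepth 100000

namespace Cfsg.Lib.UnitarySixModule

open Cfsg.Lib.CosetEnum

/-- The generators of the stabiliser of the first line. -/
def stabWord : ℕ → List ℕ
  | 0 => [0] | 1 => [1] | 2 => [3] | 3 => [4] | _ => swapWord

/-- A word in the stabiliser of the first line. -/
def stabExpand (u : List ℕ) : List ℕ := u.flatMap stabWord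

/-- The image of a character under a word of transpositions. -/
def moveWord (w : List ℕ) (c : ℕ) : ℕ := w.foldr (fun g a => col (colL [] moveTable g) a) c

/-- The left side of the relation for a letter, a line and a basis vector. -/
def certLhs (g i : ℕ) : List ℕ :=
  g :: (colL [] piTable (i / 2) ++ List.replicate (i % 2) 7)

/-- The right side of the relation. -/
def certRhs (g i : ℕ) : List ℕ :=
  let x := colL (0, 0, []) (colL [] letterCert g) i
  colL [] piTable x.1 ++ diagWord x.2.1 ++ stabExpand x.2.2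

/-- The code predicted by the relation. -/
def certCode (g i : ℕ) : ℕ :=
  let x := colL (0, 0, []) (colL [] letterCert g) i
  (chi 9 x.2.1 + 1) * 4 ^ x.1

theorem cert_rel : ∀ g : Fin 10, ∀ i : Fin 20, relOk (certLhs g.1 i.1) (certRhs g.1 i.1) = true := by
  decide +kernel

theorem cert_shape : ∀ g : Fin 10, ∀ i : Fin 20,
    (colL (0, 0, []) (colL [] letterCert g.1) i.1).1 < 10 ∧
      certCode g.1 i.1 = col (colL [] monoMats g.1) i.1 := by decide +kernel

theorem pi_ok : (∀ k : Fin 10, ∀ g ∈ colL [] piTable k.1, g < 5) ∧ colL [] piTable 0 = [] ∧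
    (∀ c ∈ orbitChars 0, ∃ k : Fin 10, moveWord (colL [] piTable k.1) 9 = c) ∧ unitOf 9 = 9 ∧
    diagWord 9 = [7] ∧ (∀ g ∈ swapWord, g < 5) := by decide +kernel

theorem stab_ok : (∀ g ∈ [0, 1, 3, 4], col (colL [] moveTable g) 9 = 9 ∧ chi 9 (sigma g 9) = 1) ∧
    moveWord swapWord 9 = 9 ∧ relOk (swapWord ++ swapWord) [] = true ∧
    chi 9 (swapWord.foldr sigma 9) = 2 := by decide +kernel

theorem mono_len : ∀ g : Fin 10, (colL [] monoMats g.1).length = 20 := by decide +kernel

variable {V : Type*} [CommGroup V] (φ : Cfsg.PSU 6 GF4 2 →* MulAut V) (hinvol : ∀ v : V, v * v = 1)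

/-- The action of a word. -/
noncomputable def wact (w : List ℕ) (v : V) : V := φ (pword w) v

theorem wact_append (a b : List ℕ) (v : V) : wact φ (a ++ b) v = wact φ a (wact φ b v) := by
  rw [wact, pword_append, map_mul]; rfl

theorem wact_nil (v : V) : wact φ [] v = v := by rw [wact, pword_nil, map_one]; rfl

theorem wact_rel {a b : List ℕ} (h : relOk a b = true) (v : V) : wact φ a v = wact φ b v := by
  rw [wact, wact, rel_sound h]

theorem wact_diag (t : ℕ) (v : V) : wact φ (diagWord t) v = dact φ t v := rfl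

theorem move_word_pc : ∀ (w : List ℕ), (∀ g ∈ w, g < 5) → ∀ {c : ℕ}, c ∈ allChars → ∀ v : V,
    moveWord w c ∈ allChars ∧ wact φ w (pc φ c v) = pc φ (moveWord w c) (wact φ w v) := by
  intro w
  induction w with
  | nil => intro _ c hc v; exact ⟨hc, by rw [wact_nil, wact_nil]; rfl⟩
  | cons g w ih =>
    intro hw c hc v
    obtain ⟨h1, h2⟩ := ih (fun x hx => hw x (List.mem_cons_of_mem _ hx)) hc v
    have hg : g < 5 := hw g (List.mem_cons_self ..)
    refine ⟨move_mem ⟨g, hg⟩ _ h1, ?_⟩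
    rw [show g :: w = [g] ++ w from rfl, wact_append, wact_append, h2]
    exact pgen_pc φ hg h1 _

theorem gen_dact {g : ℕ} (hg : g < 5) (t : ℕ) (v : V) :
    φ (pgen g) (dact φ t v) = dact φ (sigma g t) (φ (pgen g) v) := by
  rw [dact, dact, ← pgen_conj_diag hg, ← MulAut.mul_apply, ← MulAut.mul_apply, ← map_mul, ← map_mul]
  congr 2
  group

theorem word_dact : ∀ (w : List ℕ), (∀ g ∈ w, g < 5) → ∀ (t : ℕ) (v : V),
    wact φ w (dact φ t v) = dact φ (w.foldr sigma t) (wact φ w v) := by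
  intro w
  induction w with
  | nil => intro _ t v; rw [wact_nil, wact_nil]; rfl
  | cons g w ih =>
    intro hw t v
    rw [show g :: w = [g] ++ w from rfl, wact_append, wact_append,
      ih (fun x hx => hw x (List.mem_cons_of_mem _ hx))]
    exact gen_dact φ (hw g (List.mem_cons_self ..)) _ _

theorem sigma_lt {g : ℕ} (hg : g < 5) {t : ℕ} (ht : t < 81) : sigma g t < 81 := (sigma_ok ⟨g, hg⟩ ⟨t, ht⟩).1

theorem foldr_sigma_lt : ∀ (w : List ℕ), (∀ g ∈ w, g < 5) → ∀ {t : ℕ}, t < 81 → w.foldr sigma t < 81 := by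
  intro w
  induction w with
  | nil => intro _ t ht; exact ht
  | cons g w ih =>
    intro hw t ht
    exact sigma_lt (hw g (List.mem_cons_self ..)) (ih (fun x hx => hw x (List.mem_cons_of_mem _ hx)) ht)

include hinvol in
theorem dact_line {w : V} (hw : w ∈ (pcHom φ 9).range) {t : ℕ} (ht : t < 81) :
    dact φ t w = if chi 9 t = 0 then w else if chi 9 t = 1 then dact φ 9 w else w * dact φ 9 w := by
  obtain ⟨v, rfl⟩ := hw
  change dact φ t (pc φ 9 v) = _
  have h9 : (9 : ℕ) ∈ allChars := by decide +kernel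
  have hdiff : ∀ r, r < 81 → chi 9 t = chi 9 r → dact φ t (pc φ 9 v) = dact φ r (pc φ 9 v) := by
    intro r hr h
    have e : t = addT r (addT (negT r) t) := by
      rw [← addT_assoc, (add_neg_facts ⟨r, hr⟩).2.1, (add_neg_facts ⟨t, ht⟩).2.2.1]
    have hk : chi 9 (addT (negT r) t) = 0 := by
      rw [chi_add, h, ← chi_add, (add_neg_facts ⟨r, hr⟩).1, chi_zero]
    rw [e, dact_add, dact_pc φ (addT_lt _ _) hk]
  have h1 : chi 9 9 = 1 := by decide
  have h2 : chi 9 (addT 9 9) = 2 := by decide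
  have h3 := chi_lt 9 t
  split_ifs with c0 c1
  · exact dact_pc φ ht c0 v
  · exact hdiff 9 (by norm_num) (by rw [c1, h1])
  · rw [hdiff (addT 9 9) (addT_lt _ _) (by rw [h2]; omega)]
    have hrel := pc_three φ hinvol h9 v
    rw [pi_ok.2.2.2.1] at hrel
    exact (mul_eq_one_iff_eq_inv.1 ((mul_comm _ _).trans hrel)).trans (inv_eq_of_mul_eq_one_right (hinvol _))

/-- The code of an element in a basis. -/
noncomputable def ev (b : ℕ → V) (v : ℕ) : V := eval b v

include hinvol in
theorem sys_top (b : ℕ → V) : Sys (⊤ : Subgroup V) b :=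
  ⟨fun x _ y _ => mul_comm x y, fun x _ => hinvol x, fun _ _ => trivial⟩

include hinvol in
theorem exists_mono_basis [Finite V] (hφ : Function.Injective φ) (hcard : Nat.card V = 2 ^ 20) :
    ∃ b : ℕ → V, (∀ x : V, ∃ v, v < 2 ^ 20 ∧ eval b v = x) ∧
      ∀ g, g < 10 → ∀ i, i < 20 → φ (pgen g) (b i) = eval b (col (colL [] monoMats g) i) := by
  obtain ⟨hL, hsum⟩ := decomposition φ hinvol hφ hcard
  set L := (pcHom φ 9).range with hLdef
  have h9 : (9 : ℕ) ∈ allChars := by decide +kernel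
  have hchi : chi 9 9 = 1 := by decide
  have hsix : 9 < 81 := by norm_num
  have hτL : ∀ w ∈ L, dact φ 9 w ∈ L := by
    rintro _ ⟨v, rfl⟩
    refine ⟨dact φ 9 v, ?_⟩
    show pc φ 9 (dact φ 9 v) = φ (pdiag 9) (pc φ 9 v)
    rw [pc, pc, proj, proj, map_prod]
    refine Finset.prod_congr rfl fun r _ => ?_
    split_ifs
    · show dact φ r.1 (dact φ 9 v) = dact φ 9 (dact φ r.1 v)
      rw [← dact_add, ← dact_add]
      congr 1
      simp only [addT]
      congr 1 <;> ring
    · exact (map_one _).symm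
  obtain ⟨w, hwL, hw1⟩ : ∃ w ∈ L, w ≠ 1 := by
    by_contra hcon
    push Not at hcon
    rw [(Subgroup.eq_bot_iff_forall _).2 hcon, Subgroup.card_bot] at hL
    norm_num at hL
  have hfixτ : ∀ u ∈ L, dact φ 9 u = u → u = 1 := by
    rintro _ ⟨v, rfl⟩ e
    change dact φ 9 (pc φ 9 v) = pc φ 9 v at e
    have hrel := pc_three φ hinvol h9 v
    rw [pi_ok.2.2.2.1, dact_add, e, e, hinvol, one_mul] at hrel
    exact hrel
  -- all elements of the line
  have hline : ∀ u ∈ L, ∀ p ∈ L, p ≠ 1 → u = 1 ∨ u = p ∨ u = dact φ 9 p ∨ u = p * dact φ 9 p := by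
    intro u hu p hp hp1
    classical
    have := Fintype.ofFinite L
    have hq : dact φ 9 p ≠ p := fun e => hp1 (hfixτ p hp e)
    have hq1 : dact φ 9 p ≠ 1 := fun e => hp1 ((φ (pdiag 9)).injective (e.trans (map_one _).symm))
    let S : Finset L := {1, ⟨p, hp⟩, ⟨_, hτL p hp⟩, ⟨_, mul_mem hp (hτL p hp)⟩}
    have hS : S.card = 4 := by
      have a1 : p * dact φ 9 p ≠ p := fun e => hq1 (mul_left_cancel (e.trans (mul_one p).symm))
      have a2 : p * dact φ 9 p ≠ dact φ 9 p := fun e => hp1 (mul_right_cancel (e.trans (one_mul _).symm))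
      have a3 : p * dact φ 9 p ≠ 1 := fun e =>
        hq ((mul_eq_one_iff_eq_inv.1 ((mul_comm _ _).trans e)).trans (inv_eq_of_mul_eq_one_right (hinvol p)))
      simp [S, Finset.card_insert_of_notMem, Subtype.ext_iff, Ne.symm hp1, Ne.symm hq1, Ne.symm a3, Ne.symm hq,
        Ne.symm a1, Ne.symm a2]
    have hall : (⟨u, hu⟩ : L) ∈ S := by
      rw [Finset.eq_univ_of_card S (by rw [hS, ← Nat.card_eq_fintype_card, hL])]
      exact Finset.mem_univ _
    simpa [S, Subtype.ext_iff] using hall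
  have hswap5 := pi_ok.2.2.2.2.2
  have hLmove : ∀ s : List ℕ, (∀ g ∈ s, g < 5) → moveWord s 9 = 9 → ∀ u ∈ L, wact φ s u ∈ L := by
    rintro s hs hm _ ⟨v, rfl⟩
    refine ⟨wact φ s v, ?_⟩
    have := (move_word_pc φ s hs h9 v).2
    rw [hm] at this
    exact this.symm
  have hsmall : ∀ g ∈ [0, 1, 3, 4], ∀ u ∈ L, wact φ [g] u = u := by
    intro g hg u hu
    have hg5 : g < 5 := by
      simp only [List.mem_cons, List.not_mem_nil, or_false] at hg
      omega
    rcases eq_or_ne u 1 with rfl | hu1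
    · exact map_one _
    obtain ⟨hm, hc⟩ := stab_ok.1 g hg
    have hJu := hLmove [g] (by simpa using hg5) hm u hu
    have hcomm : ∀ z ∈ L, wact φ [g] (dact φ 9 z) = dact φ 9 (wact φ [g] z) := by
      intro z hz
      rw [show wact φ [g] (dact φ 9 z) = dact φ (sigma g 9) (wact φ [g] z) from gen_dact φ hg5 9 z,
        dact_line φ hinvol (hLmove [g] (by simpa using hg5) hm z hz) (sigma_lt hg5 hsix), hc]
      simp
    have hJJ : wact φ [g] (wact φ [g] u) = u := by
      rw [← wact_append, wact_rel φ (a := [g] ++ [g]) (b := []) (swap_sq ⟨g, hg5⟩), wact_nil]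
    have hne : dact φ 9 (dact φ 9 u) ≠ u := by
      intro e
      have h3 : dact φ (addT (addT 9 9) 9) u = dact φ 9 u := by rw [dact_add, dact_add]; exact congrArg (dact φ 9) e |>.trans rfl
      rw [show addT (addT 9 9) 9 = 0 by decide, dact_zero] at h3
      exact hu1 (hfixτ u hu h3.symm)
    rcases hline _ hJu u hu hu1 with h | h | h | h
    · exact absurd ((φ (pword [g])).injective (h.trans (map_one _).symm)) hu1
    · exact h
    · exfalso
      rw [h, hcomm u hu, h] at hJJ
      exact hne hJJ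
    · exfalso
      have e2 : u * dact φ 9 u = dact φ (addT 9 9) u := by
        rw [dact_line φ hinvol hu (addT_lt 9 9), show chi 9 (addT 9 9) = 2 by decide]
        simp
      have hτ3 : ∀ z : V, dact φ 9 (dact φ 9 (dact φ 9 z)) = z := fun z => by
        rw [← dact_add, ← dact_add, show addT (addT 9 9) 9 = 0 by decide, dact_zero]
      rw [h, e2, dact_add, hcomm _ (hτL u hu), hcomm u hu, h, e2, dact_add, hτ3] at hJJ
      exact hu1 (hfixτ u hu hJJ)
  have hWτ : ∀ z ∈ L, wact φ swapWord (dact φ 9 z) = wact φ swapWord z * dact φ 9 (wact φ swapWord z) := by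
    intro z hz
    rw [word_dact φ swapWord hswap5,
      dact_line φ hinvol (hLmove _ hswap5 stab_ok.2.1 z hz) (foldr_sigma_lt _ hswap5 hsix), stab_ok.2.2.2]
    simp
  obtain ⟨v0, hv0, hv01, hv0W⟩ : ∃ v0 ∈ L, v0 ≠ 1 ∧ wact φ swapWord v0 = v0 := by
    rcases hline _ (hLmove _ hswap5 stab_ok.2.1 w hwL) w hwL hw1 with h | h | h | h
    · exact absurd ((φ (pword swapWord)).injective (h.trans (map_one _).symm)) hw1
    · exact ⟨w, hwL, hw1, h⟩
    · -- the fixed vector is w * τ w
      refine ⟨w * dact φ 9 w, mul_mem hwL (hτL w hwL), ?_, ?_⟩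
      · intro e
        exact hw1 (hfixτ w hwL ((mul_eq_one_iff_eq_inv.1 ((mul_comm _ _).trans e)).trans
          (inv_eq_of_mul_eq_one_right (hinvol w))))
      · have hmul : wact φ swapWord (w * dact φ 9 w) = wact φ swapWord w * wact φ swapWord (dact φ 9 w) := map_mul _ _ _
        rw [hmul, hWτ w hwL, h, ← mul_assoc, hinvol, one_mul]
        have e2 : w * dact φ 9 w = dact φ (addT 9 9) w := by
          rw [dact_line φ hinvol hwL (addT_lt 9 9), show chi 9 (addT 9 9) = 2 by decide]
          simp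
        rw [e2, dact_add]
    · refine ⟨dact φ 9 w, hτL w hwL, fun e => hw1 ((φ (pdiag 9)).injective (e.trans (map_one _).symm)), ?_⟩
      rw [hWτ w hwL, h]
      have e2 : w * dact φ 9 w = dact φ (addT 9 9) w := by
        rw [dact_line φ hinvol hwL (addT_lt 9 9), show chi 9 (addT 9 9) = 2 by decide]
        simp
      conv_lhs => arg 2; rw [e2, ← dact_add, show addT 9 (addT 9 9) = 0 by decide, dact_zero]
      rw [mul_comm w (dact φ 9 w), mul_assoc, hinvol, mul_one]
  have hstab : ∀ (u : List ℕ), wact φ (stabExpand u) v0 = v0 := by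
    intro u
    induction u with
    | nil => exact wact_nil φ v0
    | cons i u ih =>
      rw [stabExpand, List.flatMap_cons, wact_append]
      rw [show u.flatMap stabWord = stabExpand u from rfl, ih]
      unfold stabWord
      split
      · exact hsmall 0 (by simp) v0 hv0
      · exact hsmall 1 (by simp) v0 hv0
      · exact hsmall 3 (by simp) v0 hv0
      · exact hsmall 4 (by simp) v0 hv0
      · exact hv0W
  let b : ℕ → V := fun i => wact φ (colL [] piTable (i / 2) ++ List.replicate (i % 2) 7) v0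
  have hbeven : ∀ k, b (2 * k) = wact φ (colL [] piTable k) v0 := fun k => by
    show wact φ (colL [] piTable ((2 * k) / 2) ++ List.replicate ((2 * k) % 2) 7) v0 = _
    rw [show (2 * k) / 2 = k by omega, show (2 * k) % 2 = 0 by omega, List.replicate_zero, List.append_nil]
  have hbodd : ∀ k, b (2 * k + 1) = wact φ (colL [] piTable k) (dact φ 9 v0) := fun k => by
    show wact φ (colL [] piTable ((2 * k + 1) / 2) ++ List.replicate ((2 * k + 1) % 2) 7) v0 = _
    rw [show (2 * k + 1) / 2 = k by omega, show (2 * k + 1) % 2 = 1 by omega,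
      show List.replicate 1 7 = diagWord 9 by decide, wact_append, wact_diag]
  have s := sys_top hinvol b
  have h0 : ∀ k, k < 10 → eval b (4 ^ k) = wact φ (colL [] piTable k) v0 := fun k hk => by
    rw [show (4 : ℕ) ^ k = 2 ^ (2 * k) by rw [pow_mul]; norm_num, eval_two_pow s (by omega), hbeven]
  have h1 : ∀ k, k < 10 → eval b (2 * 4 ^ k) = wact φ (colL [] piTable k) (dact φ 9 v0) := fun k hk => by
    rw [show 2 * (4 : ℕ) ^ k = 2 ^ (2 * k + 1) by rw [pow_succ, pow_mul]; ring, eval_two_pow s (by omega), hbodd]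
  have h2 : ∀ k, k < 10 → eval b (3 * 4 ^ k) = wact φ (colL [] piTable k) (v0 * dact φ 9 v0) := fun k hk => by
    have e : 3 * (4 : ℕ) ^ k = Nat.xor (4 ^ k) (2 * 4 ^ k) := by
      have : ∀ k : Fin 10, 3 * (4 : ℕ) ^ k.1 = Nat.xor (4 ^ k.1) (2 * 4 ^ k.1) := by decide +kernel
      exact this ⟨k, hk⟩
    rw [e, eval_xor s, h0 k hk, h1 k hk]
    exact (map_mul _ _ _).symm
  refine ⟨b, fun x => ?_, fun g hg i hi => ?_⟩
  · let S : Set V := {x | ∃ v, v < 2 ^ 20 ∧ eval b v = x}
    show x ∈ S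
    have hone : (1 : V) ∈ S := ⟨0, by norm_num, eval_zero s⟩
    have hmul : ∀ p q, p ∈ S → q ∈ S → p * q ∈ S := by
      rintro _ _ ⟨p, hp, rfl⟩ ⟨q, hq, rfl⟩
      exact ⟨Nat.xor p q, Nat.xor_lt_two_pow hp hq, eval_xor s p q⟩
    rw [← hsum x]
    refine List.prod_induction (· ∈ S) hmul hone ?_
    intro y hy
    obtain ⟨c, hc, rfl⟩ := List.mem_map.1 hy
    obtain ⟨k, hk⟩ := pi_ok.2.2.1 c hc
    have hsurj := (φ (pword (colL [] piTable k.1))).surjective x
    obtain ⟨y0, hy0⟩ := hsurj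
    have h3 := (move_word_pc φ (colL [] piTable k.1) (pi_ok.1 k) h9 y0).2
    rw [hk, show wact φ (colL [] piTable k.1) y0 = x from hy0] at h3
    rw [← h3]
    have hlt : ∀ m, m ≤ 3 → m * 4 ^ k.1 < 2 ^ 20 := fun m hm => by
      have h4 : 4 ^ k.1 ≤ 4 ^ 9 := Nat.pow_le_pow_right (by norm_num) (by omega)
      have h5 := Nat.mul_le_mul hm h4
      omega
    rcases hline (pc φ 9 y0) ⟨y0, rfl⟩ v0 hv0 hv01 with h | h | h | h <;> rw [h]
    · show φ _ 1 ∈ S
      rw [map_one]
      exact hone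
    · exact ⟨4 ^ k.1, by simpa using hlt 1 (by norm_num), h0 k.1 k.2⟩
    · exact ⟨2 * 4 ^ k.1, hlt 2 (by norm_num), h1 k.1 k.2⟩
    · exact ⟨3 * 4 ^ k.1, hlt 3 le_rfl, h2 k.1 k.2⟩
  · have hrel := cert_rel ⟨g, hg⟩ ⟨i, hi⟩
    obtain ⟨hk10, hcode⟩ := cert_shape ⟨g, hg⟩ ⟨i, hi⟩
    dsimp only at hrel hk10 hcode
    have hlhs : φ (pgen g) (b i) = wact φ (certLhs g i) v0 := by
      rw [certLhs, show g :: (colL [] piTable (i / 2) ++ List.replicate (i % 2) 7) =
        [g] ++ (colL [] piTable (i / 2) ++ List.replicate (i % 2) 7) from rfl, wact_append φ [g]]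
      rfl
    rw [hlhs, wact_rel φ hrel, ← hcode]
    set x := colL (0, 0, []) (colL [] letterCert g) i with hx
    show wact φ (colL [] piTable x.1 ++ diagWord x.2.1 ++ stabExpand x.2.2) v0 =
      eval b ((chi 9 x.2.1 + 1) * 4 ^ x.1)
    rw [wact_append, wact_append, hstab, wact_diag]
    have hlt81 : ∀ g : Fin 10, ∀ i : Fin 20,
        (colL (0, 0, []) (colL [] letterCert g.1) i.1).2.1 < 81 := by decide +kernel
    have hlt : x.2.1 < 81 := hlt81 ⟨g, hg⟩ ⟨i, hi⟩
    rw [dact_line φ hinvol hv0 hlt]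
    have h3 := chi_lt 9 x.2.1
    split_ifs with c0 c1
    · rw [c0, zero_add, one_mul, h0 _ hk10]
    · rw [c1, h1 _ hk10]
    · rw [show chi 9 x.2.1 = 2 by omega, h2 _ hk10]

end Cfsg.Lib.UnitarySixModule
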