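import Cfsg.Agent.Lib.UnitarySixModule.Diag

/-!
# The weight projections of the diagonal subgroup on a module over the field with two elements

For a character `χ` of the diagonal group `E` the product of `t v` over the `t` with `χ t ≠ 0` is the projection
onto the part of the module on which `E` acts through `± χ`.
-/

set_option autoImplicit false
set_option linter.unusedSectionVars false
set_option maxRecDepth 100000

namespace Cfsg.Lib.UnitarySixModule

open Cfsg.Lib.CosetEnum

theorem beq_eq (a b : ℕ) : Nat.beq a b = decide (a = b) := by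
  rw [Bool.eq_iff_iff]
  simp

/-- A multiple of a fixed element with value one of a character. -/
def unitOf (c : ℕ) : ℕ :=
  if dig c 0 = 0 then if dig c 1 = 0 then if dig c 2 = 0 then 27 else 9 else 3 else 1

/-- The characters of an orbit. -/
def orbitChars (o : ℕ) : List ℕ := (colL [] orbitPaths o).map Prod.fst

/-- All forty characters. -/
def allChars : List ℕ := orbitChars 0 ++ orbitChars 1 ++ orbitChars 2

/-- The number of indices in a set with a given value of a character. -/
def countVal (c : ℕ) (S : ℕ → Bool) (i : ℕ) : ℕ :=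
  ((List.range 81).filter fun t => S t && Nat.beq (chi c t) i).length

/-- The support of a projection. -/
def supp (c : ℕ) : ℕ → Bool := fun t => !Nat.beq (chi c t) 0

/-- The whole group. -/
def suppAll : ℕ → Bool := fun _ => true

/-- The parities needed for the orthogonality of two projections. -/
def orthOk (c d : ℕ) : Bool :=
  Nat.beq (countVal c (supp d) 0 % 2) (countVal c (supp d) 1 % 2) &&
    Nat.beq (countVal c (supp d) 0 % 2) (countVal c (supp d) 2 % 2)

theorem unit_ok : ∀ c ∈ allChars, chi c (unitOf c) = 1 ∧ unitOf c < 81 := by decide +kernel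

theorem orth_ok : ∀ o : Fin 3, ∀ c ∈ orbitChars o.1, ∀ d ∈ orbitChars o.1, c = d ∨ orthOk c d = true := by
  decide +kernel

theorem self_ok : ∀ c ∈ allChars, countVal c (supp c) 0 % 2 = 0 ∧ countVal c (supp c) 1 % 2 = 1 ∧
    countVal c (supp c) 2 % 2 = 1 ∧ countVal c suppAll 0 % 2 = countVal c suppAll 1 % 2 ∧
    countVal c suppAll 0 % 2 = countVal c suppAll 2 % 2 := by decide +kernel

theorem sum_ok : ∀ t : Fin 81,
    (1 + (allChars.filter fun c => supp c t.1).length) % 2 = if t.1 = 0 then 1 else 0 := by decide +kernel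

theorem sigma_ok : ∀ g : Fin 5, ∀ t : Fin 81, sigma g.1 t.1 < 81 ∧ sigma g.1 (sigma g.1 t.1) = t.1 := by
  decide +kernel

theorem move_ok : ∀ g : Fin 5, ∀ c ∈ allChars,
    ((List.range 81).all fun t => supp c (sigma g.1 t) == supp (col (colL [] moveTable g.1) c) t) = true := by
  decide +kernel

variable {V : Type*} [CommGroup V] (φ : Cfsg.PSU 6 GF4 2 →* MulAut V) (hinvol : ∀ v : V, v * v = 1)

/-- The action of a diagonal element. -/
noncomputable def dact (t : ℕ) (v : V) : V := φ (pdiag t) v

/-- The product over a set of diagonal elements. -/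
noncomputable def proj (S : ℕ → Bool) (v : V) : V := ∏ t : Fin 81, if S t.1 then dact φ t.1 v else 1

theorem dact_add (m n : ℕ) (v : V) : dact φ (addT m n) v = dact φ m (dact φ n v) := by
  rw [dact, pdiag_add, map_mul]; rfl

theorem dact_zero (v : V) : dact φ 0 v = v := by
  rw [dact, pdiag_zero, map_one]; rfl

theorem dact_mul (t : ℕ) (v w : V) : dact φ t (v * w) = dact φ t v * dact φ t w := map_mul _ _ _

theorem dact_one (t : ℕ) : dact φ t (1 : V) = 1 := map_one _

theorem proj_mul (S : ℕ → Bool) (v w : V) : proj φ S (v * w) = proj φ S v * proj φ S w := by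
  rw [proj, proj, proj, ← Finset.prod_mul_distrib]
  exact Finset.prod_congr rfl fun t _ => by split_ifs <;> simp [dact_mul]

theorem proj_one (S : ℕ → Bool) : proj φ S (1 : V) = 1 :=
  Finset.prod_eq_one fun t _ => by split_ifs <;> simp [dact_one]

include hinvol in
theorem pow_parity (v : V) (n : ℕ) : v ^ n = v ^ (n % 2) := by
  conv_lhs => rw [← Nat.div_add_mod n 2, pow_add, pow_mul, pow_two, hinvol, one_pow, one_mul]

theorem addT_lt (m n : ℕ) : addT m n < 81 := undig_lt _ _ _ _

theorem negT_lt (n : ℕ) : negT n < 81 := undig_lt _ _ _ _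

theorem add_neg_facts : ∀ m : Fin 81, addT (negT m.1) m.1 = 0 ∧ addT m.1 (negT m.1) = 0 ∧
    addT 0 m.1 = m.1 ∧ addT m.1 0 = m.1 := by decide +kernel

theorem addT_assoc (a b c : ℕ) : addT (addT a b) c = addT a (addT b c) := by
  obtain ⟨e0, e1, e2, e3⟩ := dig_undig (dig a 0 + dig b 0) (dig a 1 + dig b 1) (dig a 2 + dig b 2) (dig a 3 + dig b 3)
  obtain ⟨f0, f1, f2, f3⟩ := dig_undig (dig b 0 + dig c 0) (dig b 1 + dig c 1) (dig b 2 + dig c 2) (dig b 3 + dig c 3)
  simp only [addT, e0, e1, e2, e3, f0, f1, f2, f3]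
  simp only [undig]
  omega

/-- Translation of the indices. -/
def shiftEquiv (u : Fin 81) : Fin 81 ≃ Fin 81 where
  toFun t := ⟨addT u.1 t.1, addT_lt _ _⟩
  invFun t := ⟨addT (negT u.1) t.1, addT_lt _ _⟩
  left_inv t := Fin.ext (by
    show addT (negT u.1) (addT u.1 t.1) = t.1
    rw [← addT_assoc, (add_neg_facts u).1, (add_neg_facts t).2.2.1])
  right_inv t := Fin.ext (by
    show addT u.1 (addT (negT u.1) t.1) = t.1
    rw [← addT_assoc, (add_neg_facts u).2.1, (add_neg_facts t).2.2.1])

theorem chi_zero (c : ℕ) : chi c 0 = 0 := by simp [chi, dig]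

/-- A translate of a projection. -/
theorem dact_proj (u : Fin 81) (S : ℕ → Bool) (v : V) :
    dact φ u.1 (proj φ S v) = ∏ t : Fin 81, if S (addT (negT u.1) t.1) then dact φ t.1 v else 1 := by
  rw [proj, dact, map_prod]
  refine Fintype.prod_equiv (shiftEquiv u) _ _ fun t => ?_
  show φ (pdiag u.1) (if S t.1 then dact φ t.1 v else 1) =
    if S (addT (negT u.1) (addT u.1 t.1)) then dact φ (addT u.1 t.1) v else 1
  rw [← addT_assoc, (add_neg_facts u).1, (add_neg_facts t).2.2.1]
  split_ifs with h
  · rw [dact_add]; rfl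
  · exact map_one _

/-- The projection onto a character. -/
noncomputable def pc (c : ℕ) (v : V) : V := proj φ (supp c) v

theorem dact_pc {c u : ℕ} (hu : u < 81) (h0 : chi c u = 0) (v : V) : dact φ u (pc φ c v) = pc φ c v := by
  rw [pc, dact_proj φ ⟨u, hu⟩, proj]
  refine Finset.prod_congr rfl fun t _ => ?_
  have h1 := chi_add c (negT u) t.1
  have h2 := chi_add c (negT u) u
  rw [(add_neg_facts ⟨u, hu⟩).1, h0, chi_zero, Nat.add_zero, Nat.mod_eq_of_lt (chi_lt _ _)] at h2
  rw [← h2, Nat.zero_add, Nat.mod_eq_of_lt (chi_lt _ _)] at h1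
  simp only [supp, h1]
  rfl

include hinvol in
theorem pc_three {c : ℕ} (hc : c ∈ allChars) (v : V) :
    pc φ c v * dact φ (unitOf c) (pc φ c v) * dact φ (addT (unitOf c) (unitOf c)) (pc φ c v) = 1 := by
  obtain ⟨h1, hlt⟩ := unit_ok c hc
  have e2 := dact_proj φ ⟨addT (unitOf c) (unitOf c), addT_lt _ _⟩ (supp c) v
  have e1 := dact_proj φ ⟨unitOf c, hlt⟩ (supp c) v
  dsimp only at e1 e2
  rw [pc, e1, e2, proj, ← Finset.prod_mul_distrib, ← Finset.prod_mul_distrib]
  refine Finset.prod_eq_one fun t _ => ?_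
  have hu : chi c (addT (unitOf c) (unitOf c)) = 2 := by rw [chi_add, h1]
  have hn : ∀ u : ℕ, u < 81 → (chi c (negT u) + chi c u) % 3 = 0 := fun u hu => by
    rw [← chi_add, (add_neg_facts ⟨u, hu⟩).1, chi_zero]
  have n1 := hn _ hlt
  have n2 := hn _ (addT_lt (unitOf c) (unitOf c))
  rw [h1] at n1
  rw [hu] at n2
  have a1 : chi c (negT (unitOf c)) = 2 := by have := chi_lt c (negT (unitOf c)); omega
  have a2 : chi c (negT (addT (unitOf c) (unitOf c))) = 1 := by
    have := chi_lt c (negT (addT (unitOf c) (unitOf c))); omega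
  simp only [supp, chi_add, a1, a2]
  have := chi_lt c t.1
  rcases (show chi c t.1 = 0 ∨ chi c t.1 = 1 ∨ chi c t.1 = 2 by omega) with h | h | h <;> simp [h, hinvol, beq_eq]

include hinvol in
/-- The product over any set on the image of a projection depends on three counts. -/
theorem proj_pc {c : ℕ} (hc : c ∈ allChars) (S : ℕ → Bool) (v : V) :
    proj φ S (pc φ c v) = pc φ c v ^ countVal c S 0 * dact φ (unitOf c) (pc φ c v) ^ countVal c S 1 *
      dact φ (addT (unitOf c) (unitOf c)) (pc φ c v) ^ countVal c S 2 := by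
  obtain ⟨h1, hlt⟩ := unit_ok c hc
  set w := pc φ c v with hw
  have hu : chi c (addT (unitOf c) (unitOf c)) = 2 := by rw [chi_add, h1]
  have hrep : ∀ t r : Fin 81, chi c t.1 = chi c r.1 → dact φ t.1 w = dact φ r.1 w := by
    intro t r h
    have e : t.1 = addT r.1 (addT (negT r.1) t.1) := by
      rw [← addT_assoc, (add_neg_facts r).2.1, (add_neg_facts t).2.2.1]
    have hk : chi c (addT (negT r.1) t.1) = 0 := by
      rw [chi_add, h, ← chi_add, (add_neg_facts r).1, chi_zero]
    rw [e, dact_add, hw, dact_pc φ (addT_lt _ _) hk]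
  have hval : ∀ t : Fin 81, dact φ t.1 w = (if chi c t.1 = 0 then w else 1) *
      (if chi c t.1 = 1 then dact φ (unitOf c) w else 1) *
      (if chi c t.1 = 2 then dact φ (addT (unitOf c) (unitOf c)) w else 1) := by
    intro t
    have h3 := chi_lt c t.1
    rcases (show chi c t.1 = 0 ∨ chi c t.1 = 1 ∨ chi c t.1 = 2 by omega) with h | h | h
    · rw [hw, dact_pc φ t.2 h]; simp [h]
    · rw [hrep t ⟨unitOf c, hlt⟩ (by rw [h, h1])]; simp [h]
    · rw [hrep t ⟨addT (unitOf c) (unitOf c), addT_lt _ _⟩ (by rw [h, hu])]; simp [h]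
  have hcount : ∀ (x : V) (i : ℕ),
      (∏ t : Fin 81, if S t.1 then (if chi c t.1 = i then x else 1) else 1) = x ^ countVal c S i := by
    intro x i
    rw [show (∏ t : Fin 81, if S t.1 then (if chi c t.1 = i then x else 1) else 1) =
      ∏ t ∈ Finset.range 81, if (S t && Nat.beq (chi c t) i) = true then x else 1 from by
        rw [← Fin.prod_univ_eq_prod_range (fun t => if (S t && Nat.beq (chi c t) i) = true then x else 1)]
        refine Finset.prod_congr rfl fun t _ => ?_
        by_cases hS : S t.1 = true <;> by_cases hi : chi c t.1 = i <;>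
          simp [hS, hi]]
    rw [← Finset.prod_filter, Finset.prod_const]
    congr 1
    rw [countVal, Finset.card_def, Finset.filter_val, Finset.range_val, Multiset.range, Multiset.filter_coe,
      Multiset.coe_card]
    simp [beq_eq]
  rw [proj, ← hcount w 0, ← hcount _ 1, ← hcount _ 2, ← Finset.prod_mul_distrib, ← Finset.prod_mul_distrib]
  refine Finset.prod_congr rfl fun t _ => ?_
  by_cases hS : S t.1 = true
  · simp only [hS, if_true]; exact hval t
  · simp [hS]

include hinvol in
theorem proj_pc_one {c : ℕ} (hc : c ∈ allChars) (S : ℕ → Bool) (v : V)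
    (h1 : countVal c S 0 % 2 = countVal c S 1 % 2) (h2 : countVal c S 0 % 2 = countVal c S 2 % 2) :
    proj φ S (pc φ c v) = 1 := by
  rw [proj_pc φ hinvol hc, pow_parity hinvol, pow_parity hinvol (dact φ (unitOf c) _),
    pow_parity hinvol (dact φ (addT _ _) _), ← h1, ← h2, ← mul_pow, ← mul_pow, pc_three φ hinvol hc, one_pow]

include hinvol in
theorem pc_pc {c : ℕ} (hc : c ∈ allChars) (v : V) : pc φ c (pc φ c v) = pc φ c v := by
  obtain ⟨h0, h1, h2, -⟩ := self_ok c hc
  rw [show pc φ c (pc φ c v) = proj φ (supp c) (pc φ c v) from rfl, proj_pc φ hinvol hc, pow_parity hinvol,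
    pow_parity hinvol (dact φ (unitOf c) _), pow_parity hinvol (dact φ (addT _ _) _), h0, h1, h2, pow_zero,
    pow_one, pow_one, one_mul]
  have h := pc_three φ hinvol hc v
  rw [mul_assoc] at h
  exact ((mul_eq_one_iff_eq_inv.1 h).trans (inv_eq_of_mul_eq_one_right (hinvol _))).symm

theorem orbit_sub {o : Fin 3} {c : ℕ} (hc : c ∈ orbitChars o.1) : c ∈ allChars := by
  simp only [allChars, List.mem_append]
  fin_cases o
  · exact Or.inl (Or.inl hc)
  · exact Or.inl (Or.inr hc)
  · exact Or.inr hc

include hinvol in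
theorem pc_orth {o : Fin 3} {c d : ℕ} (hc : c ∈ orbitChars o.1) (hd : d ∈ orbitChars o.1) (hne : c ≠ d) (v : V) :
    pc φ d (pc φ c v) = 1 := by
  have h := (orth_ok o c hc d hd).resolve_left hne
  rw [orthOk, Bool.and_eq_true] at h
  exact proj_pc_one φ hinvol (orbit_sub hc) (supp d) v (Nat.eq_of_beq_eq_true h.1) (Nat.eq_of_beq_eq_true h.2)

include hinvol in
theorem total (v : V) : proj φ suppAll v * (allChars.map fun c => pc φ c v).prod = v := by
  have key : ∀ L : List ℕ, (L.map fun c => pc φ c v).prod =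
      ∏ t : Fin 81, dact φ t.1 v ^ (L.filter fun c => supp c t.1).length := by
    intro L
    induction L with
    | nil => simp
    | cons c L ih =>
      rw [List.map_cons, List.prod_cons, ih, pc, proj, ← Finset.prod_mul_distrib]
      refine Finset.prod_congr rfl fun t _ => ?_
      by_cases h : supp c t.1 = true
      · rw [if_pos h, List.filter_cons_of_pos (p := fun c => supp c t.1) h, List.length_cons, pow_succ']
      · rw [if_neg h, List.filter_cons_of_neg (p := fun c => supp c t.1) h, one_mul]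
  rw [key, proj, ← Finset.prod_mul_distrib]
  calc (∏ t : Fin 81, (if suppAll t.1 = true then dact φ t.1 v else 1) *
        dact φ t.1 v ^ (allChars.filter fun c => supp c t.1).length)
      = ∏ t : Fin 81, dact φ t.1 v ^ (if t.1 = 0 then 1 else 0) := by
        refine Finset.prod_congr rfl fun t _ => ?_
        rw [if_pos (show suppAll t.1 = true from rfl), ← pow_succ', pow_parity hinvol, add_comm _ 1, sum_ok t]
    _ = v := by
        rw [Fintype.prod_eq_single (0 : Fin 81) fun t ht => by
          rw [if_neg (show ¬ (t.1 = 0) from fun h => ht (Fin.ext h)), pow_zero]]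
        simp [dact_zero]

theorem move_mem : ∀ g : Fin 5, ∀ c ∈ allChars, col (colL [] moveTable g.1) c ∈ allChars := by decide +kernel

theorem pgen_pc {g : ℕ} (hg : g < 5) {c : ℕ} (hc : c ∈ allChars) (v : V) :
    φ (pgen g) (pc φ c v) = pc φ (col (colL [] moveTable g) c) (φ (pgen g) v) := by
  rw [pc, pc, proj, proj, map_prod]
  have hm := move_ok ⟨g, hg⟩ c hc
  rw [List.all_eq_true] at hm
  let e : Fin 81 ≃ Fin 81 :=
    { toFun := fun t => ⟨sigma g t.1, (sigma_ok ⟨g, hg⟩ t).1⟩
      invFun := fun t => ⟨sigma g t.1, (sigma_ok ⟨g, hg⟩ t).1⟩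
      left_inv := fun t => Fin.ext (sigma_ok ⟨g, hg⟩ t).2
      right_inv := fun t => Fin.ext (sigma_ok ⟨g, hg⟩ t).2 }
  refine Fintype.prod_equiv e _ _ fun t => ?_
  show φ (pgen g) (if supp c t.1 then dact φ t.1 v else 1) =
    if supp (col (colL [] moveTable g) c) (sigma g t.1) then dact φ (sigma g t.1) (φ (pgen g) v) else 1
  have h1 := eq_of_beq (hm (sigma g t.1) (List.mem_range.2 (sigma_ok ⟨g, hg⟩ t).1))
  rw [(sigma_ok ⟨g, hg⟩ t).2] at h1
  rw [← h1]
  split_ifs with h
  · rw [dact, dact, ← MulAut.mul_apply, ← MulAut.mul_apply, ← map_mul, ← map_mul, ← pgen_conj_diag hg]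
    congr 2
    group
  · exact map_one _

end Cfsg.Lib.UnitarySixModule
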