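import Cfsg.Agent.Lib.UnitarySixModule.Closure

/-!
# The dihedral argument modulo a central part

At a step of the induction either the centraliser of `B` lies in the normalizer or its intersection with the
normalizer is transitive on the non-trivial elements of `A / B`.
-/

set_option autoImplicit false
set_option linter.unusedSectionVars false

namespace Cfsg.Lib.UnitarySixModule

variable {X : Type*} [Group X]

/-- In any group two involutions are conjugate or commute with an involution that is moved to a conjugate of one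
of them by the first. -/
theorem dihedral_cases {Q : Type*} [Group Q] [Finite Q] {u v : Q} (hu : u * u = 1) (hv : v * v = 1) :
    (∃ w : Q, w * v * w⁻¹ = u) ∨
      ∃ c : Q, c ≠ 1 ∧ Commute u c ∧ Commute v c ∧
        ((∃ w : Q, w * u * w⁻¹ = u * c) ∨ ∃ w : Q, w * v * w⁻¹ = u * c) := by
  set t := u * v with ht
  have hu' : u⁻¹ = u := inv_eq_of_mul_eq_one_right hu
  have hv' : v⁻¹ = v := inv_eq_of_mul_eq_one_right hv
  have hut : u * t = v := by rw [ht, ← mul_assoc, hu, one_mul]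
  have hinv : u * t * u⁻¹ = t⁻¹ := by rw [hut, hu', ht, mul_inv_rev, hu', hv']
  have hinv' : ∀ j : ℕ, u * t ^ j * u⁻¹ = (t⁻¹) ^ j := fun j => by rw [← conj_pow, hinv]
  have hmove : ∀ j : ℕ, (t⁻¹) ^ j * u = u * t ^ j := fun j => by
    rw [← hinv' j, inv_mul_cancel_right]
  rcases Nat.even_or_odd' (orderOf t) with ⟨m, hm | hm⟩
  · refine Or.inr ⟨t ^ m, fun h => ?_, ?_, ?_, ?_⟩
    · have h1 := Nat.le_of_dvd ?_ (orderOf_dvd_of_pow_eq_one h)
      · have := orderOf_pos t; omega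
      · have := orderOf_pos t; omega
    · have hc2 : (t⁻¹) ^ m = t ^ m := by
        rw [inv_pow, inv_eq_iff_mul_eq_one, ← pow_add, show m + m = orderOf t by omega, pow_orderOf_eq_one]
      show u * t ^ m = t ^ m * u
      rw [← hmove, hc2]
    · have hc2 : (t⁻¹) ^ m = t ^ m := by
        rw [inv_pow, inv_eq_iff_mul_eq_one, ← pow_add, show m + m = orderOf t by omega, pow_orderOf_eq_one]
      have h1 : Commute u (t ^ m) := by
        show u * t ^ m = t ^ m * u
        rw [← hmove, hc2]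
      rw [← hut]
      exact h1.mul_left ((Commute.refl t).pow_right m)
    · have key : ∀ j : ℕ, (t⁻¹) ^ j * u * ((t⁻¹) ^ j)⁻¹ = u * t ^ (2 * j) := fun j => by
        rw [hmove, inv_pow, inv_inv, mul_assoc, ← pow_add, two_mul]
      rcases Nat.even_or_odd' m with ⟨j, hj | hj⟩
      · exact Or.inl ⟨(t⁻¹) ^ j, by rw [key, hj]⟩
      · refine Or.inr ⟨(t⁻¹) ^ j, ?_⟩
        rw [hj, pow_succ, ← mul_assoc, ← key]
        have hcomm : Commute t (((t⁻¹) ^ j)⁻¹) := by
          rw [inv_pow, inv_inv]; exact (Commute.refl t).pow_right j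
        calc (t⁻¹) ^ j * v * ((t⁻¹) ^ j)⁻¹ = (t⁻¹) ^ j * u * (t * ((t⁻¹) ^ j)⁻¹) := by rw [← hut]; group
          _ = (t⁻¹) ^ j * u * (((t⁻¹) ^ j)⁻¹ * t) := by rw [hcomm.eq]
          _ = (t⁻¹) ^ j * u * ((t⁻¹) ^ j)⁻¹ * t := by group
  · refine Or.inl ⟨t ^ (m + 1), ?_⟩
    have hvt : v * (t ^ (m + 1))⁻¹ = t ^ (m + 1) * v := by
      have h1 : v * t * v⁻¹ = t⁻¹ := by
        rw [ht, mul_inv_rev, hu', hv', show v * (u * v) * v = v * u * (v * v) by group, hv, mul_one]
      have h2 : v * t ^ (m + 1) * v⁻¹ = (t⁻¹) ^ (m + 1) := by rw [← conj_pow, h1]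
      rw [← inv_pow, ← h2, hv', show v * (v * t ^ (m + 1) * v) = (v * v) * (t ^ (m + 1) * v) by group,
        hv, one_mul]
    rw [mul_assoc, hvt, ← mul_assoc, ← pow_add, show m + 1 + (m + 1) = orderOf t + 1 by omega,
      pow_succ, pow_orderOf_eq_one, one_mul, ht, mul_assoc, hv, mul_one]

namespace Step

variable [Finite X] {A K K0 H B : Subgroup X} (t : Step A K K0 H B)
include t

theorem card_A_le_fix {k : X} (hk : k ∈ K) (hkk : k * k = 1) :
    Nat.card A ≤ Nat.card ↥(A ⊓ Subgroup.centralizer ({k} : Set X)) *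
      Nat.card ↥(A ⊓ Subgroup.centralizer ({k} : Set X)) := by
  have hk' : k⁻¹ = k := inv_eq_of_mul_eq_one_right hkk
  let ψ : ↥A →* ↥A :=
    { toFun := fun z => ⟨(z : X) * (k * z * k⁻¹), mul_mem z.2 (t.normal k hk _ z.2)⟩
      map_one' := Subtype.ext (by simp)
      map_mul' := by
        rintro ⟨u, hu⟩ ⟨v, hv⟩
        refine Subtype.ext ?_
        show u * v * (k * (u * v) * k⁻¹) = u * (k * u * k⁻¹) * (v * (k * v * k⁻¹))
        calc u * v * (k * (u * v) * k⁻¹) = u * (v * (k * u * k⁻¹)) * (k * v * k⁻¹) := by group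
          _ = u * ((k * u * k⁻¹) * v) * (k * v * k⁻¹) := by rw [t.comm v hv _ (t.normal k hk u hu)]
          _ = _ := by group }
  have hrange : ψ.range ≤ ψ.ker := by
    rintro _ ⟨z, rfl⟩
    refine MonoidHom.mem_ker.2 (Subtype.ext ?_)
    set w := k * (z : X) * k⁻¹ with hw
    show (z : X) * w * (k * ((z : X) * w) * k⁻¹) = 1
    have hkw : k * ((z : X) * w) * k⁻¹ = w * z := by
      rw [hw, hk', show k * ((z : X) * (k * z * k)) * k = (k * z * k) * z * (k * k) by group, hkk, mul_one]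
    have hwA : w ∈ A := t.normal k hk _ z.2
    rw [hkw, show (z : X) * w * (w * z) = z * (w * w) * z by group, t.invol w hwA, mul_one, t.invol _ z.2]
  have h1 := Subgroup.card_mul_index ψ.ker
  rw [Subgroup.index_ker] at h1
  have h2 : Nat.card ψ.ker ≤ Nat.card ↥(A ⊓ Subgroup.centralizer ({k} : Set X)) := by
    refine Nat.card_le_card_of_injective
      (fun z => (⟨(z.1 : X), z.1.2, Subgroup.mem_centralizer_singleton_iff.2 ?_⟩ :
        ↥(A ⊓ Subgroup.centralizer ({k} : Set X)))) ?_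
    · have := congrArg Subtype.val (MonoidHom.mem_ker.1 z.2)
      change (z.1 : X) * (k * z.1 * k⁻¹) = 1 at this
      have h3 : k * (z.1 : X) * k⁻¹ = z.1 := by
        rw [← t.toCtx.inv_eq z.1.2]
        exact eq_inv_of_mul_eq_one_right (by simpa [t.toCtx.inv_eq z.1.2] using this)
      exact (mul_inv_eq_iff_eq_mul.1 h3).symm
    · intro p q hpq
      exact Subtype.ext (Subtype.ext (congrArg (fun z : ↥(A ⊓ Subgroup.centralizer ({k} : Set X)) => (z : X)) hpq :))
  rw [← h1]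
  exact Nat.mul_le_mul h2 ((Subgroup.card_le_of_le hrange).trans h2)

theorem card_inf_map (g : X) :
    Nat.card ↥(A ⊓ H.map (MulAut.conj g).toMonoidHom) =
      Nat.card ↥(A.map (MulAut.conj g⁻¹).toMonoidHom ⊓ H) := by
  have e : (A ⊓ H.map (MulAut.conj g).toMonoidHom).map (MulAut.conj g⁻¹).toMonoidHom =
      A.map (MulAut.conj g⁻¹).toMonoidHom ⊓ H := by
    rw [Subgroup.map_inf _ _ _ (MulAut.conj g⁻¹).injective, Subgroup.map_map]
    congr 1
    ext z
    simp [Subgroup.mem_map, mul_assoc]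
  rw [← e]
  exact Nat.card_congr (Subgroup.equivMapOfInjective _ _ (MulAut.conj g⁻¹).injective).toEquiv

/-- Strong closure modulo `B`. -/
theorem mem_A_of_conj {g a : X} (hg : g ∈ Subgroup.centralizer (B : Set X)) (ha : a ∈ A) (haB : a ∉ B)
    (hh : g * a * g⁻¹ ∈ H) : g * a * g⁻¹ ∈ A := by
  by_contra hnA
  have hgH : g ∉ H := fun h => hnA (t.normal_H h ha)
  have hgi : g⁻¹ ∈ Subgroup.centralizer (B : Set X) := inv_mem hg
  have hgiH : g⁻¹ ∉ H := fun h => hgH (by simpa using inv_mem h)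
  obtain ⟨P, hP, -, hPc⟩ := t.exists_fix_mod hg ha haB hh
  set L := A.map (MulAut.conj g⁻¹).toMonoidHom ⊓ H with hL
  obtain ⟨hRc, hRi, hLc, hBR⟩ := t.img_facts hgi hgiH L rfl
  set R := t.toCtx.img L with hR
  have hRK : R ≤ K := t.toCtx.img_le L
  have hLH : L ≤ A ⊔ K := by rw [t.hsup]; exact inf_le_right
  have hBlt : Nat.card B < Nat.card A :=
    lt_of_le_of_ne (Subgroup.card_le_of_le t.B_le) fun e => haB
      (Subgroup.eq_of_le_of_card_ge t.B_le e.ge ▸ ha)
  have hPL : Nat.card P ≤ Nat.card B * Nat.card R := by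
    rw [← hLc, ← t.card_inf_map g]
    exact Subgroup.card_le_of_le hP
  have hA := t.card_A
  have hBpos : 0 < Nat.card B := Nat.card_pos
  have hmain : 2 ^ 20 ≤ Nat.card B * Nat.card R * Nat.card R := by
    have := hPc.trans (Nat.mul_le_mul hPL hPL)
    rw [hA] at this
    refine Nat.le_of_mul_le_mul_right (this.trans_eq ?_) hBpos
    ring
  obtain ⟨r0, hr0, h9, hR2, hfix⟩ := t.card_fix_inner hRK hRc hRi
  have hBf : Nat.card B ≤ 2 ^ fixBound r0 := (Subgroup.card_le_of_le hBR).trans hfix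
  rcases Nat.eq_zero_or_pos r0 with rfl | hpos
  · by_cases hbot : R = ⊥
    · rw [hbot, Subgroup.card_bot] at hmain
      omega
    · obtain ⟨⟨u, hu⟩, hu1⟩ := R.ne_bot_iff_exists_ne_one.1 hbot
      have hu1' : u ≠ 1 := fun e => hu1 (Subtype.ext e)
      have h1 := t.fix_outer (hRK hu) hu1'
      have h2 : Nat.card B ≤ Nat.card ↥(A ⊓ Subgroup.centralizer ({u} : Set X)) :=
        (Subgroup.card_le_of_le hBR).trans (Subgroup.card_le_of_le
          (inf_le_inf_left _ (Subgroup.centralizer_le (by simpa using hu))))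
      have h3 : Nat.card R * Nat.card R ≤ 2 * 2 := Nat.mul_le_mul (by simpa using hR2) (by simpa using hR2)
      have h4 := Nat.mul_le_mul h2 h3
      rw [← mul_assoc] at h4
      omega
  have hcases : r0 ≤ 7 ∨ r0 = 8 ∨ r0 = 9 := by omega
  have hsmall : r0 ≤ 7 → False := by
    intro h7
    have h3 := Nat.mul_le_mul (Nat.mul_le_mul hBf hR2) hR2
    have h4 := hmain.trans h3
    revert h4
    clear hr0 hR2 hfix hBf h3 h9 hcases
    interval_cases r0 <;> decide
  rcases hcases with h7 | hbig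
  · exact hsmall h7
  -- the tight cases
  obtain ⟨hR'c, hR'i, hL'c, hBR'⟩ := t.img_facts hg hgH (A.map (MulAut.conj g).toMonoidHom ⊓ H) rfl
  set R' := t.toCtx.img (A.map (MulAut.conj g).toMonoidHom ⊓ H) with hR'
  set P' := A ⊓ H.map (MulAut.conj g⁻¹).toMonoidHom with hP'
  have hP'c : Nat.card P' = Nat.card B * Nat.card R' := by
    rw [hP', t.card_inf_map g⁻¹, inv_inv, hL'c]
  obtain ⟨r1, -, h19, hR'2, hfix'⟩ := t.card_fix_inner (t.toCtx.img_le _) hR'c hR'i
  have hBf' : Nat.card B ≤ 2 ^ fixBound r1 := (Subgroup.card_le_of_le hBR').trans hfix'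
  have hB4 : Nat.card B ≤ 4 := hBf.trans (by rcases hbig with rfl | rfl <;> decide)
  have hP'11 : Nat.card P' ≤ 2 ^ 11 := by
    rw [hP'c]
    rcases Nat.lt_or_ge r1 9 with h | h
    · refine (Nat.mul_le_mul hB4 hR'2).trans ?_
      have : (2 : ℕ) ^ r1 ≤ 2 ^ 8 := Nat.pow_le_pow_right (by norm_num) (by omega)
      omega
    · obtain rfl : r1 = 9 := by omega
      exact (Nat.mul_le_mul hBf' hR'2).trans (by decide)
  have hfixle : ∀ k ∈ R ⊓ K0, k ≠ 1 → A ⊓ Subgroup.centralizer ({k} : Set X) ≤ P' := by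
    rintro k ⟨hkR, -⟩ hk1
    obtain ⟨hkK, b, hb, hbk⟩ := (t.toCtx.mem_img hLH).1 hkR
    obtain ⟨⟨a'', ha'', he⟩, hbkH⟩ := hbk
    have he' : g⁻¹ * a'' * g⁻¹⁻¹ = b * k := he
    have ha''B : a'' ∉ B := by
      intro haB''
      apply hk1
      have hAk : b * k = a'' := by
        rw [← he', Subgroup.mem_centralizer_iff.1 hgi a'' haB'' |>.symm, mul_inv_cancel_right]
      exact t.toCtx.eq_one_of_mem ((Subgroup.mul_mem_cancel_left _ hb).1 (hAk ▸ t.B_le haB'')) hkK
    obtain ⟨P2, hP2, hP2f, -⟩ := t.exists_fix_mod hgi ha'' ha''B (he' ▸ hbkH)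
    refine le_trans ?_ (hP2f.trans hP2)
    rintro z ⟨hzA, hz⟩
    refine ⟨hzA, Subgroup.mem_centralizer_singleton_iff.2 ?_⟩
    rw [he']
    exact ((t.toCtx.commute_comp hb hzA).2
      (Subgroup.mem_centralizer_singleton_iff.1 hz).symm).symm
  have hfix10 : ∀ k ∈ R ⊓ K0, 2 ^ 10 ≤ Nat.card ↥(A ⊓ Subgroup.centralizer ({k} : Set X)) := by
    intro k hk
    by_contra hlt
    push Not at hlt
    have := t.card_A_le_fix (hRK hk.1) (hRi k hk.1)
    rw [hA] at this
    nlinarith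
  obtain ⟨k0, hk0, hk01⟩ : ∃ k ∈ R ⊓ K0, k ≠ 1 := by
    by_contra hcon
    push Not at hcon
    have : R ⊓ K0 = ⊥ := (Subgroup.eq_bot_iff_forall _).2 hcon
    rw [this, Subgroup.card_bot] at hr0
    rcases hbig with rfl | rfl <;> norm_num at hr0
  have hP'10 : 2 ^ 10 ≤ Nat.card P' := (hfix10 k0 hk0).trans (Subgroup.card_le_of_le (hfixle k0 hk0 hk01))
  have hFle : Nat.card ↥(P' ⊓ Subgroup.centralizer ((R ⊓ K0 : Subgroup X) : Set X)) ≤ 2 ^ fixBound r0 := by
    obtain ⟨-, hb⟩ := t.small (R ⊓ K0) inf_le_right (fun a ha b hb => hRc a ha.1 b hb.1)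
      (fun a ha => hRi a ha.1) r0 hr0
    exact (Subgroup.card_le_of_le (inf_le_inf_right _ inf_le_left)).trans hb
  have hinf : ∀ k ∈ R ⊓ K0, k ≠ 1 →
      A ⊓ Subgroup.centralizer ({k} : Set X) ≤ P' ⊓ Subgroup.centralizer ({k} : Set X) :=
    fun k hk hk1 => le_inf (hfixle k hk hk1) inf_le_right
  have h5 := t.le_card_inter (P := P') r0 (R ⊓ K0) hr0 (fun a ha => hRi a ha.1) fun k hk hk1 => by
    have h6 := (hfix10 k hk).trans (Subgroup.card_le_of_le (hinf k hk hk1))
    omega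
  rcases Nat.eq_or_lt_of_le hP'10 with heq | hgt
  · -- all fixed spaces are equal to `P'`
    have hall : P' ≤ Subgroup.centralizer ((R ⊓ K0 : Subgroup X) : Set X) := by
      intro z hz
      refine Subgroup.mem_centralizer_iff.2 fun k hk => ?_
      rcases eq_or_ne k 1 with rfl | hk1
      · rw [one_mul, mul_one]
      have hsub : P' ⊓ Subgroup.centralizer ({k} : Set X) = P' := by
        refine Subgroup.eq_of_le_of_card_ge inf_le_left ?_
        rw [← heq]
        exact (hfix10 k hk).trans (Subgroup.card_le_of_le (hinf k hk hk1))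
      rw [← hsub] at hz
      exact (Subgroup.mem_centralizer_singleton_iff.1 hz.2).symm
    rw [inf_eq_left.2 hall, ← heq] at hFle
    rcases hbig with rfl | rfl <;> norm_num [fixBound] at hFle
  · have h6 := h5.trans (Nat.mul_le_mul le_rfl hFle)
    rcases hbig with rfl | rfl <;> norm_num [fixBound] at h6 <;> omega

/-- The alternative of the induction step. -/
theorem le_or_transitive :
    Subgroup.centralizer (B : Set X) ≤ H ∨
      ∃ a ∈ A, a ∉ B ∧ ∀ b ∈ A, b ∉ B →
        ∃ m ∈ Subgroup.centralizer (B : Set X) ⊓ H, m * a * m⁻¹ * b⁻¹ ∈ B := by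
  by_cases hex : ∃ a ∈ A, a ∉ B ∧ ∃ g ∈ Subgroup.centralizer (B : Set X), g * a * g⁻¹ ∉ H
  swap
  · left
    push Not at hex
    intro g hg
    refine t.mem_of_map_le ?_
    rintro _ ⟨z, hz, rfl⟩
    show g * z * g⁻¹ ∈ H
    by_cases hzB : z ∈ B
    · rw [← Subgroup.mem_centralizer_iff.1 hg z hzB, mul_inv_cancel_right]
      exact t.A_le hz
    · exact hex z hz hzB g hg
  obtain ⟨a, ha, haB, g, hg, hgH⟩ := hex
  refine Or.inr ⟨a, ha, haB, fun b hb hbB => ?_⟩
  set C := Subgroup.centralizer (B : Set X) with hC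
  have hB' : (B.subgroupOf C).Normal := ⟨fun n hn z => by
    rwa [show z * n * z⁻¹ = n from Subtype.ext (by
      show (z : X) * n * (z : X)⁻¹ = n
      rw [← Subgroup.mem_centralizer_iff.1 z.2 (n : X) (Subgroup.mem_subgroupOf.1 hn), mul_inv_cancel_right])]⟩
  let π := QuotientGroup.mk' (B.subgroupOf C)
  have hπ : ∀ x y : ↥C, π x = π y ↔ (x : X) * (y : X)⁻¹ ∈ B := fun x y => by
    rw [← mul_inv_eq_one, ← map_inv, ← map_mul]
    exact QuotientGroup.eq_one_iff (N := B.subgroupOf C) (x * y⁻¹)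
  let bC : ↥C := ⟨b, t.A_le_cent hb⟩
  let gC : ↥C := ⟨g, hg⟩
  let aC : ↥C := ⟨a, t.A_le_cent ha⟩
  have hsqb : π bC * π bC = 1 := by
    rw [← map_mul, show bC * bC = 1 from Subtype.ext (t.invol b hb), map_one]
  have hsqa : π (gC * aC * gC⁻¹) * π (gC * aC * gC⁻¹) = 1 := by
    rw [← map_mul, show gC * aC * gC⁻¹ * (gC * aC * gC⁻¹) = gC * (aC * aC) * gC⁻¹ by group,
      show aC * aC = 1 from Subtype.ext (t.invol a ha), mul_one, mul_inv_cancel, map_one]
  rcases dihedral_cases hsqb hsqa with ⟨w, hw⟩ | ⟨c, hc1, hcu, hcv, hconj⟩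
  · obtain ⟨q, rfl⟩ := QuotientGroup.mk'_surjective (B.subgroupOf C) w
    rw [← map_mul, ← map_inv, ← map_mul, hπ] at hw
    have hm : ((q : X) * g) * a * ((q : X) * g)⁻¹ * b⁻¹ ∈ B := by
      have e : ((q : X) * g) * a * ((q : X) * g)⁻¹ = (q : X) * (g * a * g⁻¹) * (q : X)⁻¹ := by group
      rw [e]
      exact hw
    exact ⟨(q : X) * g, ⟨mul_mem q.2 hg, t.mem_of_conj (mul_mem q.2 hg) ha hb hbB hm⟩, hm⟩
  · exfalso
    obtain ⟨cC, rfl⟩ := QuotientGroup.mk'_surjective (B.subgroupOf C) c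
    have hcH : (cC : X) ∈ H := by
      have h1 := (hπ (bC * cC) (cC * bC)).1 (by rw [map_mul, map_mul]; exact hcu)
      refine t.mem_of_conj cC.2 hb hb hbB ?_
      rw [Subgroup.coe_mul, Subgroup.coe_mul] at h1
      have h2 : (cC : X) * b * (cC : X)⁻¹ * b⁻¹ = ((bC : X) * cC * ((cC : X) * bC)⁻¹)⁻¹ := by
        show (cC : X) * b * (cC : X)⁻¹ * b⁻¹ = (b * cC * ((cC : X) * b)⁻¹)⁻¹
        group
      rw [h2]
      exact inv_mem h1
    have hBH : B ≤ H := t.B_le.trans t.A_le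
    have hcA : (cC : X) ∈ A := by
      have key : ∀ (a' : X) (q : ↥C), a' ∈ A → a' ∉ B →
          (q : X) * a' * (q : X)⁻¹ * (b * (cC : X))⁻¹ ∈ B → (cC : X) ∈ A := by
        intro a' q ha' ha'B hq
        have hmemH : (q : X) * a' * (q : X)⁻¹ ∈ H := by
          have := mul_mem (hBH hq) (mul_mem (t.A_le hb) hcH)
          simpa [mul_assoc] using this
        have hA' := t.mem_A_of_conj q.2 ha' ha'B hmemH
        have h1 : b * (cC : X) ∈ A := by
          have := mul_mem (inv_mem (t.B_le hq)) hA'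
          simpa [mul_assoc] using this
        exact (Subgroup.mul_mem_cancel_left A hb).1 h1
      rcases hconj with ⟨w, hw⟩ | ⟨w, hw⟩
      · obtain ⟨q, rfl⟩ := QuotientGroup.mk'_surjective (B.subgroupOf C) w
        rw [← map_mul, ← map_inv, ← map_mul, ← map_mul, hπ] at hw
        exact key b q hb hbB hw
      · obtain ⟨q, rfl⟩ := QuotientGroup.mk'_surjective (B.subgroupOf C) w
        rw [← map_mul, ← map_inv, ← map_mul, ← map_mul, hπ] at hw
        refine key a (q * gC) ha haB ?_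
        have e : ((q * gC : ↥C) : X) * a * ((q * gC : ↥C) : X)⁻¹ = (q : X) * (g * a * g⁻¹) * (q : X)⁻¹ := by
          show ((q : X) * g) * a * ((q : X) * g)⁻¹ = _
          group
        rw [e]
        exact hw
    have hcB : (cC : X) ∉ B := fun h => hc1 ((QuotientGroup.eq_one_iff _).2 h)
    apply hgH
    refine t.mem_of_conj (mul_mem (mul_mem hg (t.A_le_cent ha)) (inv_mem hg)) hcA hcA hcB ?_
    have h1 := (hπ (gC * aC * gC⁻¹ * cC) (cC * (gC * aC * gC⁻¹))).1 (by rw [map_mul, map_mul _ cC]; exact hcv)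
    rw [Subgroup.coe_mul, Subgroup.coe_mul] at h1
    have e : g * a * g⁻¹ * (cC : X) * (g * a * g⁻¹)⁻¹ * (cC : X)⁻¹ =
        g * a * g⁻¹ * (cC : X) * ((cC : X) * (g * a * g⁻¹))⁻¹ := by group
    rw [e]
    exact h1

end Step

end Cfsg.Lib.UnitarySixModule
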