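import Cfsg.Agent.Lib.UnitarySixModule.Grading

/-!
# The unipotent subgroup in the graded basis

The fifteen root elements generate a 2-group of order at least `2 ^ 15`, and every element of the tail starting at a
block has a leading part that is a combination of those of the block.
-/

set_option autoImplicit false
set_option linter.unusedSectionVars false
set_option maxRecDepth 100000

namespace Cfsg.Lib.UnitarySixModule

open Cfsg.Lib.CosetEnum

/-- A product of root matrices. -/
def rootProd : List ℕ → List ℕ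
  | [] => oneM
  | j :: w => mulM (colL [] rootMats j) (rootProd w)

theorem grade_inv : (∀ i : Fin 20, app gradeBasis (col gradeInv i.1) = 2 ^ i.1) ∧ gradeInv.length = 20 ∧
    gradeBasis.length = 20 ∧ Small gradeInv = true := by decide +kernel

theorem root_change : ∀ j : Fin 15, (colL [] rootWords j.1).all (fun g => Nat.ble g 10) = true ∧
    (let M := wordMat (colL [] rootWords j.1)
     ∀ i : Fin 20, app M (col gradeBasis i.1) = app gradeBasis (col (colL [] rootMats j.1) i.1)) ∧
    Small (colL [] rootMats j.1) = true := by decide +kernel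

theorem root_rel : ∀ j : Fin 15, ∀ i : Fin 15, j.1 < i.1 →
    ((colL [] (colL [] rootConj j.1) (i.1 - j.1 - 1)).all (fun k => Nat.blt j.1 k && Nat.blt k 15) = true ∧
      mulM (colL [] rootMats j.1) (colL [] rootMats i.1) =
        mulM (rootProd (colL [] (colL [] rootConj j.1) (i.1 - j.1 - 1))) (colL [] rootMats j.1)) := by
  decide +kernel

theorem root_sq : ∀ j : Fin 15, (colL [] rootSquare j.1).all (fun k => Nat.blt j.1 k && Nat.blt k 15) = true ∧
    mulM (colL [] rootMats j.1) (colL [] rootMats j.1) = rootProd (colL [] rootSquare j.1) := by decide +kernel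

/-- The block of a root element. -/
def blockOf : ℕ → ℕ
  | 0 => 0 | 1 => 1 | 2 => 1 | 3 => 2 | 4 => 2 | 5 => 3 | 6 => 4 | 7 => 4 | 8 => 5 | 9 => 5 | 10 => 6 | 11 => 6
  | 12 => 7 | 13 => 7 | _ => 8

theorem root_good : ∀ j : Fin 15,
    goodOk (blockOf j.1) (2 ^ (j.1 - blockStart (blockOf j.1))) (colL [] rootMats j.1) = true := by
  decide +kernel

theorem block_facts : ∀ q : Fin 9, blockStart q.1 + blockSize q.1 = blockStart (q.1 + 1) ∧ 1 ≤ blockSize q.1 ∧
    blockSize q.1 ≤ 2 ∧ blockStart (q.1 + 1) ≤ 15 ∧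
    ∀ j : Fin 15, blockStart (q.1 + 1) ≤ j.1 → q.1 < blockOf j.1 := by decide +kernel

theorem block_of : ∀ j : Fin 15, blockOf j.1 < 9 ∧ blockStart (blockOf j.1) ≤ j.1 ∧
    j.1 < blockStart (blockOf j.1 + 1) := by decide +kernel

theorem psi_indep : ∀ q : Fin 9, ∀ c : Fin 4, c.1 ≠ 0 → c.1 < 2 ^ blockSize q.1 →
    ∃ i : Fin 20, app (psiMat q.1 c.1) (2 ^ i.1) ≠ 0 := by decide +kernel

section

variable {X : Type*} [Group X] [Finite X] {A : Subgroup X} {b : ℕ → X}

/-- The graded basis of the module. -/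
noncomputable def gbasis (b : ℕ → X) : ℕ → X := fun i => eval b (col gradeBasis i)

theorem eval_gbasis (c : Coord A b) (v : ℕ) : eval b (app gradeBasis v) = eval (gbasis b) v := by
  rw [app, eval_appAux c.toSys (c := gbasis b) (k := (1 : X)) gradeBasis 0 v
    (by rw [grade_inv.2.2.1]) (fun i _ => by simp [gbasis]), grade_inv.2.2.1, eval, evalTo_prod]
  simp

theorem coord_gbasis (c : Coord A b) : Coord A (gbasis b) := by
  refine ⟨⟨c.comm, c.invol, fun i _ => eval_mem c.toSys _⟩, c.card, fun x hx => ?_⟩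
  obtain ⟨v, hv, rfl⟩ := c.spans x hx
  refine ⟨app gradeInv v, Small.app_lt grade_inv.2.2.2 v, ?_⟩
  rw [← eval_gbasis c]
  congr 1
  refine linear_ext (g := fun v => app gradeBasis (app gradeInv v)) (h := fun v => v)
    (fun p q => by rw [app_xor, app_xor]) (fun p q => rfl) 20 (fun i hi => ?_) v hv
  have : ∀ i : Fin 20, app gradeBasis (app gradeInv (2 ^ i.1)) = 2 ^ i.1 := by decide +kernel
  exact this ⟨i, hi⟩

theorem acts_change (c : Coord A b) {k : X} {M N : List ℕ} (hk : Acts b k M) (hN : N.length = 20)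
    (h : ∀ i, i < 20 → app M (col gradeBasis i) = app gradeBasis (col N i)) : Acts (gbasis b) k N := by
  refine ⟨hN, fun i hi => ?_⟩
  rw [← eval_gbasis c, ← h i hi, gbasis, hk.apply c.toSys]

/-- The module in the graded basis with the root elements. -/
structure Roots (A : Subgroup X) (b : ℕ → X) (g : ℕ → X) : Prop extends Coord A b where
  acts : ∀ j, j < 15 → Acts b (g j) (colL [] rootMats j)
  faithful : ∀ x, x ∈ Subgroup.closure (g '' {j | j < 15}) → Acts b x oneM → x = 1

variable {g : ℕ → X}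

/-- The tail of the root elements. -/
def tail (g : ℕ → X) (j : ℕ) : Subgroup X := Subgroup.closure (g '' {i | j ≤ i ∧ i < 15})

theorem tail_le_zero (j : ℕ) : tail g j ≤ Subgroup.closure (g '' {i | i < 15}) :=
  Subgroup.closure_mono (Set.image_mono fun _ h => h.2)

theorem mem_tail {i j : ℕ} (h : j ≤ i) (hi : i < 15) : g i ∈ tail g j :=
  Subgroup.subset_closure ⟨i, ⟨h, hi⟩, rfl⟩

theorem tail_mono {i j : ℕ} (h : j ≤ i) : tail g i ≤ tail g j :=
  Subgroup.closure_mono (Set.image_mono fun _ hk => ⟨le_trans h hk.1, hk.2⟩)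

theorem tail_top : tail g 15 = ⊥ := by
  rw [tail, show {i : ℕ | 15 ≤ i ∧ i < 15} = ∅ by ext i; simp, Set.image_empty, Subgroup.closure_empty]

variable (r : Roots A b g)
include r

theorem exists_mat {x : X} (hx : x ∈ Subgroup.closure (g '' {j | j < 15})) :
    ∃ M, Acts b x M ∧ Small M = true := by
  have hs : ∀ M N : List ℕ, Small M = true → Small N = true → Small (mulM M N) = true := by
    intro M N hM hN
    rw [Small, Bool.and_eq_true, List.all_eq_true] at hN ⊢
    refine ⟨by rw [mulM, List.length_map]; exact hN.1, fun y hy => ?_⟩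
    rw [mulM, List.mem_map] at hy
    obtain ⟨z, -, rfl⟩ := hy
    exact Nat.ble_eq_true_of_le (Small.app_lt hM z)
  induction hx using Subgroup.closure_induction_left with
  | one => exact ⟨oneM, acts_one r.toSys, by decide +kernel⟩
  | mul_left y hy z hz ih =>
    obtain ⟨i, hi, rfl⟩ := hy
    obtain ⟨N, hN1, hN2⟩ := ih
    exact ⟨_, (r.acts i hi).mul r.toSys hN1, hs _ _ (root_change ⟨i, hi⟩).2.2 hN2⟩
  | inv_mul_cancel y hy z hz ih =>
    obtain ⟨i, hi, rfl⟩ := hy
    obtain ⟨N, hN1, hN2⟩ := ih
    obtain ⟨P, hP1, hP2⟩ : ∃ P, Acts b (g i)⁻¹ P ∧ Small P = true := by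
      have hpow : ∀ n : ℕ, ∃ P, Acts b (g i ^ n) P ∧ Small P = true := fun n => by
        induction n with
        | zero => exact ⟨oneM, by rw [pow_zero]; exact acts_one r.toSys, by decide +kernel⟩
        | succ n ihn =>
          obtain ⟨P, hP1, hP2⟩ := ihn
          refine ⟨_, ?_, hs _ _ hP2 (root_change ⟨i, hi⟩).2.2⟩
          rw [pow_succ]
          exact hP1.mul r.toSys (r.acts i hi)
      have := hpow (orderOf (g i) - 1)
      rwa [show g i ^ (orderOf (g i) - 1) = (g i)⁻¹ by
        refine eq_inv_of_mul_eq_one_left ?_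
        rw [← pow_succ, show orderOf (g i) - 1 + 1 = orderOf (g i) by have := orderOf_pos (g i); omega,
          pow_orderOf_eq_one]] at this
    exact ⟨_, hP1.mul r.toSys hN1, hs _ _ hP2 hN2⟩

theorem eq_of_mat {x y : X} (hx : x ∈ Subgroup.closure (g '' {j | j < 15}))
    (hy : y ∈ Subgroup.closure (g '' {j | j < 15})) {M : List ℕ} (h1 : Acts b x M) (h2 : Acts b y M) : x = y := by
  have : x⁻¹ * y = 1 := by
    refine r.faithful _ (mul_mem (inv_mem hx) hy) ⟨by simp [oneM], fun i hi => ?_⟩
    have e : col oneM i = 2 ^ i := by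
      rw [col_eq, oneM, List.getD_eq_getElem _ _ (by simpa using hi), List.getElem_map, List.getElem_range]
    rw [e, eval_two_pow r.toSys hi, show x⁻¹ * y * b i * (x⁻¹ * y)⁻¹ = x⁻¹ * (y * b i * y⁻¹) * x by group,
      h2.2 i hi, ← h1.2 i hi]
    group
  exact inv_mul_eq_one.1 this

theorem prod_mem {j : ℕ} : ∀ w : List ℕ, w.all (fun k => Nat.blt j k && Nat.blt k 15) = true →
    (w.map g).prod ∈ tail g (j + 1) ∧ Acts b (w.map g).prod (rootProd w) := by
  intro w
  induction w with
  | nil => intro _; exact ⟨one_mem _, acts_one r.toSys⟩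
  | cons k w ih =>
    intro h
    rw [List.all_cons, Bool.and_eq_true, Bool.and_eq_true] at h
    obtain ⟨⟨h1, h2⟩, h3⟩ := h
    have h1' : j < k := by simpa [Nat.blt_eq] using h1
    have h2' : k < 15 := by simpa [Nat.blt_eq] using h2
    obtain ⟨a1, a2⟩ := ih h3
    exact ⟨by rw [List.map_cons, List.prod_cons]; exact mul_mem (mem_tail (by omega) h2') a1,
      (r.acts k h2').mul r.toSys a2⟩

theorem tail_step {j : ℕ} (hj : j < 15) :
    g j * g j ∈ tail g (j + 1) ∧ ∀ y ∈ tail g (j + 1), g j * y * (g j)⁻¹ ∈ tail g (j + 1) := by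
  have hgj : g j ∈ Subgroup.closure (g '' {i | i < 15}) := Subgroup.subset_closure ⟨j, hj, rfl⟩
  constructor
  · obtain ⟨hw, he⟩ := root_sq ⟨j, hj⟩
    obtain ⟨a1, a2⟩ := prod_mem r _ hw
    have : g j * g j = ((colL [] rootSquare j).map g).prod := by
      refine eq_of_mat r (mul_mem hgj hgj) (tail_le_zero _ a1) (M := rootProd (colL [] rootSquare j)) ?_ a2
      have h := (r.acts j hj).mul r.toSys (r.acts j hj)
      dsimp only at he
      rwa [he] at h
    rw [this]; exact a1
  · intro y hy
    induction hy using Subgroup.closure_induction with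
    | one => simp
    | mul u v _ _ hu hv =>
      rw [show g j * (u * v) * (g j)⁻¹ = (g j * u * (g j)⁻¹) * (g j * v * (g j)⁻¹) by group]
      exact mul_mem hu hv
    | inv u _ hu =>
      rw [show g j * u⁻¹ * (g j)⁻¹ = (g j * u * (g j)⁻¹)⁻¹ by group]
      exact inv_mem hu
    | mem u hu =>
      obtain ⟨i, ⟨hji, hi⟩, rfl⟩ := hu
      obtain ⟨hw, he⟩ := root_rel ⟨j, hj⟩ ⟨i, hi⟩ (by show j < i; omega)
      obtain ⟨a1, a2⟩ := prod_mem r _ hw
      have hgi : g i ∈ Subgroup.closure (g '' {i | i < 15}) := Subgroup.subset_closure ⟨i, hi, rfl⟩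
      have e : g j * g i = ((colL [] (colL [] rootConj j) (i - j - 1)).map g).prod * g j := by
        refine eq_of_mat r (mul_mem hgj hgi) (mul_mem (tail_le_zero _ a1) hgj)
          (M := mulM (rootProd (colL [] (colL [] rootConj j) (i - j - 1))) (colL [] rootMats j)) ?_
          (a2.mul r.toSys (r.acts j hj))
        have h := (r.acts j hj).mul r.toSys (r.acts i hi)
        dsimp only at he
        rwa [he] at h
      rw [e, mul_inv_cancel_right]
      exact a1

theorem mem_tail_iff {j : ℕ} (hj : j < 15) {x : X} (hx : x ∈ tail g j) :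
    x ∈ tail g (j + 1) ∨ ∃ y ∈ tail g (j + 1), x = g j * y := by
  obtain ⟨hsq, hconj⟩ := tail_step r hj
  set N := tail g (j + 1) with hN
  have hconj' : ∀ y ∈ N, (g j)⁻¹ * y * g j ∈ N := by
    intro y hy
    have e : (g j)⁻¹ * y * g j = (g j * g j)⁻¹ * (g j * y * (g j)⁻¹) * (g j * g j) := by group
    rw [e]
    exact mul_mem (mul_mem (inv_mem hsq) (hconj y hy)) hsq
  let S : Subgroup X :=
    { carrier := {x | x ∈ N ∨ ∃ y ∈ N, x = g j * y}
      one_mem' := Or.inl (one_mem _)
      mul_mem' := by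
        rintro p q (hp | ⟨y, hy, rfl⟩) (hq | ⟨z, hz, rfl⟩)
        · exact Or.inl (mul_mem hp hq)
        · exact Or.inr ⟨((g j)⁻¹ * p * g j) * z, mul_mem (hconj' p hp) hz, by group⟩
        · exact Or.inr ⟨y * q, mul_mem hy hq, by group⟩
        · refine Or.inl ?_
          rw [show g j * y * (g j * z) = (g j * y * (g j)⁻¹) * (g j * g j) * z by group]
          exact mul_mem (mul_mem (hconj y hy) hsq) hz
      inv_mem' := by
        rintro p (hp | ⟨y, hy, rfl⟩)
        · exact Or.inl (inv_mem hp)
        · refine Or.inr ⟨((g j * g j)⁻¹ * (g j * y⁻¹ * (g j)⁻¹)), mul_mem (inv_mem hsq) (hconj _ (inv_mem hy)), by group⟩ }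
  have hle : tail g j ≤ S := by
    rw [tail, Subgroup.closure_le]
    rintro _ ⟨i, ⟨hji, hi⟩, rfl⟩
    rcases eq_or_lt_of_le hji with rfl | hlt
    · exact Or.inr ⟨1, one_mem _, (mul_one _).symm⟩
    · exact Or.inl (mem_tail (by omega) hi)
  exact hle hx

/-- Leading parts of elements of a tail. -/
def HasLead (b : ℕ → X) (q c : ℕ) (x : X) : Prop := ∃ M, Acts b x M ∧ Small M = true ∧ Good q c M

theorem lead_mul {q c d : ℕ} (hq : q < 9) (hc : c < 4) (hd : d < 4) {x y : X} (hx : HasLead b q c x)
    (hy : HasLead b q d y) : HasLead b q (Nat.xor c d) (x * y) := by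
  obtain ⟨M, hM, hMs, hMg⟩ := hx
  obtain ⟨N, hN, hNs, hNg⟩ := hy
  refine ⟨_, hM.mul r.toSys hN, ?_, hMg.mul hq hc hd hN.1 hNg⟩
  rw [Small, Bool.and_eq_true, List.all_eq_true] at hNs ⊢
  refine ⟨by rw [mulM, List.length_map]; exact hNs.1, fun y hy => ?_⟩
  rw [mulM, List.mem_map] at hy
  obtain ⟨z, -, rfl⟩ := hy
  exact Nat.ble_eq_true_of_le (Small.app_lt hMs z)

theorem lead_zero_tail {q : ℕ} (hq : q < 9) {x : X} (hx : x ∈ tail g (blockStart (q + 1))) : HasLead b q 0 x := by
  have hgen : ∀ i, blockStart (q + 1) ≤ i → i < 15 → HasLead b q 0 (g i) := fun i h1 h2 =>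
    ⟨_, r.acts i h2, (root_change ⟨i, h2⟩).2.2,
      (good_of_ok (root_good ⟨i, h2⟩)).weaken ((block_facts ⟨q, hq⟩).2.2.2.2 ⟨i, h2⟩ h1) (block_of ⟨i, h2⟩).1⟩
  have hone : HasLead b q 0 (1 : X) := ⟨oneM, acts_one r.toSys, by decide +kernel, good_one⟩
  induction hx using Subgroup.closure_induction_left with
  | one => exact hone
  | mul_left y hy z hz ih =>
    obtain ⟨i, ⟨h1, h2⟩, rfl⟩ := hy
    exact lead_mul r hq (c := 0) (d := 0) (by norm_num) (by norm_num) (hgen i h1 h2) ih
  | inv_mul_cancel y hy z hz ih =>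
    obtain ⟨i, ⟨h1, h2⟩, rfl⟩ := hy
    have hpow : ∀ n : ℕ, HasLead b q 0 (g i ^ n) := fun n => by
      induction n with
      | zero => rw [pow_zero]; exact hone
      | succ n ihn => rw [pow_succ]; exact lead_mul r hq (c := 0) (d := 0) (by norm_num) (by norm_num) ihn (hgen i h1 h2)
    have hinv : g i ^ (orderOf (g i) - 1) = (g i)⁻¹ := by
      refine eq_inv_of_mul_eq_one_left ?_
      rw [← pow_succ, show orderOf (g i) - 1 + 1 = orderOf (g i) by have := orderOf_pos (g i); omega,
        pow_orderOf_eq_one]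
    exact lead_mul r hq (c := 0) (d := 0) (by norm_num) (by norm_num) (hinv ▸ hpow _) ih

/-- An element of the tail at a block is a combination of the block and a later element. -/
theorem exists_lead {q : ℕ} (hq : q < 9) {x : X} (hx : x ∈ tail g (blockStart q)) :
    ∃ c, c < 2 ^ blockSize q ∧ HasLead b q c x ∧ (c = 0 → x ∈ tail g (blockStart (q + 1))) := by
  obtain ⟨hnext, hk1, hk2, hle, -⟩ := block_facts ⟨q, hq⟩
  dsimp only at hnext hk1 hk2 hle
  set j := blockStart q with hj
  have hg0 : HasLead b q 1 (g j) := by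
    have hb : blockOf j = q ∧ j - blockStart (blockOf j) = 0 := by
      have : ∀ q : Fin 9, blockOf (blockStart q.1) = q.1 ∧
          blockStart q.1 - blockStart (blockOf (blockStart q.1)) = 0 := by decide +kernel
      exact this ⟨q, hq⟩
    have h := good_of_ok (root_good ⟨j, by omega⟩)
    dsimp only at h
    rw [hb.1] at h hb
    rw [hb.2, pow_zero] at h
    exact ⟨_, r.acts j (by omega), (root_change ⟨j, by omega⟩).2.2, h⟩
  rcases Nat.eq_or_lt_of_le hk1 with hone | htwo
  · rw [← hone] at hnext ⊢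
    rcases mem_tail_iff r (by omega) hx with h | ⟨y, hy, rfl⟩
    · exact ⟨0, by norm_num, lead_zero_tail r hq (hnext ▸ h), fun _ => hnext ▸ h⟩
    · exact ⟨1, by norm_num, lead_mul r hq (c := 1) (d := 0) (by norm_num) (by norm_num) hg0
        (lead_zero_tail r hq (hnext ▸ hy)), fun h => by norm_num at h⟩
  · have htwo' : blockSize q = 2 := by omega
    rw [htwo'] at hnext ⊢
    have hg1 : HasLead b q 2 (g (j + 1)) := by
      have hb : blockOf (j + 1) = q := by
        have : ∀ q : Fin 9, blockSize q.1 = 2 → blockOf (blockStart q.1 + 1) = q.1 := by decide +kernel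
        exact this ⟨q, hq⟩ htwo'
      have h := good_of_ok (root_good ⟨j + 1, by omega⟩)
      dsimp only at h
      rw [hb, show j + 1 - blockStart q = 1 by omega, pow_one] at h
      exact ⟨_, r.acts (j + 1) (by omega), (root_change ⟨j + 1, by omega⟩).2.2, h⟩
    have hsecond : ∀ y ∈ tail g (j + 1),
        (y ∈ tail g (blockStart (q + 1))) ∨ HasLead b q 2 y := by
      intro y hy
      rcases mem_tail_iff r (by omega) hy with h | ⟨z, hz, rfl⟩
      · exact Or.inl (hnext ▸ h)
      · exact Or.inr (lead_mul r hq (c := 2) (d := 0) (by norm_num) (by norm_num) hg1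
          (lead_zero_tail r hq (hnext ▸ hz)))
    rcases mem_tail_iff r (by omega) hx with h | ⟨y, hy, rfl⟩
    · rcases hsecond x h with h' | h'
      · exact ⟨0, by norm_num, lead_zero_tail r hq h', fun _ => h'⟩
      · exact ⟨2, by norm_num, h', fun h => by norm_num at h⟩
    · rcases hsecond y hy with h' | h'
      · exact ⟨1, by norm_num, lead_mul r hq (c := 1) (d := 0) (by norm_num) (by norm_num) hg0
          (lead_zero_tail r hq h'), fun h => by norm_num at h⟩
      · exact ⟨3, by norm_num, lead_mul r hq (c := 1) (d := 2) (by norm_num) (by norm_num) hg0 h',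
          fun h => by norm_num at h⟩

theorem lead_unique {q c d : ℕ} (hq : q < 9) (hc : c < 2 ^ blockSize q) (hd : d < 2 ^ blockSize q) {x : X}
    (hx : HasLead b q c x) (hy : HasLead b q d x) : c = d := by
  have hk : 2 ^ blockSize q ≤ 4 := by
    have := (block_facts ⟨q, hq⟩).2.2.1
    exact le_trans (Nat.pow_le_pow_right (by norm_num) this) le_rfl
  by_contra hne
  have hxor0 : Nat.xor c d ≠ 0 := fun h => hne (Nat.xor_eq_zero_iff.1 h)
  have hxorlt : Nat.xor c d < 2 ^ blockSize q := Nat.xor_lt_two_pow hc hd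
  obtain ⟨i, hi⟩ := psi_indep ⟨q, hq⟩ ⟨Nat.xor c d, by omega⟩ hxor0 hxorlt
  apply hi
  obtain ⟨M, hM, hMs, hMg⟩ := hx
  obtain ⟨N, hN, hNs, hNg⟩ := hy
  have hMN : M = N := r.matrix_unique hM hN hMs hNs
  subst hMN
  show app (psiMat q (Nat.xor c d)) (2 ^ i.1) = 0
  rw [psi_xor hq (by omega) (by omega)]
  set m := col gradeDeg i.1 with hm
  have hat : Nat.land (2 ^ i.1) (atMask m) = 2 ^ i.1 ∧ Above m (2 ^ i.1) := by
    have : ∀ i : Fin 20, Nat.land (2 ^ i.1) (atMask (col gradeDeg i.1)) = 2 ^ i.1 ∧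
        Nat.land (2 ^ i.1) (geMask (col gradeDeg i.1)) = 2 ^ i.1 := by decide +kernel
    exact ⟨(this i).1, Nat.pow_lt_pow_right (by norm_num) i.2, (this i).2⟩
  have h1 := (hMg m _ hat.2).2
  have h2 := (hNg m _ hat.2).2
  rw [hat.1] at h1 h2
  rw [← h1, ← h2]
  exact Nat.xor_self _

theorem card_ge : 2 ^ 15 ≤ Nat.card ↥(tail g 0) := by
  have key : ∀ n, n ≤ 9 → 2 ^ (15 - blockStart (9 - n)) ≤ Nat.card ↥(tail g (blockStart (9 - n))) := by
    intro n
    induction n with
    | zero => intro _; show 2 ^ (15 - 15) ≤ _; exact Nat.card_pos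
    | succ n ih =>
      intro hn
      have ih' := ih (by omega)
      set q := 9 - (n + 1) with hq
      rw [show 9 - n = q + 1 by omega] at ih'
      obtain ⟨hnext, hk1, hk2, hle, -⟩ := block_facts ⟨q, by omega⟩
      dsimp only at hnext hk1 hk2 hle
      have hsurj : ∀ c, c < 2 ^ blockSize q → ∃ x ∈ tail g (blockStart q), HasLead b q c x := by
        have hg : ∀ i, i < blockSize q → HasLead b q (2 ^ i) (g (blockStart q + i)) ∧
            g (blockStart q + i) ∈ tail g (blockStart q) := by
          intro i hi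
          have hb : blockOf (blockStart q + i) = q := by
            have : ∀ q : Fin 9, ∀ i : Fin 2, i.1 < blockSize q.1 → blockOf (blockStart q.1 + i.1) = q.1 := by
              decide +kernel
            exact this ⟨q, by omega⟩ ⟨i, by omega⟩ hi
          have h := good_of_ok (root_good ⟨blockStart q + i, by omega⟩)
          dsimp only at h
          rw [hb, show blockStart q + i - blockStart q = i by omega] at h
          exact ⟨⟨_, r.acts _ (by omega), (root_change ⟨_, by omega⟩).2.2, h⟩, mem_tail (by omega) (by omega)⟩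
        intro c hc
        have hc4 : c < 4 := lt_of_lt_of_le hc (Nat.pow_le_pow_right (by norm_num) hk2)
        interval_cases c
        · exact ⟨1, one_mem _, oneM, acts_one r.toSys, by decide +kernel, good_one⟩
        · exact ⟨_, (hg 0 (by omega)).2, (hg 0 (by omega)).1⟩
        · have h1 : 1 < blockSize q := by
            by_contra h
            have := Nat.pow_le_pow_right (show 0 < 2 by norm_num) (not_lt.1 h)
            omega
          exact ⟨_, (hg 1 h1).2, (hg 1 h1).1⟩
        · have h1 : 1 < blockSize q := by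
            by_contra h
            have := Nat.pow_le_pow_right (show 0 < 2 by norm_num) (not_lt.1 h)
            omega
          exact ⟨_, mul_mem (hg 0 (by omega)).2 (hg 1 h1).2,
            lead_mul r (by omega) (c := 1) (d := 2) (by norm_num) (by norm_num) (hg 0 (by omega)).1 (hg 1 h1).1⟩
      choose rep hrep1 hrep2 using fun c : Fin (2 ^ blockSize q) => hsurj c.1 c.2
      let F : Fin (2 ^ blockSize q) × ↥(tail g (blockStart (q + 1))) → ↥(tail g (blockStart q)) :=
        fun p => ⟨rep p.1 * p.2.1, mul_mem (hrep1 p.1) (tail_mono (by omega) p.2.2)⟩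
      have hF : Function.Injective F := by
        rintro ⟨c, y⟩ ⟨d, z⟩ h
        have h' : rep c * y.1 = rep d * z.1 := congrArg Subtype.val h
        have hk4 : 2 ^ blockSize q ≤ 4 := Nat.pow_le_pow_right (by norm_num) hk2
        have e1 := lead_mul r (by omega) (c := c.1) (d := 0) (by omega) (by norm_num) (hrep2 c)
          (lead_zero_tail r (by omega) y.2)
        have e2 := lead_mul r (by omega) (c := d.1) (d := 0) (by omega) (by norm_num) (hrep2 d)
          (lead_zero_tail r (by omega) z.2)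
        rw [show Nat.xor c.1 0 = c.1 from Nat.xor_zero _] at e1
        rw [show Nat.xor d.1 0 = d.1 from Nat.xor_zero _, ← h'] at e2
        have hcd := Fin.ext (lead_unique r (by omega) c.2 d.2 e1 e2)
        subst hcd
        exact Prod.ext rfl (Subtype.ext (mul_left_cancel h'))
      have h3 := Nat.card_le_card_of_injective F hF
      rw [Nat.card_prod, Nat.card_fin] at h3
      refine le_trans ?_ h3
      rw [show 15 - blockStart q = blockSize q + (15 - blockStart (q + 1)) by omega, pow_add]
      exact Nat.mul_le_mul le_rfl ih'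
  exact key 9 le_rfl

theorem isTwoGroup : IsPGroup 2 ↥(tail g 0) := by
  intro ⟨x, hx⟩
  have key : ∀ n, n ≤ 15 → ∀ x ∈ tail g (15 - n), ∃ k : ℕ, x ^ 2 ^ k = 1 := by
    intro n
    induction n with
    | zero =>
      intro _ x hx
      rw [Nat.sub_zero, tail_top, Subgroup.mem_bot] at hx
      exact ⟨0, by simp [hx]⟩
    | succ n ih =>
      intro hn x hx
      set j := 15 - (n + 1) with hj
      have hj1 : 15 - n = j + 1 := by omega
      have hjlt : j < 15 := by omega
      have hsq : x * x ∈ tail g (j + 1) := by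
        obtain ⟨hs, hc⟩ := tail_step r hjlt
        rcases mem_tail_iff r hjlt hx with h | ⟨y, hy, rfl⟩
        · exact mul_mem h h
        · rw [show g j * y * (g j * y) = (g j * y * (g j)⁻¹) * (g j * g j) * y by group]
          exact mul_mem (mul_mem (hc y hy) hs) hy
      obtain ⟨k, hk⟩ := ih (by omega) (x * x) (hj1 ▸ hsq)
      exact ⟨k + 1, by rw [pow_succ', pow_mul, pow_two, hk]⟩
  obtain ⟨k, hk⟩ := key 15 le_rfl x hx
  exact ⟨k, Subtype.ext (by simpa using hk)⟩

end

end Cfsg.Lib.UnitarySixModule
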