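import Cfsg.Agent.Lib.CosetEnum.U62Geom

/-!
# Words in a monomial generating set of PSU(6, 2) and their matrices

Letters 0 to 4 are the transpositions of adjacent coordinates, 5 to 9 the diagonal matrices `(ω, ω²)` on adjacent
coordinates and 10 is the matrix `(ω^{ij})` on the first three coordinates.
-/

set_option autoImplicit false
set_option linter.unusedSectionVars false

namespace Cfsg.Lib.UnitarySixModule

open Matrix Cfsg.Lib.CosetEnum
open Cfsg.Lib.CosetEnum.GF4 (vec herm cmat transvection)

/-- The isotropic centres of the transvections whose product is a letter. -/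
def centres : ℕ → List ℕ
  | 0 => [5] | 1 => [20] | 2 => [80] | 3 => [320] | 4 => [1280]
  | 5 => [5, 9] | 6 => [20, 36] | 7 => [80, 144] | 8 => [320, 576] | 9 => [1280, 2304]
  | 10 => [65, 193, 105, 169]
  | _ => []

/-- An element of a list, zero beyond its end. -/
def get0 {α : Type} [Zero α] : List α → ℕ → α
  | [], _ => 0
  | a :: _, 0 => a
  | _ :: l, n + 1 => get0 l n

/-- A matrix as a list of rows. -/
def ofRows (L : List (List GF4)) : Matrix (Fin 6) (Fin 6) GF4 :=
  fun i j => match L[i.1]? with
    | some r => get0 r j.1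
    | none => 0

/-- The rows of a matrix. -/
def toRows (f : Fin 6 → Fin 6 → GF4) : List (List GF4) := List.ofFn fun i => List.ofFn fun j => f i j

theorem get0_ofFn {α : Type} [Zero α] : ∀ {n : ℕ} (f : Fin n → α) (i : Fin n), get0 (List.ofFn f) i.1 = f i
  | 0, _, i => i.elim0
  | n + 1, f, i => by
    rw [List.ofFn_succ]
    refine Fin.cases ?_ (fun j => ?_) i
    · rfl
    · rw [Fin.val_succ, get0]
      exact get0_ofFn (fun k => f k.succ) j

theorem ofRows_toRows (f : Fin 6 → Fin 6 → GF4) : ofRows (toRows f) = f := by
  funext i j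
  simp only [ofRows, toRows, List.getElem?_ofFn, dif_pos i.2]
  exact get0_ofFn _ j

/-- The product of two matrices given by rows. -/
def mulRows (A B : List (List GF4)) : List (List GF4) :=
  toRows fun i j => ofRows A i 0 * ofRows B 0 j + ofRows A i 1 * ofRows B 1 j + ofRows A i 2 * ofRows B 2 j +
    ofRows A i 3 * ofRows B 3 j + ofRows A i 4 * ofRows B 4 j + ofRows A i 5 * ofRows B 5 j

theorem ofRows_mul (A B : List (List GF4)) : ofRows (mulRows A B) = ofRows A * ofRows B := by
  rw [mulRows, ofRows_toRows]
  funext i j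
  rw [Matrix.mul_apply, Fin.sum_univ_six]

theorem vec_iso : ∀ g : Fin 11, ∀ c ∈ centres g.1, herm (vec c) (vec c) = 0 := by decide +kernel

/-- The element of SU for a list of centres. -/
noncomputable def suOf : List ℕ → Cfsg.SU 6 GF4 2
  | [] => 1
  | c :: l => if h : herm (vec c) (vec c) = 0 then transvection (vec c) h * suOf l else suOf l

/-- The rows of the matrix of a list of centres. -/
def rowsOf : List ℕ → List (List GF4)
  | [] => toRows fun i j => if i = j then 1 else 0
  | c :: l => if herm (vec c) (vec c) = 0 then mulRows (toRows (cmat (vec c))) (rowsOf l) else rowsOf l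

theorem suOf_mat : ∀ l : List ℕ,
    ((suOf l : Cfsg.SU 6 GF4 2).1 : Matrix (Fin 6) (Fin 6) GF4) = ofRows (rowsOf l)
  | [] => by
    rw [rowsOf, ofRows_toRows, suOf]
    ext i j
    simp [Matrix.one_apply]
  | c :: l => by
    rw [suOf, rowsOf]
    split_ifs
    · rw [ofRows_mul, show ofRows (toRows (cmat (vec c))) = cmat (vec c) from ofRows_toRows _, ← suOf_mat l]
      rfl
    · exact suOf_mat l

/-- A word as a list of centres. -/
def expand (w : List ℕ) : List ℕ := w.flatMap centres

theorem suOf_append : ∀ l l' : List ℕ, suOf (l ++ l') = suOf l * suOf l'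
  | [], l' => (one_mul _).symm
  | c :: l, l' => by
    simp only [List.cons_append, suOf]
    split_ifs <;> simp [suOf_append l l', mul_assoc]

/-- The element of PSU for a word. -/
noncomputable def pword (w : List ℕ) : Cfsg.PSU 6 GF4 2 := QuotientGroup.mk (suOf (expand w))

theorem pword_append (v w : List ℕ) : pword (v ++ w) = pword v * pword w := by
  rw [pword, expand, List.flatMap_append, suOf_append, QuotientGroup.mk_mul]
  rfl

theorem pword_nil : pword [] = 1 := rfl

/-- The rows of a letter. -/
def letterRows (g : ℕ) : List (List GF4) := rowsOf (centres g)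

/-- The matrix of a word, letter by letter. -/
def wordRows : List ℕ → List (List GF4)
  | [] => toRows fun i j => if i = j then 1 else 0
  | g :: w => mulRows (letterRows g) (wordRows w)

theorem word_mat : ∀ w : List ℕ,
    ((suOf (expand w) : Cfsg.SU 6 GF4 2).1 : Matrix (Fin 6) (Fin 6) GF4) = ofRows (wordRows w)
  | [] => suOf_mat []
  | g :: w => by
    rw [expand, List.flatMap_cons, suOf_append, wordRows, ofRows_mul, letterRows, ← suOf_mat,
      ← word_mat w]
    rfl

/-- Two words agree up to a scalar. -/
def relOk (v w : List ℕ) : Bool :=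
  [GF4.i, GF4.w, GF4.v].any fun l => decide (wordRows v = (wordRows w).map fun r => r.map (l * ·))

theorem ofRows_map (l : GF4) (L : List (List GF4)) : ofRows (L.map fun r => r.map (l * ·)) = l • ofRows L := by
  have key : ∀ (r : List GF4) (n : ℕ), get0 (r.map (l * ·)) n = l * get0 r n := by
    intro r
    induction r with
    | nil => intro n; simp [get0]
    | cons a r ih => intro n; cases n <;> simp [get0, ih]
  funext i j
  simp only [ofRows, List.getElem?_map, Matrix.smul_apply, smul_eq_mul]
  cases L[i.1]? with
  | none => simp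
  | some r => simp [key]

theorem rel_sound {v w : List ℕ} (h : relOk v w = true) : pword v = pword w := by
  rw [relOk, List.any_eq_true] at h
  obtain ⟨l, hl, he⟩ := h
  have hl0 : l ≠ 0 := by
    simp only [List.mem_cons, List.not_mem_nil, or_false] at hl
    rcases hl with rfl | rfl | rfl <;> decide
  have hmat := congrArg ofRows (of_decide_eq_true he)
  rw [ofRows_map, ← word_mat, ← word_mat] at hmat
  have hsu : suOf (expand v) = suOf (expand w) * GF4.scalar l hl0 := by
    refine Subtype.ext (Subtype.ext ?_)
    change ((suOf (expand v)).1 : Matrix (Fin 6) (Fin 6) GF4) =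
      ((suOf (expand w)).1 : Matrix (Fin 6) (Fin 6) GF4) * (l • (1 : Matrix (Fin 6) (Fin 6) GF4))
    rw [hmat, Matrix.mul_smul, Matrix.mul_one]
  have hc : GF4.scalar l hl0 ∈ Subgroup.center (Cfsg.SU 6 GF4 2) := by
    refine Subgroup.mem_center_iff.2 fun g => Subtype.ext (Subtype.ext ?_)
    change (g.1 : Matrix (Fin 6) (Fin 6) GF4) * (l • (1 : Matrix (Fin 6) (Fin 6) GF4)) =
      (l • (1 : Matrix (Fin 6) (Fin 6) GF4)) * (g.1 : Matrix (Fin 6) (Fin 6) GF4)
    rw [Matrix.mul_smul, Matrix.mul_one, Matrix.smul_mul, Matrix.one_mul]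
  show (QuotientGroup.mk (suOf (expand v)) : Cfsg.PSU 6 GF4 2) = QuotientGroup.mk (suOf (expand w))
  rw [hsu, QuotientGroup.mk_mul, (QuotientGroup.eq_one_iff _).2 hc, mul_one]

set_option maxRecDepth 100000 in
theorem smoke : relOk [10, 10, 10, 10] [] = true ∧ relOk [0, 1, 0] [1, 0, 1] = true ∧
    relOk [5, 5, 5] [] = true := by decide +kernel

end Cfsg.Lib.UnitarySixModule
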